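import Cfsg.Agent.Lib.Helper35.Fi23Tr.X.Data

set_option Elab.async false

namespace Cfsg.Agent.Lib.Helper35.Fi23Tr.X

open Cfsg.Agent.Lib.Helper35

theorem wc0 : allBelow (fun k => fw (Nat.add 0 k)) 23 = true := by decide +kernel
theorem wu0 : ∀ i, i < 23 → fw i = true := below_step fw 0 23 23 (below_zero fw) wc0 rfl
theorem wc1 : allBelow (fun k => fw (Nat.add 23 k)) 23 = true := by decide +kernel
theorem wu1 : ∀ i, i < 46 → fw i = true := below_step fw 23 23 46 wu0 wc1 rfl
theorem wc2 : allBelow (fun k => fw (Nat.add 46 k)) 23 = true := by decide +kernel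
theorem wu2 : ∀ i, i < 69 → fw i = true := below_step fw 46 23 69 wu1 wc2 rfl
theorem wc3 : allBelow (fun k => fw (Nat.add 69 k)) 23 = true := by decide +kernel
theorem wu3 : ∀ i, i < 92 → fw i = true := below_step fw 69 23 92 wu2 wc3 rfl
theorem wc4 : allBelow (fun k => fw (Nat.add 92 k)) 23 = true := by decide +kernel
theorem wu4 : ∀ i, i < 115 → fw i = true := below_step fw 92 23 115 wu3 wc4 rfl
theorem wc5 : allBelow (fun k => fw (Nat.add 115 k)) 23 = true := by decide +kernel
theorem wu5 : ∀ i, i < 138 → fw i = true := below_step fw 115 23 138 wu4 wc5 rfl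
theorem wc6 : allBelow (fun k => fw (Nat.add 138 k)) 23 = true := by decide +kernel
theorem wu6 : ∀ i, i < 161 → fw i = true := below_step fw 138 23 161 wu5 wc6 rfl
theorem wc7 : allBelow (fun k => fw (Nat.add 161 k)) 23 = true := by decide +kernel
theorem wu7 : ∀ i, i < 184 → fw i = true := below_step fw 161 23 184 wu6 wc7 rfl
theorem wc8 : allBelow (fun k => fw (Nat.add 184 k)) 23 = true := by decide +kernel
theorem wu8 : ∀ i, i < 207 → fw i = true := below_step fw 184 23 207 wu7 wc8 rfl
theorem wc9 : allBelow (fun k => fw (Nat.add 207 k)) 23 = true := by decide +kernel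
theorem wu9 : ∀ i, i < 230 → fw i = true := below_step fw 207 23 230 wu8 wc9 rfl
theorem wc10 : allBelow (fun k => fw (Nat.add 230 k)) 23 = true := by decide +kernel
theorem wu10 : ∀ i, i < 253 → fw i = true := below_step fw 230 23 253 wu9 wc10 rfl
theorem wc11 : allBelow (fun k => fw (Nat.add 253 k)) 23 = true := by decide +kernel
theorem wu11 : ∀ i, i < 276 → fw i = true := below_step fw 253 23 276 wu10 wc11 rfl
theorem wc12 : allBelow (fun k => fw (Nat.add 276 k)) 23 = true := by decide +kernel
theorem wu12 : ∀ i, i < 299 → fw i = true := below_step fw 276 23 299 wu11 wc12 rfl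
theorem wc13 : allBelow (fun k => fw (Nat.add 299 k)) 23 = true := by decide +kernel
theorem wu13 : ∀ i, i < 322 → fw i = true := below_step fw 299 23 322 wu12 wc13 rfl
theorem wc14 : allBelow (fun k => fw (Nat.add 322 k)) 23 = true := by decide +kernel
theorem wu14 : ∀ i, i < 345 → fw i = true := below_step fw 322 23 345 wu13 wc14 rfl
theorem wc15 : allBelow (fun k => fw (Nat.add 345 k)) 23 = true := by decide +kernel
theorem wu15 : ∀ i, i < 368 → fw i = true := below_step fw 345 23 368 wu14 wc15 rfl
theorem wc16 : allBelow (fun k => fw (Nat.add 368 k)) 23 = true := by decide +kernel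
theorem wu16 : ∀ i, i < 391 → fw i = true := below_step fw 368 23 391 wu15 wc16 rfl
theorem wc17 : allBelow (fun k => fw (Nat.add 391 k)) 23 = true := by decide +kernel
theorem wu17 : ∀ i, i < 414 → fw i = true := below_step fw 391 23 414 wu16 wc17 rfl
theorem wc18 : allBelow (fun k => fw (Nat.add 414 k)) 23 = true := by decide +kernel
theorem wu18 : ∀ i, i < 437 → fw i = true := below_step fw 414 23 437 wu17 wc18 rfl
theorem wc19 : allBelow (fun k => fw (Nat.add 437 k)) 23 = true := by decide +kernel
theorem wu19 : ∀ i, i < 460 → fw i = true := below_step fw 437 23 460 wu18 wc19 rfl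
theorem wc20 : allBelow (fun k => fw (Nat.add 460 k)) 23 = true := by decide +kernel
theorem wu20 : ∀ i, i < 483 → fw i = true := below_step fw 460 23 483 wu19 wc20 rfl
theorem wc21 : allBelow (fun k => fw (Nat.add 483 k)) 23 = true := by decide +kernel
theorem wu21 : ∀ i, i < 506 → fw i = true := below_step fw 483 23 506 wu20 wc21 rfl
theorem wc22 : allBelow (fun k => fw (Nat.add 506 k)) 23 = true := by decide +kernel
theorem wu22 : ∀ i, i < 529 → fw i = true := below_step fw 506 23 529 wu21 wc22 rfl
theorem wc23 : allBelow (fun k => fw (Nat.add 529 k)) 23 = true := by decide +kernel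
theorem wu23 : ∀ i, i < 552 → fw i = true := below_step fw 529 23 552 wu22 wc23 rfl
theorem wc24 : allBelow (fun k => fw (Nat.add 552 k)) 23 = true := by decide +kernel
theorem wu24 : ∀ i, i < 575 → fw i = true := below_step fw 552 23 575 wu23 wc24 rfl
theorem wc25 : allBelow (fun k => fw (Nat.add 575 k)) 23 = true := by decide +kernel
theorem wu25 : ∀ i, i < 598 → fw i = true := below_step fw 575 23 598 wu24 wc25 rfl
theorem wc26 : allBelow (fun k => fw (Nat.add 598 k)) 23 = true := by decide +kernel
theorem wu26 : ∀ i, i < 621 → fw i = true := below_step fw 598 23 621 wu25 wc26 rfl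
theorem wc27 : allBelow (fun k => fw (Nat.add 621 k)) 23 = true := by decide +kernel
theorem wu27 : ∀ i, i < 644 → fw i = true := below_step fw 621 23 644 wu26 wc27 rfl
theorem wc28 : allBelow (fun k => fw (Nat.add 644 k)) 23 = true := by decide +kernel
theorem wu28 : ∀ i, i < 667 → fw i = true := below_step fw 644 23 667 wu27 wc28 rfl
theorem wc29 : allBelow (fun k => fw (Nat.add 667 k)) 23 = true := by decide +kernel
theorem wu29 : ∀ i, i < 690 → fw i = true := below_step fw 667 23 690 wu28 wc29 rfl
theorem wc30 : allBelow (fun k => fw (Nat.add 690 k)) 23 = true := by decide +kernel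
theorem wu30 : ∀ i, i < 713 → fw i = true := below_step fw 690 23 713 wu29 wc30 rfl
theorem wc31 : allBelow (fun k => fw (Nat.add 713 k)) 23 = true := by decide +kernel
theorem wu31 : ∀ i, i < 736 → fw i = true := below_step fw 713 23 736 wu30 wc31 rfl
theorem wc32 : allBelow (fun k => fw (Nat.add 736 k)) 23 = true := by decide +kernel
theorem wu32 : ∀ i, i < 759 → fw i = true := below_step fw 736 23 759 wu31 wc32 rfl
theorem wc33 : allBelow (fun k => fw (Nat.add 759 k)) 23 = true := by decide +kernel
theorem wu33 : ∀ i, i < 782 → fw i = true := below_step fw 759 23 782 wu32 wc33 rfl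
theorem wc34 : allBelow (fun k => fw (Nat.add 782 k)) 23 = true := by decide +kernel
theorem wu34 : ∀ i, i < 805 → fw i = true := below_step fw 782 23 805 wu33 wc34 rfl
theorem wc35 : allBelow (fun k => fw (Nat.add 805 k)) 23 = true := by decide +kernel
theorem wu35 : ∀ i, i < 828 → fw i = true := below_step fw 805 23 828 wu34 wc35 rfl
theorem wc36 : allBelow (fun k => fw (Nat.add 828 k)) 23 = true := by decide +kernel
theorem wu36 : ∀ i, i < 851 → fw i = true := below_step fw 828 23 851 wu35 wc36 rfl
theorem wc37 : allBelow (fun k => fw (Nat.add 851 k)) 23 = true := by decide +kernel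
theorem wu37 : ∀ i, i < 874 → fw i = true := below_step fw 851 23 874 wu36 wc37 rfl
theorem wc38 : allBelow (fun k => fw (Nat.add 874 k)) 23 = true := by decide +kernel
theorem wu38 : ∀ i, i < 897 → fw i = true := below_step fw 874 23 897 wu37 wc38 rfl
theorem wc39 : allBelow (fun k => fw (Nat.add 897 k)) 23 = true := by decide +kernel
theorem wu39 : ∀ i, i < 920 → fw i = true := below_step fw 897 23 920 wu38 wc39 rfl
theorem wc40 : allBelow (fun k => fw (Nat.add 920 k)) 23 = true := by decide +kernel
theorem wu40 : ∀ i, i < 943 → fw i = true := below_step fw 920 23 943 wu39 wc40 rfl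
theorem wc41 : allBelow (fun k => fw (Nat.add 943 k)) 23 = true := by decide +kernel
theorem wu41 : ∀ i, i < 966 → fw i = true := below_step fw 943 23 966 wu40 wc41 rfl
theorem wc42 : allBelow (fun k => fw (Nat.add 966 k)) 23 = true := by decide +kernel
theorem wu42 : ∀ i, i < 989 → fw i = true := below_step fw 966 23 989 wu41 wc42 rfl
theorem wc43 : allBelow (fun k => fw (Nat.add 989 k)) 23 = true := by decide +kernel
theorem wu43 : ∀ i, i < 1012 → fw i = true := below_step fw 989 23 1012 wu42 wc43 rfl
theorem wc44 : allBelow (fun k => fw (Nat.add 1012 k)) 23 = true := by decide +kernel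
theorem wu44 : ∀ i, i < 1035 → fw i = true := below_step fw 1012 23 1035 wu43 wc44 rfl
theorem wc45 : allBelow (fun k => fw (Nat.add 1035 k)) 23 = true := by decide +kernel
theorem wu45 : ∀ i, i < 1058 → fw i = true := below_step fw 1035 23 1058 wu44 wc45 rfl
theorem wc46 : allBelow (fun k => fw (Nat.add 1058 k)) 23 = true := by decide +kernel
theorem wu46 : ∀ i, i < 1081 → fw i = true := below_step fw 1058 23 1081 wu45 wc46 rfl
theorem wc47 : allBelow (fun k => fw (Nat.add 1081 k)) 23 = true := by decide +kernel
theorem wu47 : ∀ i, i < 1104 → fw i = true := below_step fw 1081 23 1104 wu46 wc47 rfl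
theorem wc48 : allBelow (fun k => fw (Nat.add 1104 k)) 23 = true := by decide +kernel
theorem wu48 : ∀ i, i < 1127 → fw i = true := below_step fw 1104 23 1127 wu47 wc48 rfl
theorem wc49 : allBelow (fun k => fw (Nat.add 1127 k)) 23 = true := by decide +kernel
theorem wu49 : ∀ i, i < 1150 → fw i = true := below_step fw 1127 23 1150 wu48 wc49 rfl
theorem wc50 : allBelow (fun k => fw (Nat.add 1150 k)) 23 = true := by decide +kernel
theorem wu50 : ∀ i, i < 1173 → fw i = true := below_step fw 1150 23 1173 wu49 wc50 rfl
theorem wc51 : allBelow (fun k => fw (Nat.add 1173 k)) 23 = true := by decide +kernel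
theorem wu51 : ∀ i, i < 1196 → fw i = true := below_step fw 1173 23 1196 wu50 wc51 rfl
theorem wc52 : allBelow (fun k => fw (Nat.add 1196 k)) 23 = true := by decide +kernel
theorem wu52 : ∀ i, i < 1219 → fw i = true := below_step fw 1196 23 1219 wu51 wc52 rfl
theorem wc53 : allBelow (fun k => fw (Nat.add 1219 k)) 23 = true := by decide +kernel
theorem wu53 : ∀ i, i < 1242 → fw i = true := below_step fw 1219 23 1242 wu52 wc53 rfl
theorem wc54 : allBelow (fun k => fw (Nat.add 1242 k)) 23 = true := by decide +kernel
theorem wu54 : ∀ i, i < 1265 → fw i = true := below_step fw 1242 23 1265 wu53 wc54 rfl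
theorem wc55 : allBelow (fun k => fw (Nat.add 1265 k)) 23 = true := by decide +kernel
theorem wu55 : ∀ i, i < 1288 → fw i = true := below_step fw 1265 23 1288 wu54 wc55 rfl
theorem wc56 : allBelow (fun k => fw (Nat.add 1288 k)) 23 = true := by decide +kernel
theorem wu56 : ∀ i, i < 1311 → fw i = true := below_step fw 1288 23 1311 wu55 wc56 rfl
theorem wc57 : allBelow (fun k => fw (Nat.add 1311 k)) 23 = true := by decide +kernel
theorem wu57 : ∀ i, i < 1334 → fw i = true := below_step fw 1311 23 1334 wu56 wc57 rfl
theorem wc58 : allBelow (fun k => fw (Nat.add 1334 k)) 23 = true := by decide +kernel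
theorem wu58 : ∀ i, i < 1357 → fw i = true := below_step fw 1334 23 1357 wu57 wc58 rfl
theorem wc59 : allBelow (fun k => fw (Nat.add 1357 k)) 23 = true := by decide +kernel
theorem wu59 : ∀ i, i < 1380 → fw i = true := below_step fw 1357 23 1380 wu58 wc59 rfl
theorem wc60 : allBelow (fun k => fw (Nat.add 1380 k)) 23 = true := by decide +kernel
theorem wu60 : ∀ i, i < 1403 → fw i = true := below_step fw 1380 23 1403 wu59 wc60 rfl
theorem wc61 : allBelow (fun k => fw (Nat.add 1403 k)) 23 = true := by decide +kernel
theorem wu61 : ∀ i, i < 1426 → fw i = true := below_step fw 1403 23 1426 wu60 wc61 rfl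
theorem wc62 : allBelow (fun k => fw (Nat.add 1426 k)) 23 = true := by decide +kernel
theorem wu62 : ∀ i, i < 1449 → fw i = true := below_step fw 1426 23 1449 wu61 wc62 rfl
theorem wc63 : allBelow (fun k => fw (Nat.add 1449 k)) 23 = true := by decide +kernel
theorem wu63 : ∀ i, i < 1472 → fw i = true := below_step fw 1449 23 1472 wu62 wc63 rfl
theorem wc64 : allBelow (fun k => fw (Nat.add 1472 k)) 23 = true := by decide +kernel
theorem wu64 : ∀ i, i < 1495 → fw i = true := below_step fw 1472 23 1495 wu63 wc64 rfl
theorem wc65 : allBelow (fun k => fw (Nat.add 1495 k)) 23 = true := by decide +kernel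
theorem wu65 : ∀ i, i < 1518 → fw i = true := below_step fw 1495 23 1518 wu64 wc65 rfl
theorem wc66 : allBelow (fun k => fw (Nat.add 1518 k)) 23 = true := by decide +kernel
theorem wu66 : ∀ i, i < 1541 → fw i = true := below_step fw 1518 23 1541 wu65 wc66 rfl
theorem wc67 : allBelow (fun k => fw (Nat.add 1541 k)) 23 = true := by decide +kernel
theorem wu67 : ∀ i, i < 1564 → fw i = true := below_step fw 1541 23 1564 wu66 wc67 rfl
theorem wc68 : allBelow (fun k => fw (Nat.add 1564 k)) 23 = true := by decide +kernel
theorem wu68 : ∀ i, i < 1587 → fw i = true := below_step fw 1564 23 1587 wu67 wc68 rfl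
theorem wc69 : allBelow (fun k => fw (Nat.add 1587 k)) 23 = true := by decide +kernel
theorem wu69 : ∀ i, i < 1610 → fw i = true := below_step fw 1587 23 1610 wu68 wc69 rfl
theorem wc70 : allBelow (fun k => fw (Nat.add 1610 k)) 23 = true := by decide +kernel
theorem wu70 : ∀ i, i < 1633 → fw i = true := below_step fw 1610 23 1633 wu69 wc70 rfl
theorem wc71 : allBelow (fun k => fw (Nat.add 1633 k)) 23 = true := by decide +kernel
theorem wu71 : ∀ i, i < 1656 → fw i = true := below_step fw 1633 23 1656 wu70 wc71 rfl
theorem wc72 : allBelow (fun k => fw (Nat.add 1656 k)) 23 = true := by decide +kernel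
theorem wu72 : ∀ i, i < 1679 → fw i = true := below_step fw 1656 23 1679 wu71 wc72 rfl
theorem wc73 : allBelow (fun k => fw (Nat.add 1679 k)) 23 = true := by decide +kernel
theorem wu73 : ∀ i, i < 1702 → fw i = true := below_step fw 1679 23 1702 wu72 wc73 rfl
theorem wc74 : allBelow (fun k => fw (Nat.add 1702 k)) 23 = true := by decide +kernel
theorem wu74 : ∀ i, i < 1725 → fw i = true := below_step fw 1702 23 1725 wu73 wc74 rfl
theorem wc75 : allBelow (fun k => fw (Nat.add 1725 k)) 23 = true := by decide +kernel
theorem wu75 : ∀ i, i < 1748 → fw i = true := below_step fw 1725 23 1748 wu74 wc75 rfl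
theorem wc76 : allBelow (fun k => fw (Nat.add 1748 k)) 23 = true := by decide +kernel
theorem wu76 : ∀ i, i < 1771 → fw i = true := below_step fw 1748 23 1771 wu75 wc76 rfl
theorem wc77 : allBelow (fun k => fw (Nat.add 1771 k)) 23 = true := by decide +kernel
theorem wu77 : ∀ i, i < 1794 → fw i = true := below_step fw 1771 23 1794 wu76 wc77 rfl
theorem wc78 : allBelow (fun k => fw (Nat.add 1794 k)) 23 = true := by decide +kernel
theorem wu78 : ∀ i, i < 1817 → fw i = true := below_step fw 1794 23 1817 wu77 wc78 rfl
theorem wc79 : allBelow (fun k => fw (Nat.add 1817 k)) 23 = true := by decide +kernel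
theorem wu79 : ∀ i, i < 1840 → fw i = true := below_step fw 1817 23 1840 wu78 wc79 rfl
theorem wc80 : allBelow (fun k => fw (Nat.add 1840 k)) 23 = true := by decide +kernel
theorem wu80 : ∀ i, i < 1863 → fw i = true := below_step fw 1840 23 1863 wu79 wc80 rfl
theorem wc81 : allBelow (fun k => fw (Nat.add 1863 k)) 23 = true := by decide +kernel
theorem wu81 : ∀ i, i < 1886 → fw i = true := below_step fw 1863 23 1886 wu80 wc81 rfl
theorem wc82 : allBelow (fun k => fw (Nat.add 1886 k)) 23 = true := by decide +kernel
theorem wu82 : ∀ i, i < 1909 → fw i = true := below_step fw 1886 23 1909 wu81 wc82 rfl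
theorem wc83 : allBelow (fun k => fw (Nat.add 1909 k)) 23 = true := by decide +kernel
theorem wu83 : ∀ i, i < 1932 → fw i = true := below_step fw 1909 23 1932 wu82 wc83 rfl
theorem wc84 : allBelow (fun k => fw (Nat.add 1932 k)) 23 = true := by decide +kernel
theorem wu84 : ∀ i, i < 1955 → fw i = true := below_step fw 1932 23 1955 wu83 wc84 rfl
theorem wc85 : allBelow (fun k => fw (Nat.add 1955 k)) 23 = true := by decide +kernel
theorem wu85 : ∀ i, i < 1978 → fw i = true := below_step fw 1955 23 1978 wu84 wc85 rfl
theorem wc86 : allBelow (fun k => fw (Nat.add 1978 k)) 23 = true := by decide +kernel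
theorem wu86 : ∀ i, i < 2001 → fw i = true := below_step fw 1978 23 2001 wu85 wc86 rfl
theorem wc87 : allBelow (fun k => fw (Nat.add 2001 k)) 23 = true := by decide +kernel
theorem wu87 : ∀ i, i < 2024 → fw i = true := below_step fw 2001 23 2024 wu86 wc87 rfl
theorem wc88 : allBelow (fun k => fw (Nat.add 2024 k)) 23 = true := by decide +kernel
theorem wu88 : ∀ i, i < 2047 → fw i = true := below_step fw 2024 23 2047 wu87 wc88 rfl
theorem wc89 : allBelow (fun k => fw (Nat.add 2047 k)) 23 = true := by decide +kernel
theorem wu89 : ∀ i, i < 2070 → fw i = true := below_step fw 2047 23 2070 wu88 wc89 rfl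
theorem wc90 : allBelow (fun k => fw (Nat.add 2070 k)) 23 = true := by decide +kernel
theorem wu90 : ∀ i, i < 2093 → fw i = true := below_step fw 2070 23 2093 wu89 wc90 rfl
theorem wc91 : allBelow (fun k => fw (Nat.add 2093 k)) 23 = true := by decide +kernel
theorem wu91 : ∀ i, i < 2116 → fw i = true := below_step fw 2093 23 2116 wu90 wc91 rfl
theorem wc92 : allBelow (fun k => fw (Nat.add 2116 k)) 23 = true := by decide +kernel
theorem wu92 : ∀ i, i < 2139 → fw i = true := below_step fw 2116 23 2139 wu91 wc92 rfl
theorem wc93 : allBelow (fun k => fw (Nat.add 2139 k)) 23 = true := by decide +kernel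
theorem wu93 : ∀ i, i < 2162 → fw i = true := below_step fw 2139 23 2162 wu92 wc93 rfl
theorem wc94 : allBelow (fun k => fw (Nat.add 2162 k)) 23 = true := by decide +kernel
theorem wu94 : ∀ i, i < 2185 → fw i = true := below_step fw 2162 23 2185 wu93 wc94 rfl
theorem wc95 : allBelow (fun k => fw (Nat.add 2185 k)) 23 = true := by decide +kernel
theorem wu95 : ∀ i, i < 2208 → fw i = true := below_step fw 2185 23 2208 wu94 wc95 rfl
theorem wc96 : allBelow (fun k => fw (Nat.add 2208 k)) 23 = true := by decide +kernel
theorem wu96 : ∀ i, i < 2231 → fw i = true := below_step fw 2208 23 2231 wu95 wc96 rfl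
theorem wc97 : allBelow (fun k => fw (Nat.add 2231 k)) 23 = true := by decide +kernel
theorem wu97 : ∀ i, i < 2254 → fw i = true := below_step fw 2231 23 2254 wu96 wc97 rfl
theorem wc98 : allBelow (fun k => fw (Nat.add 2254 k)) 23 = true := by decide +kernel
theorem wu98 : ∀ i, i < 2277 → fw i = true := below_step fw 2254 23 2277 wu97 wc98 rfl
theorem wc99 : allBelow (fun k => fw (Nat.add 2277 k)) 23 = true := by decide +kernel
theorem wu99 : ∀ i, i < 2300 → fw i = true := below_step fw 2277 23 2300 wu98 wc99 rfl
theorem wc100 : allBelow (fun k => fw (Nat.add 2300 k)) 23 = true := by decide +kernel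
theorem wu100 : ∀ i, i < 2323 → fw i = true := below_step fw 2300 23 2323 wu99 wc100 rfl
theorem wc101 : allBelow (fun k => fw (Nat.add 2323 k)) 23 = true := by decide +kernel
theorem wu101 : ∀ i, i < 2346 → fw i = true := below_step fw 2323 23 2346 wu100 wc101 rfl
theorem wc102 : allBelow (fun k => fw (Nat.add 2346 k)) 23 = true := by decide +kernel
theorem wu102 : ∀ i, i < 2369 → fw i = true := below_step fw 2346 23 2369 wu101 wc102 rfl
theorem wc103 : allBelow (fun k => fw (Nat.add 2369 k)) 23 = true := by decide +kernel
theorem wu103 : ∀ i, i < 2392 → fw i = true := below_step fw 2369 23 2392 wu102 wc103 rfl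
theorem wc104 : allBelow (fun k => fw (Nat.add 2392 k)) 23 = true := by decide +kernel
theorem wu104 : ∀ i, i < 2415 → fw i = true := below_step fw 2392 23 2415 wu103 wc104 rfl
theorem wc105 : allBelow (fun k => fw (Nat.add 2415 k)) 23 = true := by decide +kernel
theorem wu105 : ∀ i, i < 2438 → fw i = true := below_step fw 2415 23 2438 wu104 wc105 rfl
theorem wc106 : allBelow (fun k => fw (Nat.add 2438 k)) 23 = true := by decide +kernel
theorem wu106 : ∀ i, i < 2461 → fw i = true := below_step fw 2438 23 2461 wu105 wc106 rfl
theorem wc107 : allBelow (fun k => fw (Nat.add 2461 k)) 23 = true := by decide +kernel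
theorem wu107 : ∀ i, i < 2484 → fw i = true := below_step fw 2461 23 2484 wu106 wc107 rfl
theorem wc108 : allBelow (fun k => fw (Nat.add 2484 k)) 23 = true := by decide +kernel
theorem wu108 : ∀ i, i < 2507 → fw i = true := below_step fw 2484 23 2507 wu107 wc108 rfl
theorem wc109 : allBelow (fun k => fw (Nat.add 2507 k)) 23 = true := by decide +kernel
theorem wu109 : ∀ i, i < 2530 → fw i = true := below_step fw 2507 23 2530 wu108 wc109 rfl
theorem wc110 : allBelow (fun k => fw (Nat.add 2530 k)) 23 = true := by decide +kernel
theorem wu110 : ∀ i, i < 2553 → fw i = true := below_step fw 2530 23 2553 wu109 wc110 rfl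
theorem wc111 : allBelow (fun k => fw (Nat.add 2553 k)) 23 = true := by decide +kernel
theorem wu111 : ∀ i, i < 2576 → fw i = true := below_step fw 2553 23 2576 wu110 wc111 rfl
theorem wc112 : allBelow (fun k => fw (Nat.add 2576 k)) 23 = true := by decide +kernel
theorem wu112 : ∀ i, i < 2599 → fw i = true := below_step fw 2576 23 2599 wu111 wc112 rfl
theorem wc113 : allBelow (fun k => fw (Nat.add 2599 k)) 23 = true := by decide +kernel
theorem wu113 : ∀ i, i < 2622 → fw i = true := below_step fw 2599 23 2622 wu112 wc113 rfl
theorem wc114 : allBelow (fun k => fw (Nat.add 2622 k)) 23 = true := by decide +kernel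
theorem wu114 : ∀ i, i < 2645 → fw i = true := below_step fw 2622 23 2645 wu113 wc114 rfl
theorem wc115 : allBelow (fun k => fw (Nat.add 2645 k)) 23 = true := by decide +kernel
theorem wu115 : ∀ i, i < 2668 → fw i = true := below_step fw 2645 23 2668 wu114 wc115 rfl
theorem wc116 : allBelow (fun k => fw (Nat.add 2668 k)) 23 = true := by decide +kernel
theorem wu116 : ∀ i, i < 2691 → fw i = true := below_step fw 2668 23 2691 wu115 wc116 rfl
theorem wc117 : allBelow (fun k => fw (Nat.add 2691 k)) 23 = true := by decide +kernel
theorem wu117 : ∀ i, i < 2714 → fw i = true := below_step fw 2691 23 2714 wu116 wc117 rfl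
theorem wc118 : allBelow (fun k => fw (Nat.add 2714 k)) 23 = true := by decide +kernel
theorem wu118 : ∀ i, i < 2737 → fw i = true := below_step fw 2714 23 2737 wu117 wc118 rfl
theorem wc119 : allBelow (fun k => fw (Nat.add 2737 k)) 23 = true := by decide +kernel
theorem wu119 : ∀ i, i < 2760 → fw i = true := below_step fw 2737 23 2760 wu118 wc119 rfl
theorem wc120 : allBelow (fun k => fw (Nat.add 2760 k)) 23 = true := by decide +kernel
theorem wu120 : ∀ i, i < 2783 → fw i = true := below_step fw 2760 23 2783 wu119 wc120 rfl
theorem wc121 : allBelow (fun k => fw (Nat.add 2783 k)) 23 = true := by decide +kernel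
theorem wu121 : ∀ i, i < 2806 → fw i = true := below_step fw 2783 23 2806 wu120 wc121 rfl
theorem wc122 : allBelow (fun k => fw (Nat.add 2806 k)) 23 = true := by decide +kernel
theorem wu122 : ∀ i, i < 2829 → fw i = true := below_step fw 2806 23 2829 wu121 wc122 rfl
theorem wc123 : allBelow (fun k => fw (Nat.add 2829 k)) 23 = true := by decide +kernel
theorem wu123 : ∀ i, i < 2852 → fw i = true := below_step fw 2829 23 2852 wu122 wc123 rfl
theorem wc124 : allBelow (fun k => fw (Nat.add 2852 k)) 23 = true := by decide +kernel
theorem wu124 : ∀ i, i < 2875 → fw i = true := below_step fw 2852 23 2875 wu123 wc124 rfl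
theorem wc125 : allBelow (fun k => fw (Nat.add 2875 k)) 23 = true := by decide +kernel
theorem wu125 : ∀ i, i < 2898 → fw i = true := below_step fw 2875 23 2898 wu124 wc125 rfl
theorem wc126 : allBelow (fun k => fw (Nat.add 2898 k)) 23 = true := by decide +kernel
theorem wu126 : ∀ i, i < 2921 → fw i = true := below_step fw 2898 23 2921 wu125 wc126 rfl
theorem wc127 : allBelow (fun k => fw (Nat.add 2921 k)) 23 = true := by decide +kernel
theorem wu127 : ∀ i, i < 2944 → fw i = true := below_step fw 2921 23 2944 wu126 wc127 rfl
theorem wc128 : allBelow (fun k => fw (Nat.add 2944 k)) 23 = true := by decide +kernel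
theorem wu128 : ∀ i, i < 2967 → fw i = true := below_step fw 2944 23 2967 wu127 wc128 rfl
theorem wc129 : allBelow (fun k => fw (Nat.add 2967 k)) 23 = true := by decide +kernel
theorem wu129 : ∀ i, i < 2990 → fw i = true := below_step fw 2967 23 2990 wu128 wc129 rfl
theorem wc130 : allBelow (fun k => fw (Nat.add 2990 k)) 23 = true := by decide +kernel
theorem wu130 : ∀ i, i < 3013 → fw i = true := below_step fw 2990 23 3013 wu129 wc130 rfl
theorem wc131 : allBelow (fun k => fw (Nat.add 3013 k)) 23 = true := by decide +kernel
theorem wu131 : ∀ i, i < 3036 → fw i = true := below_step fw 3013 23 3036 wu130 wc131 rfl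
theorem wc132 : allBelow (fun k => fw (Nat.add 3036 k)) 23 = true := by decide +kernel
theorem wu132 : ∀ i, i < 3059 → fw i = true := below_step fw 3036 23 3059 wu131 wc132 rfl
theorem wc133 : allBelow (fun k => fw (Nat.add 3059 k)) 23 = true := by decide +kernel
theorem wu133 : ∀ i, i < 3082 → fw i = true := below_step fw 3059 23 3082 wu132 wc133 rfl
theorem wc134 : allBelow (fun k => fw (Nat.add 3082 k)) 23 = true := by decide +kernel
theorem wu134 : ∀ i, i < 3105 → fw i = true := below_step fw 3082 23 3105 wu133 wc134 rfl
theorem wc135 : allBelow (fun k => fw (Nat.add 3105 k)) 23 = true := by decide +kernel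
theorem wu135 : ∀ i, i < 3128 → fw i = true := below_step fw 3105 23 3128 wu134 wc135 rfl
theorem wc136 : allBelow (fun k => fw (Nat.add 3128 k)) 23 = true := by decide +kernel
theorem wu136 : ∀ i, i < 3151 → fw i = true := below_step fw 3128 23 3151 wu135 wc136 rfl
theorem wc137 : allBelow (fun k => fw (Nat.add 3151 k)) 23 = true := by decide +kernel
theorem wu137 : ∀ i, i < 3174 → fw i = true := below_step fw 3151 23 3174 wu136 wc137 rfl
theorem wc138 : allBelow (fun k => fw (Nat.add 3174 k)) 23 = true := by decide +kernel
theorem wu138 : ∀ i, i < 3197 → fw i = true := below_step fw 3174 23 3197 wu137 wc138 rfl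
theorem wc139 : allBelow (fun k => fw (Nat.add 3197 k)) 23 = true := by decide +kernel
theorem wu139 : ∀ i, i < 3220 → fw i = true := below_step fw 3197 23 3220 wu138 wc139 rfl
theorem wc140 : allBelow (fun k => fw (Nat.add 3220 k)) 23 = true := by decide +kernel
theorem wu140 : ∀ i, i < 3243 → fw i = true := below_step fw 3220 23 3243 wu139 wc140 rfl
theorem wc141 : allBelow (fun k => fw (Nat.add 3243 k)) 23 = true := by decide +kernel
theorem wu141 : ∀ i, i < 3266 → fw i = true := below_step fw 3243 23 3266 wu140 wc141 rfl
theorem wc142 : allBelow (fun k => fw (Nat.add 3266 k)) 23 = true := by decide +kernel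
theorem wu142 : ∀ i, i < 3289 → fw i = true := below_step fw 3266 23 3289 wu141 wc142 rfl
theorem wc143 : allBelow (fun k => fw (Nat.add 3289 k)) 23 = true := by decide +kernel
theorem wu143 : ∀ i, i < 3312 → fw i = true := below_step fw 3289 23 3312 wu142 wc143 rfl
theorem wc144 : allBelow (fun k => fw (Nat.add 3312 k)) 23 = true := by decide +kernel
theorem wu144 : ∀ i, i < 3335 → fw i = true := below_step fw 3312 23 3335 wu143 wc144 rfl
theorem wc145 : allBelow (fun k => fw (Nat.add 3335 k)) 23 = true := by decide +kernel
theorem wu145 : ∀ i, i < 3358 → fw i = true := below_step fw 3335 23 3358 wu144 wc145 rfl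
theorem wc146 : allBelow (fun k => fw (Nat.add 3358 k)) 23 = true := by decide +kernel
theorem wu146 : ∀ i, i < 3381 → fw i = true := below_step fw 3358 23 3381 wu145 wc146 rfl
theorem wc147 : allBelow (fun k => fw (Nat.add 3381 k)) 23 = true := by decide +kernel
theorem wu147 : ∀ i, i < 3404 → fw i = true := below_step fw 3381 23 3404 wu146 wc147 rfl
theorem wc148 : allBelow (fun k => fw (Nat.add 3404 k)) 23 = true := by decide +kernel
theorem wu148 : ∀ i, i < 3427 → fw i = true := below_step fw 3404 23 3427 wu147 wc148 rfl
theorem wc149 : allBelow (fun k => fw (Nat.add 3427 k)) 23 = true := by decide +kernel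
theorem wu149 : ∀ i, i < 3450 → fw i = true := below_step fw 3427 23 3450 wu148 wc149 rfl
theorem wc150 : allBelow (fun k => fw (Nat.add 3450 k)) 23 = true := by decide +kernel
theorem wu150 : ∀ i, i < 3473 → fw i = true := below_step fw 3450 23 3473 wu149 wc150 rfl
theorem wc151 : allBelow (fun k => fw (Nat.add 3473 k)) 23 = true := by decide +kernel
theorem wu151 : ∀ i, i < 3496 → fw i = true := below_step fw 3473 23 3496 wu150 wc151 rfl
theorem wc152 : allBelow (fun k => fw (Nat.add 3496 k)) 23 = true := by decide +kernel
theorem wu152 : ∀ i, i < 3519 → fw i = true := below_step fw 3496 23 3519 wu151 wc152 rfl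
theorem wc153 : allBelow (fun k => fw (Nat.add 3519 k)) 23 = true := by decide +kernel
theorem wu153 : ∀ i, i < 3542 → fw i = true := below_step fw 3519 23 3542 wu152 wc153 rfl
theorem wc154 : allBelow (fun k => fw (Nat.add 3542 k)) 23 = true := by decide +kernel
theorem wu154 : ∀ i, i < 3565 → fw i = true := below_step fw 3542 23 3565 wu153 wc154 rfl
theorem wc155 : allBelow (fun k => fw (Nat.add 3565 k)) 23 = true := by decide +kernel
theorem wu155 : ∀ i, i < 3588 → fw i = true := below_step fw 3565 23 3588 wu154 wc155 rfl
theorem wc156 : allBelow (fun k => fw (Nat.add 3588 k)) 23 = true := by decide +kernel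
theorem wu156 : ∀ i, i < 3611 → fw i = true := below_step fw 3588 23 3611 wu155 wc156 rfl
theorem wc157 : allBelow (fun k => fw (Nat.add 3611 k)) 23 = true := by decide +kernel
theorem wu157 : ∀ i, i < 3634 → fw i = true := below_step fw 3611 23 3634 wu156 wc157 rfl
theorem wc158 : allBelow (fun k => fw (Nat.add 3634 k)) 23 = true := by decide +kernel
theorem wu158 : ∀ i, i < 3657 → fw i = true := below_step fw 3634 23 3657 wu157 wc158 rfl
theorem wc159 : allBelow (fun k => fw (Nat.add 3657 k)) 23 = true := by decide +kernel
theorem wu159 : ∀ i, i < 3680 → fw i = true := below_step fw 3657 23 3680 wu158 wc159 rfl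
theorem wc160 : allBelow (fun k => fw (Nat.add 3680 k)) 23 = true := by decide +kernel
theorem wu160 : ∀ i, i < 3703 → fw i = true := below_step fw 3680 23 3703 wu159 wc160 rfl
theorem wc161 : allBelow (fun k => fw (Nat.add 3703 k)) 23 = true := by decide +kernel
theorem wu161 : ∀ i, i < 3726 → fw i = true := below_step fw 3703 23 3726 wu160 wc161 rfl
theorem wc162 : allBelow (fun k => fw (Nat.add 3726 k)) 23 = true := by decide +kernel
theorem wu162 : ∀ i, i < 3749 → fw i = true := below_step fw 3726 23 3749 wu161 wc162 rfl
theorem wc163 : allBelow (fun k => fw (Nat.add 3749 k)) 23 = true := by decide +kernel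
theorem wu163 : ∀ i, i < 3772 → fw i = true := below_step fw 3749 23 3772 wu162 wc163 rfl
theorem wc164 : allBelow (fun k => fw (Nat.add 3772 k)) 23 = true := by decide +kernel
theorem wu164 : ∀ i, i < 3795 → fw i = true := below_step fw 3772 23 3795 wu163 wc164 rfl
theorem wc165 : allBelow (fun k => fw (Nat.add 3795 k)) 23 = true := by decide +kernel
theorem wu165 : ∀ i, i < 3818 → fw i = true := below_step fw 3795 23 3818 wu164 wc165 rfl
theorem wc166 : allBelow (fun k => fw (Nat.add 3818 k)) 23 = true := by decide +kernel
theorem wu166 : ∀ i, i < 3841 → fw i = true := below_step fw 3818 23 3841 wu165 wc166 rfl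
theorem wc167 : allBelow (fun k => fw (Nat.add 3841 k)) 23 = true := by decide +kernel
theorem wu167 : ∀ i, i < 3864 → fw i = true := below_step fw 3841 23 3864 wu166 wc167 rfl
theorem wc168 : allBelow (fun k => fw (Nat.add 3864 k)) 23 = true := by decide +kernel
theorem wu168 : ∀ i, i < 3887 → fw i = true := below_step fw 3864 23 3887 wu167 wc168 rfl
theorem wc169 : allBelow (fun k => fw (Nat.add 3887 k)) 23 = true := by decide +kernel
theorem wu169 : ∀ i, i < 3910 → fw i = true := below_step fw 3887 23 3910 wu168 wc169 rfl
theorem wc170 : allBelow (fun k => fw (Nat.add 3910 k)) 23 = true := by decide +kernel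
theorem wu170 : ∀ i, i < 3933 → fw i = true := below_step fw 3910 23 3933 wu169 wc170 rfl
theorem wc171 : allBelow (fun k => fw (Nat.add 3933 k)) 23 = true := by decide +kernel
theorem wu171 : ∀ i, i < 3956 → fw i = true := below_step fw 3933 23 3956 wu170 wc171 rfl
theorem wc172 : allBelow (fun k => fw (Nat.add 3956 k)) 23 = true := by decide +kernel
theorem wu172 : ∀ i, i < 3979 → fw i = true := below_step fw 3956 23 3979 wu171 wc172 rfl
theorem wc173 : allBelow (fun k => fw (Nat.add 3979 k)) 23 = true := by decide +kernel
theorem wu173 : ∀ i, i < 4002 → fw i = true := below_step fw 3979 23 4002 wu172 wc173 rfl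
theorem wc174 : allBelow (fun k => fw (Nat.add 4002 k)) 23 = true := by decide +kernel
theorem wu174 : ∀ i, i < 4025 → fw i = true := below_step fw 4002 23 4025 wu173 wc174 rfl
theorem wc175 : allBelow (fun k => fw (Nat.add 4025 k)) 23 = true := by decide +kernel
theorem wu175 : ∀ i, i < 4048 → fw i = true := below_step fw 4025 23 4048 wu174 wc175 rfl
theorem wc176 : allBelow (fun k => fw (Nat.add 4048 k)) 23 = true := by decide +kernel
theorem wu176 : ∀ i, i < 4071 → fw i = true := below_step fw 4048 23 4071 wu175 wc176 rfl
theorem wc177 : allBelow (fun k => fw (Nat.add 4071 k)) 23 = true := by decide +kernel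
theorem wu177 : ∀ i, i < 4094 → fw i = true := below_step fw 4071 23 4094 wu176 wc177 rfl
theorem wc178 : allBelow (fun k => fw (Nat.add 4094 k)) 23 = true := by decide +kernel
theorem wu178 : ∀ i, i < 4117 → fw i = true := below_step fw 4094 23 4117 wu177 wc178 rfl
theorem wc179 : allBelow (fun k => fw (Nat.add 4117 k)) 23 = true := by decide +kernel
theorem wu179 : ∀ i, i < 4140 → fw i = true := below_step fw 4117 23 4140 wu178 wc179 rfl
theorem wc180 : allBelow (fun k => fw (Nat.add 4140 k)) 23 = true := by decide +kernel
theorem wu180 : ∀ i, i < 4163 → fw i = true := below_step fw 4140 23 4163 wu179 wc180 rfl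
theorem wc181 : allBelow (fun k => fw (Nat.add 4163 k)) 23 = true := by decide +kernel
theorem wu181 : ∀ i, i < 4186 → fw i = true := below_step fw 4163 23 4186 wu180 wc181 rfl
theorem wc182 : allBelow (fun k => fw (Nat.add 4186 k)) 23 = true := by decide +kernel
theorem wu182 : ∀ i, i < 4209 → fw i = true := below_step fw 4186 23 4209 wu181 wc182 rfl
theorem wc183 : allBelow (fun k => fw (Nat.add 4209 k)) 23 = true := by decide +kernel
theorem wu183 : ∀ i, i < 4232 → fw i = true := below_step fw 4209 23 4232 wu182 wc183 rfl
theorem wc184 : allBelow (fun k => fw (Nat.add 4232 k)) 23 = true := by decide +kernel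
theorem wu184 : ∀ i, i < 4255 → fw i = true := below_step fw 4232 23 4255 wu183 wc184 rfl
theorem wc185 : allBelow (fun k => fw (Nat.add 4255 k)) 23 = true := by decide +kernel
theorem wu185 : ∀ i, i < 4278 → fw i = true := below_step fw 4255 23 4278 wu184 wc185 rfl
theorem wc186 : allBelow (fun k => fw (Nat.add 4278 k)) 23 = true := by decide +kernel
theorem wu186 : ∀ i, i < 4301 → fw i = true := below_step fw 4278 23 4301 wu185 wc186 rfl
theorem wc187 : allBelow (fun k => fw (Nat.add 4301 k)) 23 = true := by decide +kernel
theorem wu187 : ∀ i, i < 4324 → fw i = true := below_step fw 4301 23 4324 wu186 wc187 rfl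
theorem wc188 : allBelow (fun k => fw (Nat.add 4324 k)) 23 = true := by decide +kernel
theorem wu188 : ∀ i, i < 4347 → fw i = true := below_step fw 4324 23 4347 wu187 wc188 rfl
theorem wc189 : allBelow (fun k => fw (Nat.add 4347 k)) 23 = true := by decide +kernel
theorem wu189 : ∀ i, i < 4370 → fw i = true := below_step fw 4347 23 4370 wu188 wc189 rfl
theorem wc190 : allBelow (fun k => fw (Nat.add 4370 k)) 23 = true := by decide +kernel
theorem wu190 : ∀ i, i < 4393 → fw i = true := below_step fw 4370 23 4393 wu189 wc190 rfl
theorem wc191 : allBelow (fun k => fw (Nat.add 4393 k)) 23 = true := by decide +kernel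
theorem wu191 : ∀ i, i < 4416 → fw i = true := below_step fw 4393 23 4416 wu190 wc191 rfl
theorem wc192 : allBelow (fun k => fw (Nat.add 4416 k)) 23 = true := by decide +kernel
theorem wu192 : ∀ i, i < 4439 → fw i = true := below_step fw 4416 23 4439 wu191 wc192 rfl
theorem wc193 : allBelow (fun k => fw (Nat.add 4439 k)) 23 = true := by decide +kernel
theorem wu193 : ∀ i, i < 4462 → fw i = true := below_step fw 4439 23 4462 wu192 wc193 rfl
theorem wc194 : allBelow (fun k => fw (Nat.add 4462 k)) 23 = true := by decide +kernel
theorem wu194 : ∀ i, i < 4485 → fw i = true := below_step fw 4462 23 4485 wu193 wc194 rfl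
theorem wc195 : allBelow (fun k => fw (Nat.add 4485 k)) 23 = true := by decide +kernel
theorem wu195 : ∀ i, i < 4508 → fw i = true := below_step fw 4485 23 4508 wu194 wc195 rfl
theorem wc196 : allBelow (fun k => fw (Nat.add 4508 k)) 23 = true := by decide +kernel
theorem wu196 : ∀ i, i < 4531 → fw i = true := below_step fw 4508 23 4531 wu195 wc196 rfl
theorem wc197 : allBelow (fun k => fw (Nat.add 4531 k)) 23 = true := by decide +kernel
theorem wu197 : ∀ i, i < 4554 → fw i = true := below_step fw 4531 23 4554 wu196 wc197 rfl
theorem wc198 : allBelow (fun k => fw (Nat.add 4554 k)) 23 = true := by decide +kernel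
theorem wu198 : ∀ i, i < 4577 → fw i = true := below_step fw 4554 23 4577 wu197 wc198 rfl
theorem wc199 : allBelow (fun k => fw (Nat.add 4577 k)) 23 = true := by decide +kernel
theorem wu199 : ∀ i, i < 4600 → fw i = true := below_step fw 4577 23 4600 wu198 wc199 rfl
theorem wc200 : allBelow (fun k => fw (Nat.add 4600 k)) 23 = true := by decide +kernel
theorem wu200 : ∀ i, i < 4623 → fw i = true := below_step fw 4600 23 4623 wu199 wc200 rfl
theorem wc201 : allBelow (fun k => fw (Nat.add 4623 k)) 23 = true := by decide +kernel
theorem wu201 : ∀ i, i < 4646 → fw i = true := below_step fw 4623 23 4646 wu200 wc201 rfl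
theorem wc202 : allBelow (fun k => fw (Nat.add 4646 k)) 23 = true := by decide +kernel
theorem wu202 : ∀ i, i < 4669 → fw i = true := below_step fw 4646 23 4669 wu201 wc202 rfl
theorem wc203 : allBelow (fun k => fw (Nat.add 4669 k)) 23 = true := by decide +kernel
theorem wu203 : ∀ i, i < 4692 → fw i = true := below_step fw 4669 23 4692 wu202 wc203 rfl
theorem wc204 : allBelow (fun k => fw (Nat.add 4692 k)) 23 = true := by decide +kernel
theorem wu204 : ∀ i, i < 4715 → fw i = true := below_step fw 4692 23 4715 wu203 wc204 rfl
theorem wc205 : allBelow (fun k => fw (Nat.add 4715 k)) 23 = true := by decide +kernel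
theorem wu205 : ∀ i, i < 4738 → fw i = true := below_step fw 4715 23 4738 wu204 wc205 rfl
theorem wc206 : allBelow (fun k => fw (Nat.add 4738 k)) 23 = true := by decide +kernel
theorem wu206 : ∀ i, i < 4761 → fw i = true := below_step fw 4738 23 4761 wu205 wc206 rfl
theorem wc207 : allBelow (fun k => fw (Nat.add 4761 k)) 23 = true := by decide +kernel
theorem wu207 : ∀ i, i < 4784 → fw i = true := below_step fw 4761 23 4784 wu206 wc207 rfl
theorem wc208 : allBelow (fun k => fw (Nat.add 4784 k)) 23 = true := by decide +kernel
theorem wu208 : ∀ i, i < 4807 → fw i = true := below_step fw 4784 23 4807 wu207 wc208 rfl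
theorem wc209 : allBelow (fun k => fw (Nat.add 4807 k)) 23 = true := by decide +kernel
theorem wu209 : ∀ i, i < 4830 → fw i = true := below_step fw 4807 23 4830 wu208 wc209 rfl
theorem wc210 : allBelow (fun k => fw (Nat.add 4830 k)) 23 = true := by decide +kernel
theorem wu210 : ∀ i, i < 4853 → fw i = true := below_step fw 4830 23 4853 wu209 wc210 rfl
theorem wc211 : allBelow (fun k => fw (Nat.add 4853 k)) 23 = true := by decide +kernel
theorem wu211 : ∀ i, i < 4876 → fw i = true := below_step fw 4853 23 4876 wu210 wc211 rfl
theorem wc212 : allBelow (fun k => fw (Nat.add 4876 k)) 23 = true := by decide +kernel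
theorem wu212 : ∀ i, i < 4899 → fw i = true := below_step fw 4876 23 4899 wu211 wc212 rfl
theorem wc213 : allBelow (fun k => fw (Nat.add 4899 k)) 23 = true := by decide +kernel
theorem wu213 : ∀ i, i < 4922 → fw i = true := below_step fw 4899 23 4922 wu212 wc213 rfl
theorem wc214 : allBelow (fun k => fw (Nat.add 4922 k)) 23 = true := by decide +kernel
theorem wu214 : ∀ i, i < 4945 → fw i = true := below_step fw 4922 23 4945 wu213 wc214 rfl
theorem wc215 : allBelow (fun k => fw (Nat.add 4945 k)) 23 = true := by decide +kernel
theorem wu215 : ∀ i, i < 4968 → fw i = true := below_step fw 4945 23 4968 wu214 wc215 rfl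
theorem wc216 : allBelow (fun k => fw (Nat.add 4968 k)) 23 = true := by decide +kernel
theorem wu216 : ∀ i, i < 4991 → fw i = true := below_step fw 4968 23 4991 wu215 wc216 rfl
theorem wc217 : allBelow (fun k => fw (Nat.add 4991 k)) 23 = true := by decide +kernel
theorem wu217 : ∀ i, i < 5014 → fw i = true := below_step fw 4991 23 5014 wu216 wc217 rfl
theorem wc218 : allBelow (fun k => fw (Nat.add 5014 k)) 23 = true := by decide +kernel
theorem wu218 : ∀ i, i < 5037 → fw i = true := below_step fw 5014 23 5037 wu217 wc218 rfl
theorem wc219 : allBelow (fun k => fw (Nat.add 5037 k)) 23 = true := by decide +kernel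
theorem wu219 : ∀ i, i < 5060 → fw i = true := below_step fw 5037 23 5060 wu218 wc219 rfl
theorem wc220 : allBelow (fun k => fw (Nat.add 5060 k)) 23 = true := by decide +kernel
theorem wu220 : ∀ i, i < 5083 → fw i = true := below_step fw 5060 23 5083 wu219 wc220 rfl
theorem wc221 : allBelow (fun k => fw (Nat.add 5083 k)) 23 = true := by decide +kernel
theorem wu221 : ∀ i, i < 5106 → fw i = true := below_step fw 5083 23 5106 wu220 wc221 rfl
theorem wc222 : allBelow (fun k => fw (Nat.add 5106 k)) 23 = true := by decide +kernel
theorem wu222 : ∀ i, i < 5129 → fw i = true := below_step fw 5106 23 5129 wu221 wc222 rfl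
theorem wc223 : allBelow (fun k => fw (Nat.add 5129 k)) 23 = true := by decide +kernel
theorem wu223 : ∀ i, i < 5152 → fw i = true := below_step fw 5129 23 5152 wu222 wc223 rfl
theorem wc224 : allBelow (fun k => fw (Nat.add 5152 k)) 23 = true := by decide +kernel
theorem wu224 : ∀ i, i < 5175 → fw i = true := below_step fw 5152 23 5175 wu223 wc224 rfl
theorem wc225 : allBelow (fun k => fw (Nat.add 5175 k)) 23 = true := by decide +kernel
theorem wu225 : ∀ i, i < 5198 → fw i = true := below_step fw 5175 23 5198 wu224 wc225 rfl
theorem wc226 : allBelow (fun k => fw (Nat.add 5198 k)) 23 = true := by decide +kernel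
theorem wu226 : ∀ i, i < 5221 → fw i = true := below_step fw 5198 23 5221 wu225 wc226 rfl
theorem wc227 : allBelow (fun k => fw (Nat.add 5221 k)) 23 = true := by decide +kernel
theorem wu227 : ∀ i, i < 5244 → fw i = true := below_step fw 5221 23 5244 wu226 wc227 rfl
theorem wc228 : allBelow (fun k => fw (Nat.add 5244 k)) 23 = true := by decide +kernel
theorem wu228 : ∀ i, i < 5267 → fw i = true := below_step fw 5244 23 5267 wu227 wc228 rfl
theorem wc229 : allBelow (fun k => fw (Nat.add 5267 k)) 23 = true := by decide +kernel
theorem wu229 : ∀ i, i < 5290 → fw i = true := below_step fw 5267 23 5290 wu228 wc229 rfl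
theorem wc230 : allBelow (fun k => fw (Nat.add 5290 k)) 23 = true := by decide +kernel
theorem wu230 : ∀ i, i < 5313 → fw i = true := below_step fw 5290 23 5313 wu229 wc230 rfl
theorem wc231 : allBelow (fun k => fw (Nat.add 5313 k)) 23 = true := by decide +kernel
theorem wu231 : ∀ i, i < 5336 → fw i = true := below_step fw 5313 23 5336 wu230 wc231 rfl
theorem wc232 : allBelow (fun k => fw (Nat.add 5336 k)) 23 = true := by decide +kernel
theorem wu232 : ∀ i, i < 5359 → fw i = true := below_step fw 5336 23 5359 wu231 wc232 rfl
theorem wc233 : allBelow (fun k => fw (Nat.add 5359 k)) 23 = true := by decide +kernel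
theorem wu233 : ∀ i, i < 5382 → fw i = true := below_step fw 5359 23 5382 wu232 wc233 rfl
theorem wc234 : allBelow (fun k => fw (Nat.add 5382 k)) 23 = true := by decide +kernel
theorem wu234 : ∀ i, i < 5405 → fw i = true := below_step fw 5382 23 5405 wu233 wc234 rfl
theorem wc235 : allBelow (fun k => fw (Nat.add 5405 k)) 23 = true := by decide +kernel
theorem wu235 : ∀ i, i < 5428 → fw i = true := below_step fw 5405 23 5428 wu234 wc235 rfl
theorem wc236 : allBelow (fun k => fw (Nat.add 5428 k)) 23 = true := by decide +kernel
theorem wu236 : ∀ i, i < 5451 → fw i = true := below_step fw 5428 23 5451 wu235 wc236 rfl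
theorem wc237 : allBelow (fun k => fw (Nat.add 5451 k)) 23 = true := by decide +kernel
theorem wu237 : ∀ i, i < 5474 → fw i = true := below_step fw 5451 23 5474 wu236 wc237 rfl
theorem wc238 : allBelow (fun k => fw (Nat.add 5474 k)) 23 = true := by decide +kernel
theorem wu238 : ∀ i, i < 5497 → fw i = true := below_step fw 5474 23 5497 wu237 wc238 rfl
theorem wc239 : allBelow (fun k => fw (Nat.add 5497 k)) 23 = true := by decide +kernel
theorem wu239 : ∀ i, i < 5520 → fw i = true := below_step fw 5497 23 5520 wu238 wc239 rfl
theorem wc240 : allBelow (fun k => fw (Nat.add 5520 k)) 23 = true := by decide +kernel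
theorem wu240 : ∀ i, i < 5543 → fw i = true := below_step fw 5520 23 5543 wu239 wc240 rfl
theorem wc241 : allBelow (fun k => fw (Nat.add 5543 k)) 23 = true := by decide +kernel
theorem wu241 : ∀ i, i < 5566 → fw i = true := below_step fw 5543 23 5566 wu240 wc241 rfl
theorem wc242 : allBelow (fun k => fw (Nat.add 5566 k)) 23 = true := by decide +kernel
theorem wu242 : ∀ i, i < 5589 → fw i = true := below_step fw 5566 23 5589 wu241 wc242 rfl
theorem wc243 : allBelow (fun k => fw (Nat.add 5589 k)) 23 = true := by decide +kernel
theorem wu243 : ∀ i, i < 5612 → fw i = true := below_step fw 5589 23 5612 wu242 wc243 rfl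
theorem wc244 : allBelow (fun k => fw (Nat.add 5612 k)) 23 = true := by decide +kernel
theorem wu244 : ∀ i, i < 5635 → fw i = true := below_step fw 5612 23 5635 wu243 wc244 rfl

end Cfsg.Agent.Lib.Helper35.Fi23Tr.X
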