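import Cfsg.Agent.Lib.Helper35.Fi23Tr.X.Chk0

set_option Elab.async false

namespace Cfsg.Agent.Lib.Helper35.Fi23Tr.X

open Cfsg.Agent.Lib.Helper35

theorem wc245 : allBelow (fun k => fw (Nat.add 5635 k)) 23 = true := by decide +kernel
theorem wu245 : ∀ i, i < 5658 → fw i = true := below_step fw 5635 23 5658 wu244 wc245 rfl
theorem wc246 : allBelow (fun k => fw (Nat.add 5658 k)) 23 = true := by decide +kernel
theorem wu246 : ∀ i, i < 5681 → fw i = true := below_step fw 5658 23 5681 wu245 wc246 rfl
theorem wc247 : allBelow (fun k => fw (Nat.add 5681 k)) 23 = true := by decide +kernel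
theorem wu247 : ∀ i, i < 5704 → fw i = true := below_step fw 5681 23 5704 wu246 wc247 rfl
theorem wc248 : allBelow (fun k => fw (Nat.add 5704 k)) 23 = true := by decide +kernel
theorem wu248 : ∀ i, i < 5727 → fw i = true := below_step fw 5704 23 5727 wu247 wc248 rfl
theorem wc249 : allBelow (fun k => fw (Nat.add 5727 k)) 23 = true := by decide +kernel
theorem wu249 : ∀ i, i < 5750 → fw i = true := below_step fw 5727 23 5750 wu248 wc249 rfl
theorem wc250 : allBelow (fun k => fw (Nat.add 5750 k)) 23 = true := by decide +kernel
theorem wu250 : ∀ i, i < 5773 → fw i = true := below_step fw 5750 23 5773 wu249 wc250 rfl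
theorem wc251 : allBelow (fun k => fw (Nat.add 5773 k)) 23 = true := by decide +kernel
theorem wu251 : ∀ i, i < 5796 → fw i = true := below_step fw 5773 23 5796 wu250 wc251 rfl
theorem wc252 : allBelow (fun k => fw (Nat.add 5796 k)) 23 = true := by decide +kernel
theorem wu252 : ∀ i, i < 5819 → fw i = true := below_step fw 5796 23 5819 wu251 wc252 rfl
theorem wc253 : allBelow (fun k => fw (Nat.add 5819 k)) 23 = true := by decide +kernel
theorem wu253 : ∀ i, i < 5842 → fw i = true := below_step fw 5819 23 5842 wu252 wc253 rfl
theorem wc254 : allBelow (fun k => fw (Nat.add 5842 k)) 23 = true := by decide +kernel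
theorem wu254 : ∀ i, i < 5865 → fw i = true := below_step fw 5842 23 5865 wu253 wc254 rfl
theorem wc255 : allBelow (fun k => fw (Nat.add 5865 k)) 23 = true := by decide +kernel
theorem wu255 : ∀ i, i < 5888 → fw i = true := below_step fw 5865 23 5888 wu254 wc255 rfl
theorem wc256 : allBelow (fun k => fw (Nat.add 5888 k)) 23 = true := by decide +kernel
theorem wu256 : ∀ i, i < 5911 → fw i = true := below_step fw 5888 23 5911 wu255 wc256 rfl
theorem wc257 : allBelow (fun k => fw (Nat.add 5911 k)) 23 = true := by decide +kernel
theorem wu257 : ∀ i, i < 5934 → fw i = true := below_step fw 5911 23 5934 wu256 wc257 rfl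
theorem wc258 : allBelow (fun k => fw (Nat.add 5934 k)) 23 = true := by decide +kernel
theorem wu258 : ∀ i, i < 5957 → fw i = true := below_step fw 5934 23 5957 wu257 wc258 rfl
theorem wc259 : allBelow (fun k => fw (Nat.add 5957 k)) 23 = true := by decide +kernel
theorem wu259 : ∀ i, i < 5980 → fw i = true := below_step fw 5957 23 5980 wu258 wc259 rfl
theorem wc260 : allBelow (fun k => fw (Nat.add 5980 k)) 23 = true := by decide +kernel
theorem wu260 : ∀ i, i < 6003 → fw i = true := below_step fw 5980 23 6003 wu259 wc260 rfl
theorem wc261 : allBelow (fun k => fw (Nat.add 6003 k)) 23 = true := by decide +kernel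
theorem wu261 : ∀ i, i < 6026 → fw i = true := below_step fw 6003 23 6026 wu260 wc261 rfl
theorem wc262 : allBelow (fun k => fw (Nat.add 6026 k)) 23 = true := by decide +kernel
theorem wu262 : ∀ i, i < 6049 → fw i = true := below_step fw 6026 23 6049 wu261 wc262 rfl
theorem wc263 : allBelow (fun k => fw (Nat.add 6049 k)) 23 = true := by decide +kernel
theorem wu263 : ∀ i, i < 6072 → fw i = true := below_step fw 6049 23 6072 wu262 wc263 rfl
theorem wc264 : allBelow (fun k => fw (Nat.add 6072 k)) 23 = true := by decide +kernel
theorem wu264 : ∀ i, i < 6095 → fw i = true := below_step fw 6072 23 6095 wu263 wc264 rfl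
theorem wc265 : allBelow (fun k => fw (Nat.add 6095 k)) 23 = true := by decide +kernel
theorem wu265 : ∀ i, i < 6118 → fw i = true := below_step fw 6095 23 6118 wu264 wc265 rfl
theorem wc266 : allBelow (fun k => fw (Nat.add 6118 k)) 23 = true := by decide +kernel
theorem wu266 : ∀ i, i < 6141 → fw i = true := below_step fw 6118 23 6141 wu265 wc266 rfl
theorem wc267 : allBelow (fun k => fw (Nat.add 6141 k)) 23 = true := by decide +kernel
theorem wu267 : ∀ i, i < 6164 → fw i = true := below_step fw 6141 23 6164 wu266 wc267 rfl
theorem wc268 : allBelow (fun k => fw (Nat.add 6164 k)) 23 = true := by decide +kernel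
theorem wu268 : ∀ i, i < 6187 → fw i = true := below_step fw 6164 23 6187 wu267 wc268 rfl
theorem wc269 : allBelow (fun k => fw (Nat.add 6187 k)) 23 = true := by decide +kernel
theorem wu269 : ∀ i, i < 6210 → fw i = true := below_step fw 6187 23 6210 wu268 wc269 rfl
theorem wc270 : allBelow (fun k => fw (Nat.add 6210 k)) 23 = true := by decide +kernel
theorem wu270 : ∀ i, i < 6233 → fw i = true := below_step fw 6210 23 6233 wu269 wc270 rfl
theorem wc271 : allBelow (fun k => fw (Nat.add 6233 k)) 23 = true := by decide +kernel
theorem wu271 : ∀ i, i < 6256 → fw i = true := below_step fw 6233 23 6256 wu270 wc271 rfl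
theorem wc272 : allBelow (fun k => fw (Nat.add 6256 k)) 23 = true := by decide +kernel
theorem wu272 : ∀ i, i < 6279 → fw i = true := below_step fw 6256 23 6279 wu271 wc272 rfl
theorem wc273 : allBelow (fun k => fw (Nat.add 6279 k)) 23 = true := by decide +kernel
theorem wu273 : ∀ i, i < 6302 → fw i = true := below_step fw 6279 23 6302 wu272 wc273 rfl
theorem wc274 : allBelow (fun k => fw (Nat.add 6302 k)) 23 = true := by decide +kernel
theorem wu274 : ∀ i, i < 6325 → fw i = true := below_step fw 6302 23 6325 wu273 wc274 rfl
theorem wc275 : allBelow (fun k => fw (Nat.add 6325 k)) 23 = true := by decide +kernel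
theorem wu275 : ∀ i, i < 6348 → fw i = true := below_step fw 6325 23 6348 wu274 wc275 rfl
theorem wc276 : allBelow (fun k => fw (Nat.add 6348 k)) 23 = true := by decide +kernel
theorem wu276 : ∀ i, i < 6371 → fw i = true := below_step fw 6348 23 6371 wu275 wc276 rfl
theorem wc277 : allBelow (fun k => fw (Nat.add 6371 k)) 23 = true := by decide +kernel
theorem wu277 : ∀ i, i < 6394 → fw i = true := below_step fw 6371 23 6394 wu276 wc277 rfl
theorem wc278 : allBelow (fun k => fw (Nat.add 6394 k)) 23 = true := by decide +kernel
theorem wu278 : ∀ i, i < 6417 → fw i = true := below_step fw 6394 23 6417 wu277 wc278 rfl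
theorem wc279 : allBelow (fun k => fw (Nat.add 6417 k)) 23 = true := by decide +kernel
theorem wu279 : ∀ i, i < 6440 → fw i = true := below_step fw 6417 23 6440 wu278 wc279 rfl
theorem wc280 : allBelow (fun k => fw (Nat.add 6440 k)) 23 = true := by decide +kernel
theorem wu280 : ∀ i, i < 6463 → fw i = true := below_step fw 6440 23 6463 wu279 wc280 rfl
theorem wc281 : allBelow (fun k => fw (Nat.add 6463 k)) 23 = true := by decide +kernel
theorem wu281 : ∀ i, i < 6486 → fw i = true := below_step fw 6463 23 6486 wu280 wc281 rfl
theorem wc282 : allBelow (fun k => fw (Nat.add 6486 k)) 23 = true := by decide +kernel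
theorem wu282 : ∀ i, i < 6509 → fw i = true := below_step fw 6486 23 6509 wu281 wc282 rfl
theorem wc283 : allBelow (fun k => fw (Nat.add 6509 k)) 23 = true := by decide +kernel
theorem wu283 : ∀ i, i < 6532 → fw i = true := below_step fw 6509 23 6532 wu282 wc283 rfl
theorem wc284 : allBelow (fun k => fw (Nat.add 6532 k)) 23 = true := by decide +kernel
theorem wu284 : ∀ i, i < 6555 → fw i = true := below_step fw 6532 23 6555 wu283 wc284 rfl
theorem wc285 : allBelow (fun k => fw (Nat.add 6555 k)) 23 = true := by decide +kernel
theorem wu285 : ∀ i, i < 6578 → fw i = true := below_step fw 6555 23 6578 wu284 wc285 rfl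
theorem wc286 : allBelow (fun k => fw (Nat.add 6578 k)) 23 = true := by decide +kernel
theorem wu286 : ∀ i, i < 6601 → fw i = true := below_step fw 6578 23 6601 wu285 wc286 rfl
theorem wc287 : allBelow (fun k => fw (Nat.add 6601 k)) 23 = true := by decide +kernel
theorem wu287 : ∀ i, i < 6624 → fw i = true := below_step fw 6601 23 6624 wu286 wc287 rfl
theorem wc288 : allBelow (fun k => fw (Nat.add 6624 k)) 23 = true := by decide +kernel
theorem wu288 : ∀ i, i < 6647 → fw i = true := below_step fw 6624 23 6647 wu287 wc288 rfl
theorem wc289 : allBelow (fun k => fw (Nat.add 6647 k)) 23 = true := by decide +kernel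
theorem wu289 : ∀ i, i < 6670 → fw i = true := below_step fw 6647 23 6670 wu288 wc289 rfl
theorem wc290 : allBelow (fun k => fw (Nat.add 6670 k)) 23 = true := by decide +kernel
theorem wu290 : ∀ i, i < 6693 → fw i = true := below_step fw 6670 23 6693 wu289 wc290 rfl
theorem wc291 : allBelow (fun k => fw (Nat.add 6693 k)) 23 = true := by decide +kernel
theorem wu291 : ∀ i, i < 6716 → fw i = true := below_step fw 6693 23 6716 wu290 wc291 rfl
theorem wc292 : allBelow (fun k => fw (Nat.add 6716 k)) 23 = true := by decide +kernel
theorem wu292 : ∀ i, i < 6739 → fw i = true := below_step fw 6716 23 6739 wu291 wc292 rfl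
theorem wc293 : allBelow (fun k => fw (Nat.add 6739 k)) 23 = true := by decide +kernel
theorem wu293 : ∀ i, i < 6762 → fw i = true := below_step fw 6739 23 6762 wu292 wc293 rfl
theorem wc294 : allBelow (fun k => fw (Nat.add 6762 k)) 23 = true := by decide +kernel
theorem wu294 : ∀ i, i < 6785 → fw i = true := below_step fw 6762 23 6785 wu293 wc294 rfl
theorem wc295 : allBelow (fun k => fw (Nat.add 6785 k)) 23 = true := by decide +kernel
theorem wu295 : ∀ i, i < 6808 → fw i = true := below_step fw 6785 23 6808 wu294 wc295 rfl
theorem wc296 : allBelow (fun k => fw (Nat.add 6808 k)) 23 = true := by decide +kernel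
theorem wu296 : ∀ i, i < 6831 → fw i = true := below_step fw 6808 23 6831 wu295 wc296 rfl
theorem wc297 : allBelow (fun k => fw (Nat.add 6831 k)) 23 = true := by decide +kernel
theorem wu297 : ∀ i, i < 6854 → fw i = true := below_step fw 6831 23 6854 wu296 wc297 rfl
theorem wc298 : allBelow (fun k => fw (Nat.add 6854 k)) 23 = true := by decide +kernel
theorem wu298 : ∀ i, i < 6877 → fw i = true := below_step fw 6854 23 6877 wu297 wc298 rfl
theorem wc299 : allBelow (fun k => fw (Nat.add 6877 k)) 23 = true := by decide +kernel
theorem wu299 : ∀ i, i < 6900 → fw i = true := below_step fw 6877 23 6900 wu298 wc299 rfl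
theorem wc300 : allBelow (fun k => fw (Nat.add 6900 k)) 23 = true := by decide +kernel
theorem wu300 : ∀ i, i < 6923 → fw i = true := below_step fw 6900 23 6923 wu299 wc300 rfl
theorem wc301 : allBelow (fun k => fw (Nat.add 6923 k)) 23 = true := by decide +kernel
theorem wu301 : ∀ i, i < 6946 → fw i = true := below_step fw 6923 23 6946 wu300 wc301 rfl
theorem wc302 : allBelow (fun k => fw (Nat.add 6946 k)) 23 = true := by decide +kernel
theorem wu302 : ∀ i, i < 6969 → fw i = true := below_step fw 6946 23 6969 wu301 wc302 rfl
theorem wc303 : allBelow (fun k => fw (Nat.add 6969 k)) 23 = true := by decide +kernel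
theorem wu303 : ∀ i, i < 6992 → fw i = true := below_step fw 6969 23 6992 wu302 wc303 rfl
theorem wc304 : allBelow (fun k => fw (Nat.add 6992 k)) 23 = true := by decide +kernel
theorem wu304 : ∀ i, i < 7015 → fw i = true := below_step fw 6992 23 7015 wu303 wc304 rfl
theorem wc305 : allBelow (fun k => fw (Nat.add 7015 k)) 23 = true := by decide +kernel
theorem wu305 : ∀ i, i < 7038 → fw i = true := below_step fw 7015 23 7038 wu304 wc305 rfl
theorem wc306 : allBelow (fun k => fw (Nat.add 7038 k)) 23 = true := by decide +kernel
theorem wu306 : ∀ i, i < 7061 → fw i = true := below_step fw 7038 23 7061 wu305 wc306 rfl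
theorem wc307 : allBelow (fun k => fw (Nat.add 7061 k)) 23 = true := by decide +kernel
theorem wu307 : ∀ i, i < 7084 → fw i = true := below_step fw 7061 23 7084 wu306 wc307 rfl
theorem wc308 : allBelow (fun k => fw (Nat.add 7084 k)) 23 = true := by decide +kernel
theorem wu308 : ∀ i, i < 7107 → fw i = true := below_step fw 7084 23 7107 wu307 wc308 rfl
theorem wc309 : allBelow (fun k => fw (Nat.add 7107 k)) 23 = true := by decide +kernel
theorem wu309 : ∀ i, i < 7130 → fw i = true := below_step fw 7107 23 7130 wu308 wc309 rfl
theorem wc310 : allBelow (fun k => fw (Nat.add 7130 k)) 23 = true := by decide +kernel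
theorem wu310 : ∀ i, i < 7153 → fw i = true := below_step fw 7130 23 7153 wu309 wc310 rfl
theorem wc311 : allBelow (fun k => fw (Nat.add 7153 k)) 23 = true := by decide +kernel
theorem wu311 : ∀ i, i < 7176 → fw i = true := below_step fw 7153 23 7176 wu310 wc311 rfl
theorem wc312 : allBelow (fun k => fw (Nat.add 7176 k)) 23 = true := by decide +kernel
theorem wu312 : ∀ i, i < 7199 → fw i = true := below_step fw 7176 23 7199 wu311 wc312 rfl
theorem wc313 : allBelow (fun k => fw (Nat.add 7199 k)) 23 = true := by decide +kernel
theorem wu313 : ∀ i, i < 7222 → fw i = true := below_step fw 7199 23 7222 wu312 wc313 rfl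
theorem wc314 : allBelow (fun k => fw (Nat.add 7222 k)) 23 = true := by decide +kernel
theorem wu314 : ∀ i, i < 7245 → fw i = true := below_step fw 7222 23 7245 wu313 wc314 rfl
theorem wc315 : allBelow (fun k => fw (Nat.add 7245 k)) 23 = true := by decide +kernel
theorem wu315 : ∀ i, i < 7268 → fw i = true := below_step fw 7245 23 7268 wu314 wc315 rfl
theorem wc316 : allBelow (fun k => fw (Nat.add 7268 k)) 23 = true := by decide +kernel
theorem wu316 : ∀ i, i < 7291 → fw i = true := below_step fw 7268 23 7291 wu315 wc316 rfl
theorem wc317 : allBelow (fun k => fw (Nat.add 7291 k)) 23 = true := by decide +kernel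
theorem wu317 : ∀ i, i < 7314 → fw i = true := below_step fw 7291 23 7314 wu316 wc317 rfl
theorem wc318 : allBelow (fun k => fw (Nat.add 7314 k)) 23 = true := by decide +kernel
theorem wu318 : ∀ i, i < 7337 → fw i = true := below_step fw 7314 23 7337 wu317 wc318 rfl
theorem wc319 : allBelow (fun k => fw (Nat.add 7337 k)) 23 = true := by decide +kernel
theorem wu319 : ∀ i, i < 7360 → fw i = true := below_step fw 7337 23 7360 wu318 wc319 rfl
theorem wc320 : allBelow (fun k => fw (Nat.add 7360 k)) 23 = true := by decide +kernel
theorem wu320 : ∀ i, i < 7383 → fw i = true := below_step fw 7360 23 7383 wu319 wc320 rfl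
theorem wc321 : allBelow (fun k => fw (Nat.add 7383 k)) 23 = true := by decide +kernel
theorem wu321 : ∀ i, i < 7406 → fw i = true := below_step fw 7383 23 7406 wu320 wc321 rfl
theorem wc322 : allBelow (fun k => fw (Nat.add 7406 k)) 23 = true := by decide +kernel
theorem wu322 : ∀ i, i < 7429 → fw i = true := below_step fw 7406 23 7429 wu321 wc322 rfl
theorem wc323 : allBelow (fun k => fw (Nat.add 7429 k)) 23 = true := by decide +kernel
theorem wu323 : ∀ i, i < 7452 → fw i = true := below_step fw 7429 23 7452 wu322 wc323 rfl
theorem wc324 : allBelow (fun k => fw (Nat.add 7452 k)) 23 = true := by decide +kernel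
theorem wu324 : ∀ i, i < 7475 → fw i = true := below_step fw 7452 23 7475 wu323 wc324 rfl
theorem wc325 : allBelow (fun k => fw (Nat.add 7475 k)) 23 = true := by decide +kernel
theorem wu325 : ∀ i, i < 7498 → fw i = true := below_step fw 7475 23 7498 wu324 wc325 rfl
theorem wc326 : allBelow (fun k => fw (Nat.add 7498 k)) 23 = true := by decide +kernel
theorem wu326 : ∀ i, i < 7521 → fw i = true := below_step fw 7498 23 7521 wu325 wc326 rfl
theorem wc327 : allBelow (fun k => fw (Nat.add 7521 k)) 23 = true := by decide +kernel
theorem wu327 : ∀ i, i < 7544 → fw i = true := below_step fw 7521 23 7544 wu326 wc327 rfl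
theorem wc328 : allBelow (fun k => fw (Nat.add 7544 k)) 23 = true := by decide +kernel
theorem wu328 : ∀ i, i < 7567 → fw i = true := below_step fw 7544 23 7567 wu327 wc328 rfl
theorem wc329 : allBelow (fun k => fw (Nat.add 7567 k)) 23 = true := by decide +kernel
theorem wu329 : ∀ i, i < 7590 → fw i = true := below_step fw 7567 23 7590 wu328 wc329 rfl
theorem wc330 : allBelow (fun k => fw (Nat.add 7590 k)) 23 = true := by decide +kernel
theorem wu330 : ∀ i, i < 7613 → fw i = true := below_step fw 7590 23 7613 wu329 wc330 rfl
theorem wc331 : allBelow (fun k => fw (Nat.add 7613 k)) 23 = true := by decide +kernel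
theorem wu331 : ∀ i, i < 7636 → fw i = true := below_step fw 7613 23 7636 wu330 wc331 rfl
theorem wc332 : allBelow (fun k => fw (Nat.add 7636 k)) 23 = true := by decide +kernel
theorem wu332 : ∀ i, i < 7659 → fw i = true := below_step fw 7636 23 7659 wu331 wc332 rfl
theorem wc333 : allBelow (fun k => fw (Nat.add 7659 k)) 23 = true := by decide +kernel
theorem wu333 : ∀ i, i < 7682 → fw i = true := below_step fw 7659 23 7682 wu332 wc333 rfl
theorem wc334 : allBelow (fun k => fw (Nat.add 7682 k)) 23 = true := by decide +kernel
theorem wu334 : ∀ i, i < 7705 → fw i = true := below_step fw 7682 23 7705 wu333 wc334 rfl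
theorem wc335 : allBelow (fun k => fw (Nat.add 7705 k)) 23 = true := by decide +kernel
theorem wu335 : ∀ i, i < 7728 → fw i = true := below_step fw 7705 23 7728 wu334 wc335 rfl
theorem wc336 : allBelow (fun k => fw (Nat.add 7728 k)) 23 = true := by decide +kernel
theorem wu336 : ∀ i, i < 7751 → fw i = true := below_step fw 7728 23 7751 wu335 wc336 rfl
theorem wc337 : allBelow (fun k => fw (Nat.add 7751 k)) 23 = true := by decide +kernel
theorem wu337 : ∀ i, i < 7774 → fw i = true := below_step fw 7751 23 7774 wu336 wc337 rfl
theorem wc338 : allBelow (fun k => fw (Nat.add 7774 k)) 23 = true := by decide +kernel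
theorem wu338 : ∀ i, i < 7797 → fw i = true := below_step fw 7774 23 7797 wu337 wc338 rfl
theorem wc339 : allBelow (fun k => fw (Nat.add 7797 k)) 23 = true := by decide +kernel
theorem wu339 : ∀ i, i < 7820 → fw i = true := below_step fw 7797 23 7820 wu338 wc339 rfl
theorem wc340 : allBelow (fun k => fw (Nat.add 7820 k)) 23 = true := by decide +kernel
theorem wu340 : ∀ i, i < 7843 → fw i = true := below_step fw 7820 23 7843 wu339 wc340 rfl
theorem wc341 : allBelow (fun k => fw (Nat.add 7843 k)) 23 = true := by decide +kernel
theorem wu341 : ∀ i, i < 7866 → fw i = true := below_step fw 7843 23 7866 wu340 wc341 rfl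
theorem wc342 : allBelow (fun k => fw (Nat.add 7866 k)) 23 = true := by decide +kernel
theorem wu342 : ∀ i, i < 7889 → fw i = true := below_step fw 7866 23 7889 wu341 wc342 rfl
theorem wc343 : allBelow (fun k => fw (Nat.add 7889 k)) 23 = true := by decide +kernel
theorem wu343 : ∀ i, i < 7912 → fw i = true := below_step fw 7889 23 7912 wu342 wc343 rfl
theorem wc344 : allBelow (fun k => fw (Nat.add 7912 k)) 23 = true := by decide +kernel
theorem wu344 : ∀ i, i < 7935 → fw i = true := below_step fw 7912 23 7935 wu343 wc344 rfl
theorem wc345 : allBelow (fun k => fw (Nat.add 7935 k)) 23 = true := by decide +kernel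
theorem wu345 : ∀ i, i < 7958 → fw i = true := below_step fw 7935 23 7958 wu344 wc345 rfl
theorem wc346 : allBelow (fun k => fw (Nat.add 7958 k)) 23 = true := by decide +kernel
theorem wu346 : ∀ i, i < 7981 → fw i = true := below_step fw 7958 23 7981 wu345 wc346 rfl
theorem wc347 : allBelow (fun k => fw (Nat.add 7981 k)) 23 = true := by decide +kernel
theorem wu347 : ∀ i, i < 8004 → fw i = true := below_step fw 7981 23 8004 wu346 wc347 rfl
theorem wc348 : allBelow (fun k => fw (Nat.add 8004 k)) 23 = true := by decide +kernel
theorem wu348 : ∀ i, i < 8027 → fw i = true := below_step fw 8004 23 8027 wu347 wc348 rfl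
theorem wc349 : allBelow (fun k => fw (Nat.add 8027 k)) 23 = true := by decide +kernel
theorem wu349 : ∀ i, i < 8050 → fw i = true := below_step fw 8027 23 8050 wu348 wc349 rfl
theorem wc350 : allBelow (fun k => fw (Nat.add 8050 k)) 23 = true := by decide +kernel
theorem wu350 : ∀ i, i < 8073 → fw i = true := below_step fw 8050 23 8073 wu349 wc350 rfl
theorem wc351 : allBelow (fun k => fw (Nat.add 8073 k)) 23 = true := by decide +kernel
theorem wu351 : ∀ i, i < 8096 → fw i = true := below_step fw 8073 23 8096 wu350 wc351 rfl
theorem wc352 : allBelow (fun k => fw (Nat.add 8096 k)) 23 = true := by decide +kernel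
theorem wu352 : ∀ i, i < 8119 → fw i = true := below_step fw 8096 23 8119 wu351 wc352 rfl
theorem wc353 : allBelow (fun k => fw (Nat.add 8119 k)) 23 = true := by decide +kernel
theorem wu353 : ∀ i, i < 8142 → fw i = true := below_step fw 8119 23 8142 wu352 wc353 rfl
theorem wc354 : allBelow (fun k => fw (Nat.add 8142 k)) 23 = true := by decide +kernel
theorem wu354 : ∀ i, i < 8165 → fw i = true := below_step fw 8142 23 8165 wu353 wc354 rfl
theorem wc355 : allBelow (fun k => fw (Nat.add 8165 k)) 23 = true := by decide +kernel
theorem wu355 : ∀ i, i < 8188 → fw i = true := below_step fw 8165 23 8188 wu354 wc355 rfl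
theorem wc356 : allBelow (fun k => fw (Nat.add 8188 k)) 23 = true := by decide +kernel
theorem wu356 : ∀ i, i < 8211 → fw i = true := below_step fw 8188 23 8211 wu355 wc356 rfl
theorem wc357 : allBelow (fun k => fw (Nat.add 8211 k)) 23 = true := by decide +kernel
theorem wu357 : ∀ i, i < 8234 → fw i = true := below_step fw 8211 23 8234 wu356 wc357 rfl
theorem wc358 : allBelow (fun k => fw (Nat.add 8234 k)) 23 = true := by decide +kernel
theorem wu358 : ∀ i, i < 8257 → fw i = true := below_step fw 8234 23 8257 wu357 wc358 rfl
theorem wc359 : allBelow (fun k => fw (Nat.add 8257 k)) 23 = true := by decide +kernel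
theorem wu359 : ∀ i, i < 8280 → fw i = true := below_step fw 8257 23 8280 wu358 wc359 rfl
theorem wc360 : allBelow (fun k => fw (Nat.add 8280 k)) 23 = true := by decide +kernel
theorem wu360 : ∀ i, i < 8303 → fw i = true := below_step fw 8280 23 8303 wu359 wc360 rfl
theorem wc361 : allBelow (fun k => fw (Nat.add 8303 k)) 23 = true := by decide +kernel
theorem wu361 : ∀ i, i < 8326 → fw i = true := below_step fw 8303 23 8326 wu360 wc361 rfl
theorem wc362 : allBelow (fun k => fw (Nat.add 8326 k)) 23 = true := by decide +kernel
theorem wu362 : ∀ i, i < 8349 → fw i = true := below_step fw 8326 23 8349 wu361 wc362 rfl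
theorem wc363 : allBelow (fun k => fw (Nat.add 8349 k)) 23 = true := by decide +kernel
theorem wu363 : ∀ i, i < 8372 → fw i = true := below_step fw 8349 23 8372 wu362 wc363 rfl
theorem wc364 : allBelow (fun k => fw (Nat.add 8372 k)) 23 = true := by decide +kernel
theorem wu364 : ∀ i, i < 8395 → fw i = true := below_step fw 8372 23 8395 wu363 wc364 rfl
theorem wc365 : allBelow (fun k => fw (Nat.add 8395 k)) 23 = true := by decide +kernel
theorem wu365 : ∀ i, i < 8418 → fw i = true := below_step fw 8395 23 8418 wu364 wc365 rfl
theorem wc366 : allBelow (fun k => fw (Nat.add 8418 k)) 23 = true := by decide +kernel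
theorem wu366 : ∀ i, i < 8441 → fw i = true := below_step fw 8418 23 8441 wu365 wc366 rfl
theorem wc367 : allBelow (fun k => fw (Nat.add 8441 k)) 23 = true := by decide +kernel
theorem wu367 : ∀ i, i < 8464 → fw i = true := below_step fw 8441 23 8464 wu366 wc367 rfl
theorem wc368 : allBelow (fun k => fw (Nat.add 8464 k)) 23 = true := by decide +kernel
theorem wu368 : ∀ i, i < 8487 → fw i = true := below_step fw 8464 23 8487 wu367 wc368 rfl
theorem wc369 : allBelow (fun k => fw (Nat.add 8487 k)) 23 = true := by decide +kernel
theorem wu369 : ∀ i, i < 8510 → fw i = true := below_step fw 8487 23 8510 wu368 wc369 rfl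
theorem wc370 : allBelow (fun k => fw (Nat.add 8510 k)) 23 = true := by decide +kernel
theorem wu370 : ∀ i, i < 8533 → fw i = true := below_step fw 8510 23 8533 wu369 wc370 rfl
theorem wc371 : allBelow (fun k => fw (Nat.add 8533 k)) 23 = true := by decide +kernel
theorem wu371 : ∀ i, i < 8556 → fw i = true := below_step fw 8533 23 8556 wu370 wc371 rfl
theorem wc372 : allBelow (fun k => fw (Nat.add 8556 k)) 23 = true := by decide +kernel
theorem wu372 : ∀ i, i < 8579 → fw i = true := below_step fw 8556 23 8579 wu371 wc372 rfl
theorem wc373 : allBelow (fun k => fw (Nat.add 8579 k)) 23 = true := by decide +kernel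
theorem wu373 : ∀ i, i < 8602 → fw i = true := below_step fw 8579 23 8602 wu372 wc373 rfl
theorem wc374 : allBelow (fun k => fw (Nat.add 8602 k)) 23 = true := by decide +kernel
theorem wu374 : ∀ i, i < 8625 → fw i = true := below_step fw 8602 23 8625 wu373 wc374 rfl
theorem wc375 : allBelow (fun k => fw (Nat.add 8625 k)) 23 = true := by decide +kernel
theorem wu375 : ∀ i, i < 8648 → fw i = true := below_step fw 8625 23 8648 wu374 wc375 rfl
theorem wc376 : allBelow (fun k => fw (Nat.add 8648 k)) 23 = true := by decide +kernel
theorem wu376 : ∀ i, i < 8671 → fw i = true := below_step fw 8648 23 8671 wu375 wc376 rfl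
theorem wc377 : allBelow (fun k => fw (Nat.add 8671 k)) 23 = true := by decide +kernel
theorem wu377 : ∀ i, i < 8694 → fw i = true := below_step fw 8671 23 8694 wu376 wc377 rfl
theorem wc378 : allBelow (fun k => fw (Nat.add 8694 k)) 23 = true := by decide +kernel
theorem wu378 : ∀ i, i < 8717 → fw i = true := below_step fw 8694 23 8717 wu377 wc378 rfl
theorem wc379 : allBelow (fun k => fw (Nat.add 8717 k)) 23 = true := by decide +kernel
theorem wu379 : ∀ i, i < 8740 → fw i = true := below_step fw 8717 23 8740 wu378 wc379 rfl
theorem wc380 : allBelow (fun k => fw (Nat.add 8740 k)) 23 = true := by decide +kernel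
theorem wu380 : ∀ i, i < 8763 → fw i = true := below_step fw 8740 23 8763 wu379 wc380 rfl
theorem wc381 : allBelow (fun k => fw (Nat.add 8763 k)) 23 = true := by decide +kernel
theorem wu381 : ∀ i, i < 8786 → fw i = true := below_step fw 8763 23 8786 wu380 wc381 rfl
theorem wc382 : allBelow (fun k => fw (Nat.add 8786 k)) 23 = true := by decide +kernel
theorem wu382 : ∀ i, i < 8809 → fw i = true := below_step fw 8786 23 8809 wu381 wc382 rfl
theorem wc383 : allBelow (fun k => fw (Nat.add 8809 k)) 23 = true := by decide +kernel
theorem wu383 : ∀ i, i < 8832 → fw i = true := below_step fw 8809 23 8832 wu382 wc383 rfl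
theorem wc384 : allBelow (fun k => fw (Nat.add 8832 k)) 23 = true := by decide +kernel
theorem wu384 : ∀ i, i < 8855 → fw i = true := below_step fw 8832 23 8855 wu383 wc384 rfl
theorem wc385 : allBelow (fun k => fw (Nat.add 8855 k)) 23 = true := by decide +kernel
theorem wu385 : ∀ i, i < 8878 → fw i = true := below_step fw 8855 23 8878 wu384 wc385 rfl
theorem wc386 : allBelow (fun k => fw (Nat.add 8878 k)) 23 = true := by decide +kernel
theorem wu386 : ∀ i, i < 8901 → fw i = true := below_step fw 8878 23 8901 wu385 wc386 rfl
theorem wc387 : allBelow (fun k => fw (Nat.add 8901 k)) 23 = true := by decide +kernel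
theorem wu387 : ∀ i, i < 8924 → fw i = true := below_step fw 8901 23 8924 wu386 wc387 rfl
theorem wc388 : allBelow (fun k => fw (Nat.add 8924 k)) 23 = true := by decide +kernel
theorem wu388 : ∀ i, i < 8947 → fw i = true := below_step fw 8924 23 8947 wu387 wc388 rfl
theorem wc389 : allBelow (fun k => fw (Nat.add 8947 k)) 23 = true := by decide +kernel
theorem wu389 : ∀ i, i < 8970 → fw i = true := below_step fw 8947 23 8970 wu388 wc389 rfl
theorem wc390 : allBelow (fun k => fw (Nat.add 8970 k)) 23 = true := by decide +kernel
theorem wu390 : ∀ i, i < 8993 → fw i = true := below_step fw 8970 23 8993 wu389 wc390 rfl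
theorem wc391 : allBelow (fun k => fw (Nat.add 8993 k)) 23 = true := by decide +kernel
theorem wu391 : ∀ i, i < 9016 → fw i = true := below_step fw 8993 23 9016 wu390 wc391 rfl
theorem wc392 : allBelow (fun k => fw (Nat.add 9016 k)) 23 = true := by decide +kernel
theorem wu392 : ∀ i, i < 9039 → fw i = true := below_step fw 9016 23 9039 wu391 wc392 rfl
theorem wc393 : allBelow (fun k => fw (Nat.add 9039 k)) 23 = true := by decide +kernel
theorem wu393 : ∀ i, i < 9062 → fw i = true := below_step fw 9039 23 9062 wu392 wc393 rfl
theorem wc394 : allBelow (fun k => fw (Nat.add 9062 k)) 23 = true := by decide +kernel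
theorem wu394 : ∀ i, i < 9085 → fw i = true := below_step fw 9062 23 9085 wu393 wc394 rfl
theorem wc395 : allBelow (fun k => fw (Nat.add 9085 k)) 23 = true := by decide +kernel
theorem wu395 : ∀ i, i < 9108 → fw i = true := below_step fw 9085 23 9108 wu394 wc395 rfl
theorem wc396 : allBelow (fun k => fw (Nat.add 9108 k)) 23 = true := by decide +kernel
theorem wu396 : ∀ i, i < 9131 → fw i = true := below_step fw 9108 23 9131 wu395 wc396 rfl
theorem wc397 : allBelow (fun k => fw (Nat.add 9131 k)) 23 = true := by decide +kernel
theorem wu397 : ∀ i, i < 9154 → fw i = true := below_step fw 9131 23 9154 wu396 wc397 rfl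
theorem wc398 : allBelow (fun k => fw (Nat.add 9154 k)) 23 = true := by decide +kernel
theorem wu398 : ∀ i, i < 9177 → fw i = true := below_step fw 9154 23 9177 wu397 wc398 rfl
theorem wc399 : allBelow (fun k => fw (Nat.add 9177 k)) 23 = true := by decide +kernel
theorem wu399 : ∀ i, i < 9200 → fw i = true := below_step fw 9177 23 9200 wu398 wc399 rfl
theorem wc400 : allBelow (fun k => fw (Nat.add 9200 k)) 23 = true := by decide +kernel
theorem wu400 : ∀ i, i < 9223 → fw i = true := below_step fw 9200 23 9223 wu399 wc400 rfl
theorem wc401 : allBelow (fun k => fw (Nat.add 9223 k)) 23 = true := by decide +kernel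
theorem wu401 : ∀ i, i < 9246 → fw i = true := below_step fw 9223 23 9246 wu400 wc401 rfl
theorem wc402 : allBelow (fun k => fw (Nat.add 9246 k)) 23 = true := by decide +kernel
theorem wu402 : ∀ i, i < 9269 → fw i = true := below_step fw 9246 23 9269 wu401 wc402 rfl
theorem wc403 : allBelow (fun k => fw (Nat.add 9269 k)) 23 = true := by decide +kernel
theorem wu403 : ∀ i, i < 9292 → fw i = true := below_step fw 9269 23 9292 wu402 wc403 rfl
theorem wc404 : allBelow (fun k => fw (Nat.add 9292 k)) 23 = true := by decide +kernel
theorem wu404 : ∀ i, i < 9315 → fw i = true := below_step fw 9292 23 9315 wu403 wc404 rfl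
theorem wc405 : allBelow (fun k => fw (Nat.add 9315 k)) 23 = true := by decide +kernel
theorem wu405 : ∀ i, i < 9338 → fw i = true := below_step fw 9315 23 9338 wu404 wc405 rfl
theorem wc406 : allBelow (fun k => fw (Nat.add 9338 k)) 23 = true := by decide +kernel
theorem wu406 : ∀ i, i < 9361 → fw i = true := below_step fw 9338 23 9361 wu405 wc406 rfl
theorem wc407 : allBelow (fun k => fw (Nat.add 9361 k)) 23 = true := by decide +kernel
theorem wu407 : ∀ i, i < 9384 → fw i = true := below_step fw 9361 23 9384 wu406 wc407 rfl
theorem wc408 : allBelow (fun k => fw (Nat.add 9384 k)) 23 = true := by decide +kernel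
theorem wu408 : ∀ i, i < 9407 → fw i = true := below_step fw 9384 23 9407 wu407 wc408 rfl
theorem wc409 : allBelow (fun k => fw (Nat.add 9407 k)) 23 = true := by decide +kernel
theorem wu409 : ∀ i, i < 9430 → fw i = true := below_step fw 9407 23 9430 wu408 wc409 rfl
theorem wc410 : allBelow (fun k => fw (Nat.add 9430 k)) 23 = true := by decide +kernel
theorem wu410 : ∀ i, i < 9453 → fw i = true := below_step fw 9430 23 9453 wu409 wc410 rfl
theorem wc411 : allBelow (fun k => fw (Nat.add 9453 k)) 23 = true := by decide +kernel
theorem wu411 : ∀ i, i < 9476 → fw i = true := below_step fw 9453 23 9476 wu410 wc411 rfl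
theorem wc412 : allBelow (fun k => fw (Nat.add 9476 k)) 23 = true := by decide +kernel
theorem wu412 : ∀ i, i < 9499 → fw i = true := below_step fw 9476 23 9499 wu411 wc412 rfl
theorem wc413 : allBelow (fun k => fw (Nat.add 9499 k)) 23 = true := by decide +kernel
theorem wu413 : ∀ i, i < 9522 → fw i = true := below_step fw 9499 23 9522 wu412 wc413 rfl
theorem wc414 : allBelow (fun k => fw (Nat.add 9522 k)) 23 = true := by decide +kernel
theorem wu414 : ∀ i, i < 9545 → fw i = true := below_step fw 9522 23 9545 wu413 wc414 rfl
theorem wc415 : allBelow (fun k => fw (Nat.add 9545 k)) 23 = true := by decide +kernel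
theorem wu415 : ∀ i, i < 9568 → fw i = true := below_step fw 9545 23 9568 wu414 wc415 rfl
theorem wc416 : allBelow (fun k => fw (Nat.add 9568 k)) 23 = true := by decide +kernel
theorem wu416 : ∀ i, i < 9591 → fw i = true := below_step fw 9568 23 9591 wu415 wc416 rfl
theorem wc417 : allBelow (fun k => fw (Nat.add 9591 k)) 23 = true := by decide +kernel
theorem wu417 : ∀ i, i < 9614 → fw i = true := below_step fw 9591 23 9614 wu416 wc417 rfl
theorem wc418 : allBelow (fun k => fw (Nat.add 9614 k)) 23 = true := by decide +kernel
theorem wu418 : ∀ i, i < 9637 → fw i = true := below_step fw 9614 23 9637 wu417 wc418 rfl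
theorem wc419 : allBelow (fun k => fw (Nat.add 9637 k)) 23 = true := by decide +kernel
theorem wu419 : ∀ i, i < 9660 → fw i = true := below_step fw 9637 23 9660 wu418 wc419 rfl
theorem wc420 : allBelow (fun k => fw (Nat.add 9660 k)) 23 = true := by decide +kernel
theorem wu420 : ∀ i, i < 9683 → fw i = true := below_step fw 9660 23 9683 wu419 wc420 rfl
theorem wc421 : allBelow (fun k => fw (Nat.add 9683 k)) 23 = true := by decide +kernel
theorem wu421 : ∀ i, i < 9706 → fw i = true := below_step fw 9683 23 9706 wu420 wc421 rfl
theorem wc422 : allBelow (fun k => fw (Nat.add 9706 k)) 23 = true := by decide +kernel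
theorem wu422 : ∀ i, i < 9729 → fw i = true := below_step fw 9706 23 9729 wu421 wc422 rfl
theorem wc423 : allBelow (fun k => fw (Nat.add 9729 k)) 23 = true := by decide +kernel
theorem wu423 : ∀ i, i < 9752 → fw i = true := below_step fw 9729 23 9752 wu422 wc423 rfl
theorem wc424 : allBelow (fun k => fw (Nat.add 9752 k)) 23 = true := by decide +kernel
theorem wu424 : ∀ i, i < 9775 → fw i = true := below_step fw 9752 23 9775 wu423 wc424 rfl
theorem wc425 : allBelow (fun k => fw (Nat.add 9775 k)) 23 = true := by decide +kernel
theorem wu425 : ∀ i, i < 9798 → fw i = true := below_step fw 9775 23 9798 wu424 wc425 rfl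
theorem wc426 : allBelow (fun k => fw (Nat.add 9798 k)) 23 = true := by decide +kernel
theorem wu426 : ∀ i, i < 9821 → fw i = true := below_step fw 9798 23 9821 wu425 wc426 rfl
theorem wc427 : allBelow (fun k => fw (Nat.add 9821 k)) 23 = true := by decide +kernel
theorem wu427 : ∀ i, i < 9844 → fw i = true := below_step fw 9821 23 9844 wu426 wc427 rfl
theorem wc428 : allBelow (fun k => fw (Nat.add 9844 k)) 23 = true := by decide +kernel
theorem wu428 : ∀ i, i < 9867 → fw i = true := below_step fw 9844 23 9867 wu427 wc428 rfl
theorem wc429 : allBelow (fun k => fw (Nat.add 9867 k)) 23 = true := by decide +kernel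
theorem wu429 : ∀ i, i < 9890 → fw i = true := below_step fw 9867 23 9890 wu428 wc429 rfl
theorem wc430 : allBelow (fun k => fw (Nat.add 9890 k)) 23 = true := by decide +kernel
theorem wu430 : ∀ i, i < 9913 → fw i = true := below_step fw 9890 23 9913 wu429 wc430 rfl
theorem wc431 : allBelow (fun k => fw (Nat.add 9913 k)) 23 = true := by decide +kernel
theorem wu431 : ∀ i, i < 9936 → fw i = true := below_step fw 9913 23 9936 wu430 wc431 rfl
theorem wc432 : allBelow (fun k => fw (Nat.add 9936 k)) 23 = true := by decide +kernel
theorem wu432 : ∀ i, i < 9959 → fw i = true := below_step fw 9936 23 9959 wu431 wc432 rfl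
theorem wc433 : allBelow (fun k => fw (Nat.add 9959 k)) 23 = true := by decide +kernel
theorem wu433 : ∀ i, i < 9982 → fw i = true := below_step fw 9959 23 9982 wu432 wc433 rfl
theorem wc434 : allBelow (fun k => fw (Nat.add 9982 k)) 23 = true := by decide +kernel
theorem wu434 : ∀ i, i < 10005 → fw i = true := below_step fw 9982 23 10005 wu433 wc434 rfl
theorem wc435 : allBelow (fun k => fw (Nat.add 10005 k)) 23 = true := by decide +kernel
theorem wu435 : ∀ i, i < 10028 → fw i = true := below_step fw 10005 23 10028 wu434 wc435 rfl
theorem wc436 : allBelow (fun k => fw (Nat.add 10028 k)) 23 = true := by decide +kernel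
theorem wu436 : ∀ i, i < 10051 → fw i = true := below_step fw 10028 23 10051 wu435 wc436 rfl
theorem wc437 : allBelow (fun k => fw (Nat.add 10051 k)) 23 = true := by decide +kernel
theorem wu437 : ∀ i, i < 10074 → fw i = true := below_step fw 10051 23 10074 wu436 wc437 rfl
theorem wc438 : allBelow (fun k => fw (Nat.add 10074 k)) 23 = true := by decide +kernel
theorem wu438 : ∀ i, i < 10097 → fw i = true := below_step fw 10074 23 10097 wu437 wc438 rfl
theorem wc439 : allBelow (fun k => fw (Nat.add 10097 k)) 23 = true := by decide +kernel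
theorem wu439 : ∀ i, i < 10120 → fw i = true := below_step fw 10097 23 10120 wu438 wc439 rfl
theorem wc440 : allBelow (fun k => fw (Nat.add 10120 k)) 23 = true := by decide +kernel
theorem wu440 : ∀ i, i < 10143 → fw i = true := below_step fw 10120 23 10143 wu439 wc440 rfl
theorem wc441 : allBelow (fun k => fw (Nat.add 10143 k)) 23 = true := by decide +kernel
theorem wu441 : ∀ i, i < 10166 → fw i = true := below_step fw 10143 23 10166 wu440 wc441 rfl
theorem wc442 : allBelow (fun k => fw (Nat.add 10166 k)) 23 = true := by decide +kernel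
theorem wu442 : ∀ i, i < 10189 → fw i = true := below_step fw 10166 23 10189 wu441 wc442 rfl
theorem wc443 : allBelow (fun k => fw (Nat.add 10189 k)) 23 = true := by decide +kernel
theorem wu443 : ∀ i, i < 10212 → fw i = true := below_step fw 10189 23 10212 wu442 wc443 rfl
theorem wc444 : allBelow (fun k => fw (Nat.add 10212 k)) 23 = true := by decide +kernel
theorem wu444 : ∀ i, i < 10235 → fw i = true := below_step fw 10212 23 10235 wu443 wc444 rfl
theorem wc445 : allBelow (fun k => fw (Nat.add 10235 k)) 23 = true := by decide +kernel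
theorem wu445 : ∀ i, i < 10258 → fw i = true := below_step fw 10235 23 10258 wu444 wc445 rfl
theorem wc446 : allBelow (fun k => fw (Nat.add 10258 k)) 23 = true := by decide +kernel
theorem wu446 : ∀ i, i < 10281 → fw i = true := below_step fw 10258 23 10281 wu445 wc446 rfl
theorem wc447 : allBelow (fun k => fw (Nat.add 10281 k)) 23 = true := by decide +kernel
theorem wu447 : ∀ i, i < 10304 → fw i = true := below_step fw 10281 23 10304 wu446 wc447 rfl
theorem wc448 : allBelow (fun k => fw (Nat.add 10304 k)) 23 = true := by decide +kernel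
theorem wu448 : ∀ i, i < 10327 → fw i = true := below_step fw 10304 23 10327 wu447 wc448 rfl
theorem wc449 : allBelow (fun k => fw (Nat.add 10327 k)) 23 = true := by decide +kernel
theorem wu449 : ∀ i, i < 10350 → fw i = true := below_step fw 10327 23 10350 wu448 wc449 rfl
theorem wc450 : allBelow (fun k => fw (Nat.add 10350 k)) 23 = true := by decide +kernel
theorem wu450 : ∀ i, i < 10373 → fw i = true := below_step fw 10350 23 10373 wu449 wc450 rfl
theorem wc451 : allBelow (fun k => fw (Nat.add 10373 k)) 23 = true := by decide +kernel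
theorem wu451 : ∀ i, i < 10396 → fw i = true := below_step fw 10373 23 10396 wu450 wc451 rfl
theorem wc452 : allBelow (fun k => fw (Nat.add 10396 k)) 23 = true := by decide +kernel
theorem wu452 : ∀ i, i < 10419 → fw i = true := below_step fw 10396 23 10419 wu451 wc452 rfl
theorem wc453 : allBelow (fun k => fw (Nat.add 10419 k)) 23 = true := by decide +kernel
theorem wu453 : ∀ i, i < 10442 → fw i = true := below_step fw 10419 23 10442 wu452 wc453 rfl
theorem wc454 : allBelow (fun k => fw (Nat.add 10442 k)) 23 = true := by decide +kernel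
theorem wu454 : ∀ i, i < 10465 → fw i = true := below_step fw 10442 23 10465 wu453 wc454 rfl
theorem wc455 : allBelow (fun k => fw (Nat.add 10465 k)) 23 = true := by decide +kernel
theorem wu455 : ∀ i, i < 10488 → fw i = true := below_step fw 10465 23 10488 wu454 wc455 rfl
theorem wc456 : allBelow (fun k => fw (Nat.add 10488 k)) 23 = true := by decide +kernel
theorem wu456 : ∀ i, i < 10511 → fw i = true := below_step fw 10488 23 10511 wu455 wc456 rfl
theorem wc457 : allBelow (fun k => fw (Nat.add 10511 k)) 23 = true := by decide +kernel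
theorem wu457 : ∀ i, i < 10534 → fw i = true := below_step fw 10511 23 10534 wu456 wc457 rfl
theorem wc458 : allBelow (fun k => fw (Nat.add 10534 k)) 23 = true := by decide +kernel
theorem wu458 : ∀ i, i < 10557 → fw i = true := below_step fw 10534 23 10557 wu457 wc458 rfl
theorem wc459 : allBelow (fun k => fw (Nat.add 10557 k)) 23 = true := by decide +kernel
theorem wu459 : ∀ i, i < 10580 → fw i = true := below_step fw 10557 23 10580 wu458 wc459 rfl
theorem wc460 : allBelow (fun k => fw (Nat.add 10580 k)) 23 = true := by decide +kernel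
theorem wu460 : ∀ i, i < 10603 → fw i = true := below_step fw 10580 23 10603 wu459 wc460 rfl
theorem wc461 : allBelow (fun k => fw (Nat.add 10603 k)) 23 = true := by decide +kernel
theorem wu461 : ∀ i, i < 10626 → fw i = true := below_step fw 10603 23 10626 wu460 wc461 rfl
theorem wc462 : allBelow (fun k => fw (Nat.add 10626 k)) 23 = true := by decide +kernel
theorem wu462 : ∀ i, i < 10649 → fw i = true := below_step fw 10626 23 10649 wu461 wc462 rfl
theorem wc463 : allBelow (fun k => fw (Nat.add 10649 k)) 23 = true := by decide +kernel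
theorem wu463 : ∀ i, i < 10672 → fw i = true := below_step fw 10649 23 10672 wu462 wc463 rfl
theorem wc464 : allBelow (fun k => fw (Nat.add 10672 k)) 23 = true := by decide +kernel
theorem wu464 : ∀ i, i < 10695 → fw i = true := below_step fw 10672 23 10695 wu463 wc464 rfl
theorem wc465 : allBelow (fun k => fw (Nat.add 10695 k)) 23 = true := by decide +kernel
theorem wu465 : ∀ i, i < 10718 → fw i = true := below_step fw 10695 23 10718 wu464 wc465 rfl
theorem wc466 : allBelow (fun k => fw (Nat.add 10718 k)) 23 = true := by decide +kernel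
theorem wu466 : ∀ i, i < 10741 → fw i = true := below_step fw 10718 23 10741 wu465 wc466 rfl
theorem wc467 : allBelow (fun k => fw (Nat.add 10741 k)) 23 = true := by decide +kernel
theorem wu467 : ∀ i, i < 10764 → fw i = true := below_step fw 10741 23 10764 wu466 wc467 rfl
theorem wc468 : allBelow (fun k => fw (Nat.add 10764 k)) 23 = true := by decide +kernel
theorem wu468 : ∀ i, i < 10787 → fw i = true := below_step fw 10764 23 10787 wu467 wc468 rfl
theorem wc469 : allBelow (fun k => fw (Nat.add 10787 k)) 23 = true := by decide +kernel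
theorem wu469 : ∀ i, i < 10810 → fw i = true := below_step fw 10787 23 10810 wu468 wc469 rfl
theorem wc470 : allBelow (fun k => fw (Nat.add 10810 k)) 23 = true := by decide +kernel
theorem wu470 : ∀ i, i < 10833 → fw i = true := below_step fw 10810 23 10833 wu469 wc470 rfl
theorem wc471 : allBelow (fun k => fw (Nat.add 10833 k)) 23 = true := by decide +kernel
theorem wu471 : ∀ i, i < 10856 → fw i = true := below_step fw 10833 23 10856 wu470 wc471 rfl
theorem wc472 : allBelow (fun k => fw (Nat.add 10856 k)) 23 = true := by decide +kernel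
theorem wu472 : ∀ i, i < 10879 → fw i = true := below_step fw 10856 23 10879 wu471 wc472 rfl
theorem wc473 : allBelow (fun k => fw (Nat.add 10879 k)) 23 = true := by decide +kernel
theorem wu473 : ∀ i, i < 10902 → fw i = true := below_step fw 10879 23 10902 wu472 wc473 rfl
theorem wc474 : allBelow (fun k => fw (Nat.add 10902 k)) 23 = true := by decide +kernel
theorem wu474 : ∀ i, i < 10925 → fw i = true := below_step fw 10902 23 10925 wu473 wc474 rfl
theorem wc475 : allBelow (fun k => fw (Nat.add 10925 k)) 23 = true := by decide +kernel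
theorem wu475 : ∀ i, i < 10948 → fw i = true := below_step fw 10925 23 10948 wu474 wc475 rfl
theorem wc476 : allBelow (fun k => fw (Nat.add 10948 k)) 23 = true := by decide +kernel
theorem wu476 : ∀ i, i < 10971 → fw i = true := below_step fw 10948 23 10971 wu475 wc476 rfl
theorem wc477 : allBelow (fun k => fw (Nat.add 10971 k)) 23 = true := by decide +kernel
theorem wu477 : ∀ i, i < 10994 → fw i = true := below_step fw 10971 23 10994 wu476 wc477 rfl
theorem wc478 : allBelow (fun k => fw (Nat.add 10994 k)) 23 = true := by decide +kernel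
theorem wu478 : ∀ i, i < 11017 → fw i = true := below_step fw 10994 23 11017 wu477 wc478 rfl
theorem wc479 : allBelow (fun k => fw (Nat.add 11017 k)) 23 = true := by decide +kernel
theorem wu479 : ∀ i, i < 11040 → fw i = true := below_step fw 11017 23 11040 wu478 wc479 rfl
theorem wc480 : allBelow (fun k => fw (Nat.add 11040 k)) 23 = true := by decide +kernel
theorem wu480 : ∀ i, i < 11063 → fw i = true := below_step fw 11040 23 11063 wu479 wc480 rfl
theorem wc481 : allBelow (fun k => fw (Nat.add 11063 k)) 23 = true := by decide +kernel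
theorem wu481 : ∀ i, i < 11086 → fw i = true := below_step fw 11063 23 11086 wu480 wc481 rfl
theorem wc482 : allBelow (fun k => fw (Nat.add 11086 k)) 23 = true := by decide +kernel
theorem wu482 : ∀ i, i < 11109 → fw i = true := below_step fw 11086 23 11109 wu481 wc482 rfl
theorem wc483 : allBelow (fun k => fw (Nat.add 11109 k)) 23 = true := by decide +kernel
theorem wu483 : ∀ i, i < 11132 → fw i = true := below_step fw 11109 23 11132 wu482 wc483 rfl
theorem wc484 : allBelow (fun k => fw (Nat.add 11132 k)) 23 = true := by decide +kernel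
theorem wu484 : ∀ i, i < 11155 → fw i = true := below_step fw 11132 23 11155 wu483 wc484 rfl
theorem wc485 : allBelow (fun k => fw (Nat.add 11155 k)) 23 = true := by decide +kernel
theorem wu485 : ∀ i, i < 11178 → fw i = true := below_step fw 11155 23 11178 wu484 wc485 rfl
theorem wc486 : allBelow (fun k => fw (Nat.add 11178 k)) 23 = true := by decide +kernel
theorem wu486 : ∀ i, i < 11201 → fw i = true := below_step fw 11178 23 11201 wu485 wc486 rfl
theorem wc487 : allBelow (fun k => fw (Nat.add 11201 k)) 23 = true := by decide +kernel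
theorem wu487 : ∀ i, i < 11224 → fw i = true := below_step fw 11201 23 11224 wu486 wc487 rfl
theorem wc488 : allBelow (fun k => fw (Nat.add 11224 k)) 23 = true := by decide +kernel
theorem wu488 : ∀ i, i < 11247 → fw i = true := below_step fw 11224 23 11247 wu487 wc488 rfl
theorem wc489 : allBelow (fun k => fw (Nat.add 11247 k)) 23 = true := by decide +kernel
theorem wu489 : ∀ i, i < 11270 → fw i = true := below_step fw 11247 23 11270 wu488 wc489 rfl

end Cfsg.Agent.Lib.Helper35.Fi23Tr.X
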