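import Cfsg.Agent.Lib.Helper35.Fi23Tr.X.Chk1

set_option Elab.async false

namespace Cfsg.Agent.Lib.Helper35.Fi23Tr.X

open Cfsg.Agent.Lib.Helper35

theorem wc490 : allBelow (fun k => fw (Nat.add 11270 k)) 23 = true := by decide +kernel
theorem wu490 : ∀ i, i < 11293 → fw i = true := below_step fw 11270 23 11293 wu489 wc490 rfl
theorem wc491 : allBelow (fun k => fw (Nat.add 11293 k)) 23 = true := by decide +kernel
theorem wu491 : ∀ i, i < 11316 → fw i = true := below_step fw 11293 23 11316 wu490 wc491 rfl
theorem wc492 : allBelow (fun k => fw (Nat.add 11316 k)) 23 = true := by decide +kernel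
theorem wu492 : ∀ i, i < 11339 → fw i = true := below_step fw 11316 23 11339 wu491 wc492 rfl
theorem wc493 : allBelow (fun k => fw (Nat.add 11339 k)) 23 = true := by decide +kernel
theorem wu493 : ∀ i, i < 11362 → fw i = true := below_step fw 11339 23 11362 wu492 wc493 rfl
theorem wc494 : allBelow (fun k => fw (Nat.add 11362 k)) 23 = true := by decide +kernel
theorem wu494 : ∀ i, i < 11385 → fw i = true := below_step fw 11362 23 11385 wu493 wc494 rfl
theorem wc495 : allBelow (fun k => fw (Nat.add 11385 k)) 23 = true := by decide +kernel
theorem wu495 : ∀ i, i < 11408 → fw i = true := below_step fw 11385 23 11408 wu494 wc495 rfl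
theorem wc496 : allBelow (fun k => fw (Nat.add 11408 k)) 23 = true := by decide +kernel
theorem wu496 : ∀ i, i < 11431 → fw i = true := below_step fw 11408 23 11431 wu495 wc496 rfl
theorem wc497 : allBelow (fun k => fw (Nat.add 11431 k)) 23 = true := by decide +kernel
theorem wu497 : ∀ i, i < 11454 → fw i = true := below_step fw 11431 23 11454 wu496 wc497 rfl
theorem wc498 : allBelow (fun k => fw (Nat.add 11454 k)) 23 = true := by decide +kernel
theorem wu498 : ∀ i, i < 11477 → fw i = true := below_step fw 11454 23 11477 wu497 wc498 rfl
theorem wc499 : allBelow (fun k => fw (Nat.add 11477 k)) 23 = true := by decide +kernel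
theorem wu499 : ∀ i, i < 11500 → fw i = true := below_step fw 11477 23 11500 wu498 wc499 rfl
theorem wc500 : allBelow (fun k => fw (Nat.add 11500 k)) 23 = true := by decide +kernel
theorem wu500 : ∀ i, i < 11523 → fw i = true := below_step fw 11500 23 11523 wu499 wc500 rfl
theorem wc501 : allBelow (fun k => fw (Nat.add 11523 k)) 23 = true := by decide +kernel
theorem wu501 : ∀ i, i < 11546 → fw i = true := below_step fw 11523 23 11546 wu500 wc501 rfl
theorem wc502 : allBelow (fun k => fw (Nat.add 11546 k)) 23 = true := by decide +kernel
theorem wu502 : ∀ i, i < 11569 → fw i = true := below_step fw 11546 23 11569 wu501 wc502 rfl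
theorem wc503 : allBelow (fun k => fw (Nat.add 11569 k)) 23 = true := by decide +kernel
theorem wu503 : ∀ i, i < 11592 → fw i = true := below_step fw 11569 23 11592 wu502 wc503 rfl
theorem wc504 : allBelow (fun k => fw (Nat.add 11592 k)) 23 = true := by decide +kernel
theorem wu504 : ∀ i, i < 11615 → fw i = true := below_step fw 11592 23 11615 wu503 wc504 rfl
theorem wc505 : allBelow (fun k => fw (Nat.add 11615 k)) 23 = true := by decide +kernel
theorem wu505 : ∀ i, i < 11638 → fw i = true := below_step fw 11615 23 11638 wu504 wc505 rfl
theorem wc506 : allBelow (fun k => fw (Nat.add 11638 k)) 23 = true := by decide +kernel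
theorem wu506 : ∀ i, i < 11661 → fw i = true := below_step fw 11638 23 11661 wu505 wc506 rfl
theorem wc507 : allBelow (fun k => fw (Nat.add 11661 k)) 23 = true := by decide +kernel
theorem wu507 : ∀ i, i < 11684 → fw i = true := below_step fw 11661 23 11684 wu506 wc507 rfl
theorem wc508 : allBelow (fun k => fw (Nat.add 11684 k)) 23 = true := by decide +kernel
theorem wu508 : ∀ i, i < 11707 → fw i = true := below_step fw 11684 23 11707 wu507 wc508 rfl
theorem wc509 : allBelow (fun k => fw (Nat.add 11707 k)) 23 = true := by decide +kernel
theorem wu509 : ∀ i, i < 11730 → fw i = true := below_step fw 11707 23 11730 wu508 wc509 rfl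
theorem wc510 : allBelow (fun k => fw (Nat.add 11730 k)) 23 = true := by decide +kernel
theorem wu510 : ∀ i, i < 11753 → fw i = true := below_step fw 11730 23 11753 wu509 wc510 rfl
theorem wc511 : allBelow (fun k => fw (Nat.add 11753 k)) 23 = true := by decide +kernel
theorem wu511 : ∀ i, i < 11776 → fw i = true := below_step fw 11753 23 11776 wu510 wc511 rfl
theorem wc512 : allBelow (fun k => fw (Nat.add 11776 k)) 23 = true := by decide +kernel
theorem wu512 : ∀ i, i < 11799 → fw i = true := below_step fw 11776 23 11799 wu511 wc512 rfl
theorem wc513 : allBelow (fun k => fw (Nat.add 11799 k)) 23 = true := by decide +kernel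
theorem wu513 : ∀ i, i < 11822 → fw i = true := below_step fw 11799 23 11822 wu512 wc513 rfl
theorem wc514 : allBelow (fun k => fw (Nat.add 11822 k)) 23 = true := by decide +kernel
theorem wu514 : ∀ i, i < 11845 → fw i = true := below_step fw 11822 23 11845 wu513 wc514 rfl
theorem wc515 : allBelow (fun k => fw (Nat.add 11845 k)) 23 = true := by decide +kernel
theorem wu515 : ∀ i, i < 11868 → fw i = true := below_step fw 11845 23 11868 wu514 wc515 rfl
theorem wc516 : allBelow (fun k => fw (Nat.add 11868 k)) 23 = true := by decide +kernel
theorem wu516 : ∀ i, i < 11891 → fw i = true := below_step fw 11868 23 11891 wu515 wc516 rfl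
theorem wc517 : allBelow (fun k => fw (Nat.add 11891 k)) 23 = true := by decide +kernel
theorem wu517 : ∀ i, i < 11914 → fw i = true := below_step fw 11891 23 11914 wu516 wc517 rfl
theorem wc518 : allBelow (fun k => fw (Nat.add 11914 k)) 23 = true := by decide +kernel
theorem wu518 : ∀ i, i < 11937 → fw i = true := below_step fw 11914 23 11937 wu517 wc518 rfl
theorem wc519 : allBelow (fun k => fw (Nat.add 11937 k)) 23 = true := by decide +kernel
theorem wu519 : ∀ i, i < 11960 → fw i = true := below_step fw 11937 23 11960 wu518 wc519 rfl
theorem wc520 : allBelow (fun k => fw (Nat.add 11960 k)) 23 = true := by decide +kernel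
theorem wu520 : ∀ i, i < 11983 → fw i = true := below_step fw 11960 23 11983 wu519 wc520 rfl
theorem wc521 : allBelow (fun k => fw (Nat.add 11983 k)) 23 = true := by decide +kernel
theorem wu521 : ∀ i, i < 12006 → fw i = true := below_step fw 11983 23 12006 wu520 wc521 rfl
theorem wc522 : allBelow (fun k => fw (Nat.add 12006 k)) 23 = true := by decide +kernel
theorem wu522 : ∀ i, i < 12029 → fw i = true := below_step fw 12006 23 12029 wu521 wc522 rfl
theorem wc523 : allBelow (fun k => fw (Nat.add 12029 k)) 23 = true := by decide +kernel
theorem wu523 : ∀ i, i < 12052 → fw i = true := below_step fw 12029 23 12052 wu522 wc523 rfl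
theorem wc524 : allBelow (fun k => fw (Nat.add 12052 k)) 23 = true := by decide +kernel
theorem wu524 : ∀ i, i < 12075 → fw i = true := below_step fw 12052 23 12075 wu523 wc524 rfl
theorem wc525 : allBelow (fun k => fw (Nat.add 12075 k)) 23 = true := by decide +kernel
theorem wu525 : ∀ i, i < 12098 → fw i = true := below_step fw 12075 23 12098 wu524 wc525 rfl
theorem wc526 : allBelow (fun k => fw (Nat.add 12098 k)) 23 = true := by decide +kernel
theorem wu526 : ∀ i, i < 12121 → fw i = true := below_step fw 12098 23 12121 wu525 wc526 rfl
theorem wc527 : allBelow (fun k => fw (Nat.add 12121 k)) 23 = true := by decide +kernel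
theorem wu527 : ∀ i, i < 12144 → fw i = true := below_step fw 12121 23 12144 wu526 wc527 rfl
theorem wc528 : allBelow (fun k => fw (Nat.add 12144 k)) 23 = true := by decide +kernel
theorem wu528 : ∀ i, i < 12167 → fw i = true := below_step fw 12144 23 12167 wu527 wc528 rfl
theorem wc529 : allBelow (fun k => fw (Nat.add 12167 k)) 23 = true := by decide +kernel
theorem wu529 : ∀ i, i < 12190 → fw i = true := below_step fw 12167 23 12190 wu528 wc529 rfl
theorem wc530 : allBelow (fun k => fw (Nat.add 12190 k)) 23 = true := by decide +kernel
theorem wu530 : ∀ i, i < 12213 → fw i = true := below_step fw 12190 23 12213 wu529 wc530 rfl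
theorem wc531 : allBelow (fun k => fw (Nat.add 12213 k)) 23 = true := by decide +kernel
theorem wu531 : ∀ i, i < 12236 → fw i = true := below_step fw 12213 23 12236 wu530 wc531 rfl
theorem wc532 : allBelow (fun k => fw (Nat.add 12236 k)) 23 = true := by decide +kernel
theorem wu532 : ∀ i, i < 12259 → fw i = true := below_step fw 12236 23 12259 wu531 wc532 rfl
theorem wc533 : allBelow (fun k => fw (Nat.add 12259 k)) 23 = true := by decide +kernel
theorem wu533 : ∀ i, i < 12282 → fw i = true := below_step fw 12259 23 12282 wu532 wc533 rfl
theorem wc534 : allBelow (fun k => fw (Nat.add 12282 k)) 23 = true := by decide +kernel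
theorem wu534 : ∀ i, i < 12305 → fw i = true := below_step fw 12282 23 12305 wu533 wc534 rfl
theorem wc535 : allBelow (fun k => fw (Nat.add 12305 k)) 23 = true := by decide +kernel
theorem wu535 : ∀ i, i < 12328 → fw i = true := below_step fw 12305 23 12328 wu534 wc535 rfl
theorem wc536 : allBelow (fun k => fw (Nat.add 12328 k)) 23 = true := by decide +kernel
theorem wu536 : ∀ i, i < 12351 → fw i = true := below_step fw 12328 23 12351 wu535 wc536 rfl
theorem wc537 : allBelow (fun k => fw (Nat.add 12351 k)) 23 = true := by decide +kernel
theorem wu537 : ∀ i, i < 12374 → fw i = true := below_step fw 12351 23 12374 wu536 wc537 rfl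
theorem wc538 : allBelow (fun k => fw (Nat.add 12374 k)) 23 = true := by decide +kernel
theorem wu538 : ∀ i, i < 12397 → fw i = true := below_step fw 12374 23 12397 wu537 wc538 rfl
theorem wc539 : allBelow (fun k => fw (Nat.add 12397 k)) 23 = true := by decide +kernel
theorem wu539 : ∀ i, i < 12420 → fw i = true := below_step fw 12397 23 12420 wu538 wc539 rfl
theorem wc540 : allBelow (fun k => fw (Nat.add 12420 k)) 23 = true := by decide +kernel
theorem wu540 : ∀ i, i < 12443 → fw i = true := below_step fw 12420 23 12443 wu539 wc540 rfl
theorem wc541 : allBelow (fun k => fw (Nat.add 12443 k)) 23 = true := by decide +kernel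
theorem wu541 : ∀ i, i < 12466 → fw i = true := below_step fw 12443 23 12466 wu540 wc541 rfl
theorem wc542 : allBelow (fun k => fw (Nat.add 12466 k)) 23 = true := by decide +kernel
theorem wu542 : ∀ i, i < 12489 → fw i = true := below_step fw 12466 23 12489 wu541 wc542 rfl
theorem wc543 : allBelow (fun k => fw (Nat.add 12489 k)) 23 = true := by decide +kernel
theorem wu543 : ∀ i, i < 12512 → fw i = true := below_step fw 12489 23 12512 wu542 wc543 rfl
theorem wc544 : allBelow (fun k => fw (Nat.add 12512 k)) 23 = true := by decide +kernel
theorem wu544 : ∀ i, i < 12535 → fw i = true := below_step fw 12512 23 12535 wu543 wc544 rfl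
theorem wc545 : allBelow (fun k => fw (Nat.add 12535 k)) 23 = true := by decide +kernel
theorem wu545 : ∀ i, i < 12558 → fw i = true := below_step fw 12535 23 12558 wu544 wc545 rfl
theorem wc546 : allBelow (fun k => fw (Nat.add 12558 k)) 23 = true := by decide +kernel
theorem wu546 : ∀ i, i < 12581 → fw i = true := below_step fw 12558 23 12581 wu545 wc546 rfl
theorem wc547 : allBelow (fun k => fw (Nat.add 12581 k)) 23 = true := by decide +kernel
theorem wu547 : ∀ i, i < 12604 → fw i = true := below_step fw 12581 23 12604 wu546 wc547 rfl
theorem wc548 : allBelow (fun k => fw (Nat.add 12604 k)) 23 = true := by decide +kernel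
theorem wu548 : ∀ i, i < 12627 → fw i = true := below_step fw 12604 23 12627 wu547 wc548 rfl
theorem wc549 : allBelow (fun k => fw (Nat.add 12627 k)) 23 = true := by decide +kernel
theorem wu549 : ∀ i, i < 12650 → fw i = true := below_step fw 12627 23 12650 wu548 wc549 rfl
theorem wc550 : allBelow (fun k => fw (Nat.add 12650 k)) 23 = true := by decide +kernel
theorem wu550 : ∀ i, i < 12673 → fw i = true := below_step fw 12650 23 12673 wu549 wc550 rfl
theorem wc551 : allBelow (fun k => fw (Nat.add 12673 k)) 23 = true := by decide +kernel
theorem wu551 : ∀ i, i < 12696 → fw i = true := below_step fw 12673 23 12696 wu550 wc551 rfl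
theorem wc552 : allBelow (fun k => fw (Nat.add 12696 k)) 23 = true := by decide +kernel
theorem wu552 : ∀ i, i < 12719 → fw i = true := below_step fw 12696 23 12719 wu551 wc552 rfl
theorem wc553 : allBelow (fun k => fw (Nat.add 12719 k)) 23 = true := by decide +kernel
theorem wu553 : ∀ i, i < 12742 → fw i = true := below_step fw 12719 23 12742 wu552 wc553 rfl
theorem wc554 : allBelow (fun k => fw (Nat.add 12742 k)) 23 = true := by decide +kernel
theorem wu554 : ∀ i, i < 12765 → fw i = true := below_step fw 12742 23 12765 wu553 wc554 rfl
theorem wc555 : allBelow (fun k => fw (Nat.add 12765 k)) 23 = true := by decide +kernel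
theorem wu555 : ∀ i, i < 12788 → fw i = true := below_step fw 12765 23 12788 wu554 wc555 rfl
theorem wc556 : allBelow (fun k => fw (Nat.add 12788 k)) 23 = true := by decide +kernel
theorem wu556 : ∀ i, i < 12811 → fw i = true := below_step fw 12788 23 12811 wu555 wc556 rfl
theorem wc557 : allBelow (fun k => fw (Nat.add 12811 k)) 23 = true := by decide +kernel
theorem wu557 : ∀ i, i < 12834 → fw i = true := below_step fw 12811 23 12834 wu556 wc557 rfl
theorem wc558 : allBelow (fun k => fw (Nat.add 12834 k)) 23 = true := by decide +kernel
theorem wu558 : ∀ i, i < 12857 → fw i = true := below_step fw 12834 23 12857 wu557 wc558 rfl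
theorem wc559 : allBelow (fun k => fw (Nat.add 12857 k)) 23 = true := by decide +kernel
theorem wu559 : ∀ i, i < 12880 → fw i = true := below_step fw 12857 23 12880 wu558 wc559 rfl
theorem wc560 : allBelow (fun k => fw (Nat.add 12880 k)) 23 = true := by decide +kernel
theorem wu560 : ∀ i, i < 12903 → fw i = true := below_step fw 12880 23 12903 wu559 wc560 rfl
theorem wc561 : allBelow (fun k => fw (Nat.add 12903 k)) 23 = true := by decide +kernel
theorem wu561 : ∀ i, i < 12926 → fw i = true := below_step fw 12903 23 12926 wu560 wc561 rfl
theorem wc562 : allBelow (fun k => fw (Nat.add 12926 k)) 23 = true := by decide +kernel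
theorem wu562 : ∀ i, i < 12949 → fw i = true := below_step fw 12926 23 12949 wu561 wc562 rfl
theorem wc563 : allBelow (fun k => fw (Nat.add 12949 k)) 23 = true := by decide +kernel
theorem wu563 : ∀ i, i < 12972 → fw i = true := below_step fw 12949 23 12972 wu562 wc563 rfl
theorem wc564 : allBelow (fun k => fw (Nat.add 12972 k)) 23 = true := by decide +kernel
theorem wu564 : ∀ i, i < 12995 → fw i = true := below_step fw 12972 23 12995 wu563 wc564 rfl
theorem wc565 : allBelow (fun k => fw (Nat.add 12995 k)) 23 = true := by decide +kernel
theorem wu565 : ∀ i, i < 13018 → fw i = true := below_step fw 12995 23 13018 wu564 wc565 rfl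
theorem wc566 : allBelow (fun k => fw (Nat.add 13018 k)) 23 = true := by decide +kernel
theorem wu566 : ∀ i, i < 13041 → fw i = true := below_step fw 13018 23 13041 wu565 wc566 rfl
theorem wc567 : allBelow (fun k => fw (Nat.add 13041 k)) 23 = true := by decide +kernel
theorem wu567 : ∀ i, i < 13064 → fw i = true := below_step fw 13041 23 13064 wu566 wc567 rfl
theorem wc568 : allBelow (fun k => fw (Nat.add 13064 k)) 23 = true := by decide +kernel
theorem wu568 : ∀ i, i < 13087 → fw i = true := below_step fw 13064 23 13087 wu567 wc568 rfl
theorem wc569 : allBelow (fun k => fw (Nat.add 13087 k)) 23 = true := by decide +kernel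
theorem wu569 : ∀ i, i < 13110 → fw i = true := below_step fw 13087 23 13110 wu568 wc569 rfl
theorem wc570 : allBelow (fun k => fw (Nat.add 13110 k)) 23 = true := by decide +kernel
theorem wu570 : ∀ i, i < 13133 → fw i = true := below_step fw 13110 23 13133 wu569 wc570 rfl
theorem wc571 : allBelow (fun k => fw (Nat.add 13133 k)) 23 = true := by decide +kernel
theorem wu571 : ∀ i, i < 13156 → fw i = true := below_step fw 13133 23 13156 wu570 wc571 rfl
theorem wc572 : allBelow (fun k => fw (Nat.add 13156 k)) 23 = true := by decide +kernel
theorem wu572 : ∀ i, i < 13179 → fw i = true := below_step fw 13156 23 13179 wu571 wc572 rfl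
theorem wc573 : allBelow (fun k => fw (Nat.add 13179 k)) 23 = true := by decide +kernel
theorem wu573 : ∀ i, i < 13202 → fw i = true := below_step fw 13179 23 13202 wu572 wc573 rfl
theorem wc574 : allBelow (fun k => fw (Nat.add 13202 k)) 23 = true := by decide +kernel
theorem wu574 : ∀ i, i < 13225 → fw i = true := below_step fw 13202 23 13225 wu573 wc574 rfl
theorem wc575 : allBelow (fun k => fw (Nat.add 13225 k)) 23 = true := by decide +kernel
theorem wu575 : ∀ i, i < 13248 → fw i = true := below_step fw 13225 23 13248 wu574 wc575 rfl
theorem wc576 : allBelow (fun k => fw (Nat.add 13248 k)) 23 = true := by decide +kernel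
theorem wu576 : ∀ i, i < 13271 → fw i = true := below_step fw 13248 23 13271 wu575 wc576 rfl
theorem wc577 : allBelow (fun k => fw (Nat.add 13271 k)) 23 = true := by decide +kernel
theorem wu577 : ∀ i, i < 13294 → fw i = true := below_step fw 13271 23 13294 wu576 wc577 rfl
theorem wc578 : allBelow (fun k => fw (Nat.add 13294 k)) 23 = true := by decide +kernel
theorem wu578 : ∀ i, i < 13317 → fw i = true := below_step fw 13294 23 13317 wu577 wc578 rfl
theorem wc579 : allBelow (fun k => fw (Nat.add 13317 k)) 23 = true := by decide +kernel
theorem wu579 : ∀ i, i < 13340 → fw i = true := below_step fw 13317 23 13340 wu578 wc579 rfl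
theorem wc580 : allBelow (fun k => fw (Nat.add 13340 k)) 23 = true := by decide +kernel
theorem wu580 : ∀ i, i < 13363 → fw i = true := below_step fw 13340 23 13363 wu579 wc580 rfl
theorem wc581 : allBelow (fun k => fw (Nat.add 13363 k)) 23 = true := by decide +kernel
theorem wu581 : ∀ i, i < 13386 → fw i = true := below_step fw 13363 23 13386 wu580 wc581 rfl
theorem wc582 : allBelow (fun k => fw (Nat.add 13386 k)) 23 = true := by decide +kernel
theorem wu582 : ∀ i, i < 13409 → fw i = true := below_step fw 13386 23 13409 wu581 wc582 rfl
theorem wc583 : allBelow (fun k => fw (Nat.add 13409 k)) 23 = true := by decide +kernel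
theorem wu583 : ∀ i, i < 13432 → fw i = true := below_step fw 13409 23 13432 wu582 wc583 rfl
theorem wc584 : allBelow (fun k => fw (Nat.add 13432 k)) 23 = true := by decide +kernel
theorem wu584 : ∀ i, i < 13455 → fw i = true := below_step fw 13432 23 13455 wu583 wc584 rfl
theorem wc585 : allBelow (fun k => fw (Nat.add 13455 k)) 23 = true := by decide +kernel
theorem wu585 : ∀ i, i < 13478 → fw i = true := below_step fw 13455 23 13478 wu584 wc585 rfl
theorem wc586 : allBelow (fun k => fw (Nat.add 13478 k)) 23 = true := by decide +kernel
theorem wu586 : ∀ i, i < 13501 → fw i = true := below_step fw 13478 23 13501 wu585 wc586 rfl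
theorem wc587 : allBelow (fun k => fw (Nat.add 13501 k)) 23 = true := by decide +kernel
theorem wu587 : ∀ i, i < 13524 → fw i = true := below_step fw 13501 23 13524 wu586 wc587 rfl
theorem wc588 : allBelow (fun k => fw (Nat.add 13524 k)) 23 = true := by decide +kernel
theorem wu588 : ∀ i, i < 13547 → fw i = true := below_step fw 13524 23 13547 wu587 wc588 rfl
theorem wc589 : allBelow (fun k => fw (Nat.add 13547 k)) 23 = true := by decide +kernel
theorem wu589 : ∀ i, i < 13570 → fw i = true := below_step fw 13547 23 13570 wu588 wc589 rfl
theorem wc590 : allBelow (fun k => fw (Nat.add 13570 k)) 23 = true := by decide +kernel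
theorem wu590 : ∀ i, i < 13593 → fw i = true := below_step fw 13570 23 13593 wu589 wc590 rfl
theorem wc591 : allBelow (fun k => fw (Nat.add 13593 k)) 23 = true := by decide +kernel
theorem wu591 : ∀ i, i < 13616 → fw i = true := below_step fw 13593 23 13616 wu590 wc591 rfl
theorem wc592 : allBelow (fun k => fw (Nat.add 13616 k)) 23 = true := by decide +kernel
theorem wu592 : ∀ i, i < 13639 → fw i = true := below_step fw 13616 23 13639 wu591 wc592 rfl
theorem wc593 : allBelow (fun k => fw (Nat.add 13639 k)) 23 = true := by decide +kernel
theorem wu593 : ∀ i, i < 13662 → fw i = true := below_step fw 13639 23 13662 wu592 wc593 rfl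
theorem wc594 : allBelow (fun k => fw (Nat.add 13662 k)) 23 = true := by decide +kernel
theorem wu594 : ∀ i, i < 13685 → fw i = true := below_step fw 13662 23 13685 wu593 wc594 rfl
theorem wc595 : allBelow (fun k => fw (Nat.add 13685 k)) 23 = true := by decide +kernel
theorem wu595 : ∀ i, i < 13708 → fw i = true := below_step fw 13685 23 13708 wu594 wc595 rfl
theorem wc596 : allBelow (fun k => fw (Nat.add 13708 k)) 23 = true := by decide +kernel
theorem wu596 : ∀ i, i < 13731 → fw i = true := below_step fw 13708 23 13731 wu595 wc596 rfl
theorem wc597 : allBelow (fun k => fw (Nat.add 13731 k)) 23 = true := by decide +kernel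
theorem wu597 : ∀ i, i < 13754 → fw i = true := below_step fw 13731 23 13754 wu596 wc597 rfl
theorem wc598 : allBelow (fun k => fw (Nat.add 13754 k)) 23 = true := by decide +kernel
theorem wu598 : ∀ i, i < 13777 → fw i = true := below_step fw 13754 23 13777 wu597 wc598 rfl
theorem wc599 : allBelow (fun k => fw (Nat.add 13777 k)) 23 = true := by decide +kernel
theorem wu599 : ∀ i, i < 13800 → fw i = true := below_step fw 13777 23 13800 wu598 wc599 rfl
theorem wc600 : allBelow (fun k => fw (Nat.add 13800 k)) 23 = true := by decide +kernel
theorem wu600 : ∀ i, i < 13823 → fw i = true := below_step fw 13800 23 13823 wu599 wc600 rfl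
theorem wc601 : allBelow (fun k => fw (Nat.add 13823 k)) 23 = true := by decide +kernel
theorem wu601 : ∀ i, i < 13846 → fw i = true := below_step fw 13823 23 13846 wu600 wc601 rfl
theorem wc602 : allBelow (fun k => fw (Nat.add 13846 k)) 23 = true := by decide +kernel
theorem wu602 : ∀ i, i < 13869 → fw i = true := below_step fw 13846 23 13869 wu601 wc602 rfl
theorem wc603 : allBelow (fun k => fw (Nat.add 13869 k)) 23 = true := by decide +kernel
theorem wu603 : ∀ i, i < 13892 → fw i = true := below_step fw 13869 23 13892 wu602 wc603 rfl
theorem wc604 : allBelow (fun k => fw (Nat.add 13892 k)) 23 = true := by decide +kernel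
theorem wu604 : ∀ i, i < 13915 → fw i = true := below_step fw 13892 23 13915 wu603 wc604 rfl
theorem wc605 : allBelow (fun k => fw (Nat.add 13915 k)) 23 = true := by decide +kernel
theorem wu605 : ∀ i, i < 13938 → fw i = true := below_step fw 13915 23 13938 wu604 wc605 rfl
theorem wc606 : allBelow (fun k => fw (Nat.add 13938 k)) 23 = true := by decide +kernel
theorem wu606 : ∀ i, i < 13961 → fw i = true := below_step fw 13938 23 13961 wu605 wc606 rfl
theorem wc607 : allBelow (fun k => fw (Nat.add 13961 k)) 23 = true := by decide +kernel
theorem wu607 : ∀ i, i < 13984 → fw i = true := below_step fw 13961 23 13984 wu606 wc607 rfl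
theorem wc608 : allBelow (fun k => fw (Nat.add 13984 k)) 23 = true := by decide +kernel
theorem wu608 : ∀ i, i < 14007 → fw i = true := below_step fw 13984 23 14007 wu607 wc608 rfl
theorem wc609 : allBelow (fun k => fw (Nat.add 14007 k)) 23 = true := by decide +kernel
theorem wu609 : ∀ i, i < 14030 → fw i = true := below_step fw 14007 23 14030 wu608 wc609 rfl
theorem wc610 : allBelow (fun k => fw (Nat.add 14030 k)) 23 = true := by decide +kernel
theorem wu610 : ∀ i, i < 14053 → fw i = true := below_step fw 14030 23 14053 wu609 wc610 rfl
theorem wc611 : allBelow (fun k => fw (Nat.add 14053 k)) 23 = true := by decide +kernel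
theorem wu611 : ∀ i, i < 14076 → fw i = true := below_step fw 14053 23 14076 wu610 wc611 rfl
theorem wc612 : allBelow (fun k => fw (Nat.add 14076 k)) 23 = true := by decide +kernel
theorem wu612 : ∀ i, i < 14099 → fw i = true := below_step fw 14076 23 14099 wu611 wc612 rfl
theorem wc613 : allBelow (fun k => fw (Nat.add 14099 k)) 23 = true := by decide +kernel
theorem wu613 : ∀ i, i < 14122 → fw i = true := below_step fw 14099 23 14122 wu612 wc613 rfl
theorem wc614 : allBelow (fun k => fw (Nat.add 14122 k)) 23 = true := by decide +kernel
theorem wu614 : ∀ i, i < 14145 → fw i = true := below_step fw 14122 23 14145 wu613 wc614 rfl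
theorem wc615 : allBelow (fun k => fw (Nat.add 14145 k)) 23 = true := by decide +kernel
theorem wu615 : ∀ i, i < 14168 → fw i = true := below_step fw 14145 23 14168 wu614 wc615 rfl
theorem wc616 : allBelow (fun k => fw (Nat.add 14168 k)) 23 = true := by decide +kernel
theorem wu616 : ∀ i, i < 14191 → fw i = true := below_step fw 14168 23 14191 wu615 wc616 rfl
theorem wc617 : allBelow (fun k => fw (Nat.add 14191 k)) 23 = true := by decide +kernel
theorem wu617 : ∀ i, i < 14214 → fw i = true := below_step fw 14191 23 14214 wu616 wc617 rfl
theorem wc618 : allBelow (fun k => fw (Nat.add 14214 k)) 23 = true := by decide +kernel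
theorem wu618 : ∀ i, i < 14237 → fw i = true := below_step fw 14214 23 14237 wu617 wc618 rfl
theorem wc619 : allBelow (fun k => fw (Nat.add 14237 k)) 23 = true := by decide +kernel
theorem wu619 : ∀ i, i < 14260 → fw i = true := below_step fw 14237 23 14260 wu618 wc619 rfl
theorem wc620 : allBelow (fun k => fw (Nat.add 14260 k)) 23 = true := by decide +kernel
theorem wu620 : ∀ i, i < 14283 → fw i = true := below_step fw 14260 23 14283 wu619 wc620 rfl
theorem wc621 : allBelow (fun k => fw (Nat.add 14283 k)) 23 = true := by decide +kernel
theorem wu621 : ∀ i, i < 14306 → fw i = true := below_step fw 14283 23 14306 wu620 wc621 rfl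
theorem wc622 : allBelow (fun k => fw (Nat.add 14306 k)) 23 = true := by decide +kernel
theorem wu622 : ∀ i, i < 14329 → fw i = true := below_step fw 14306 23 14329 wu621 wc622 rfl
theorem wc623 : allBelow (fun k => fw (Nat.add 14329 k)) 23 = true := by decide +kernel
theorem wu623 : ∀ i, i < 14352 → fw i = true := below_step fw 14329 23 14352 wu622 wc623 rfl
theorem wc624 : allBelow (fun k => fw (Nat.add 14352 k)) 23 = true := by decide +kernel
theorem wu624 : ∀ i, i < 14375 → fw i = true := below_step fw 14352 23 14375 wu623 wc624 rfl
theorem wc625 : allBelow (fun k => fw (Nat.add 14375 k)) 23 = true := by decide +kernel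
theorem wu625 : ∀ i, i < 14398 → fw i = true := below_step fw 14375 23 14398 wu624 wc625 rfl
theorem wc626 : allBelow (fun k => fw (Nat.add 14398 k)) 23 = true := by decide +kernel
theorem wu626 : ∀ i, i < 14421 → fw i = true := below_step fw 14398 23 14421 wu625 wc626 rfl
theorem wc627 : allBelow (fun k => fw (Nat.add 14421 k)) 23 = true := by decide +kernel
theorem wu627 : ∀ i, i < 14444 → fw i = true := below_step fw 14421 23 14444 wu626 wc627 rfl
theorem wc628 : allBelow (fun k => fw (Nat.add 14444 k)) 23 = true := by decide +kernel
theorem wu628 : ∀ i, i < 14467 → fw i = true := below_step fw 14444 23 14467 wu627 wc628 rfl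
theorem wc629 : allBelow (fun k => fw (Nat.add 14467 k)) 23 = true := by decide +kernel
theorem wu629 : ∀ i, i < 14490 → fw i = true := below_step fw 14467 23 14490 wu628 wc629 rfl
theorem wc630 : allBelow (fun k => fw (Nat.add 14490 k)) 23 = true := by decide +kernel
theorem wu630 : ∀ i, i < 14513 → fw i = true := below_step fw 14490 23 14513 wu629 wc630 rfl
theorem wc631 : allBelow (fun k => fw (Nat.add 14513 k)) 23 = true := by decide +kernel
theorem wu631 : ∀ i, i < 14536 → fw i = true := below_step fw 14513 23 14536 wu630 wc631 rfl
theorem wc632 : allBelow (fun k => fw (Nat.add 14536 k)) 23 = true := by decide +kernel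
theorem wu632 : ∀ i, i < 14559 → fw i = true := below_step fw 14536 23 14559 wu631 wc632 rfl
theorem wc633 : allBelow (fun k => fw (Nat.add 14559 k)) 23 = true := by decide +kernel
theorem wu633 : ∀ i, i < 14582 → fw i = true := below_step fw 14559 23 14582 wu632 wc633 rfl
theorem wc634 : allBelow (fun k => fw (Nat.add 14582 k)) 23 = true := by decide +kernel
theorem wu634 : ∀ i, i < 14605 → fw i = true := below_step fw 14582 23 14605 wu633 wc634 rfl
theorem wc635 : allBelow (fun k => fw (Nat.add 14605 k)) 23 = true := by decide +kernel
theorem wu635 : ∀ i, i < 14628 → fw i = true := below_step fw 14605 23 14628 wu634 wc635 rfl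
theorem wc636 : allBelow (fun k => fw (Nat.add 14628 k)) 23 = true := by decide +kernel
theorem wu636 : ∀ i, i < 14651 → fw i = true := below_step fw 14628 23 14651 wu635 wc636 rfl
theorem wc637 : allBelow (fun k => fw (Nat.add 14651 k)) 23 = true := by decide +kernel
theorem wu637 : ∀ i, i < 14674 → fw i = true := below_step fw 14651 23 14674 wu636 wc637 rfl
theorem wc638 : allBelow (fun k => fw (Nat.add 14674 k)) 23 = true := by decide +kernel
theorem wu638 : ∀ i, i < 14697 → fw i = true := below_step fw 14674 23 14697 wu637 wc638 rfl
theorem wc639 : allBelow (fun k => fw (Nat.add 14697 k)) 23 = true := by decide +kernel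
theorem wu639 : ∀ i, i < 14720 → fw i = true := below_step fw 14697 23 14720 wu638 wc639 rfl
theorem wc640 : allBelow (fun k => fw (Nat.add 14720 k)) 23 = true := by decide +kernel
theorem wu640 : ∀ i, i < 14743 → fw i = true := below_step fw 14720 23 14743 wu639 wc640 rfl
theorem wc641 : allBelow (fun k => fw (Nat.add 14743 k)) 23 = true := by decide +kernel
theorem wu641 : ∀ i, i < 14766 → fw i = true := below_step fw 14743 23 14766 wu640 wc641 rfl
theorem wc642 : allBelow (fun k => fw (Nat.add 14766 k)) 23 = true := by decide +kernel
theorem wu642 : ∀ i, i < 14789 → fw i = true := below_step fw 14766 23 14789 wu641 wc642 rfl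
theorem wc643 : allBelow (fun k => fw (Nat.add 14789 k)) 23 = true := by decide +kernel
theorem wu643 : ∀ i, i < 14812 → fw i = true := below_step fw 14789 23 14812 wu642 wc643 rfl
theorem wc644 : allBelow (fun k => fw (Nat.add 14812 k)) 23 = true := by decide +kernel
theorem wu644 : ∀ i, i < 14835 → fw i = true := below_step fw 14812 23 14835 wu643 wc644 rfl
theorem wc645 : allBelow (fun k => fw (Nat.add 14835 k)) 23 = true := by decide +kernel
theorem wu645 : ∀ i, i < 14858 → fw i = true := below_step fw 14835 23 14858 wu644 wc645 rfl
theorem wc646 : allBelow (fun k => fw (Nat.add 14858 k)) 23 = true := by decide +kernel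
theorem wu646 : ∀ i, i < 14881 → fw i = true := below_step fw 14858 23 14881 wu645 wc646 rfl
theorem wc647 : allBelow (fun k => fw (Nat.add 14881 k)) 23 = true := by decide +kernel
theorem wu647 : ∀ i, i < 14904 → fw i = true := below_step fw 14881 23 14904 wu646 wc647 rfl
theorem wc648 : allBelow (fun k => fw (Nat.add 14904 k)) 23 = true := by decide +kernel
theorem wu648 : ∀ i, i < 14927 → fw i = true := below_step fw 14904 23 14927 wu647 wc648 rfl
theorem wc649 : allBelow (fun k => fw (Nat.add 14927 k)) 23 = true := by decide +kernel
theorem wu649 : ∀ i, i < 14950 → fw i = true := below_step fw 14927 23 14950 wu648 wc649 rfl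
theorem wc650 : allBelow (fun k => fw (Nat.add 14950 k)) 23 = true := by decide +kernel
theorem wu650 : ∀ i, i < 14973 → fw i = true := below_step fw 14950 23 14973 wu649 wc650 rfl
theorem wc651 : allBelow (fun k => fw (Nat.add 14973 k)) 23 = true := by decide +kernel
theorem wu651 : ∀ i, i < 14996 → fw i = true := below_step fw 14973 23 14996 wu650 wc651 rfl
theorem wc652 : allBelow (fun k => fw (Nat.add 14996 k)) 23 = true := by decide +kernel
theorem wu652 : ∀ i, i < 15019 → fw i = true := below_step fw 14996 23 15019 wu651 wc652 rfl
theorem wc653 : allBelow (fun k => fw (Nat.add 15019 k)) 23 = true := by decide +kernel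
theorem wu653 : ∀ i, i < 15042 → fw i = true := below_step fw 15019 23 15042 wu652 wc653 rfl
theorem wc654 : allBelow (fun k => fw (Nat.add 15042 k)) 23 = true := by decide +kernel
theorem wu654 : ∀ i, i < 15065 → fw i = true := below_step fw 15042 23 15065 wu653 wc654 rfl
theorem wc655 : allBelow (fun k => fw (Nat.add 15065 k)) 23 = true := by decide +kernel
theorem wu655 : ∀ i, i < 15088 → fw i = true := below_step fw 15065 23 15088 wu654 wc655 rfl
theorem wc656 : allBelow (fun k => fw (Nat.add 15088 k)) 23 = true := by decide +kernel
theorem wu656 : ∀ i, i < 15111 → fw i = true := below_step fw 15088 23 15111 wu655 wc656 rfl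
theorem wc657 : allBelow (fun k => fw (Nat.add 15111 k)) 23 = true := by decide +kernel
theorem wu657 : ∀ i, i < 15134 → fw i = true := below_step fw 15111 23 15134 wu656 wc657 rfl
theorem wc658 : allBelow (fun k => fw (Nat.add 15134 k)) 23 = true := by decide +kernel
theorem wu658 : ∀ i, i < 15157 → fw i = true := below_step fw 15134 23 15157 wu657 wc658 rfl
theorem wc659 : allBelow (fun k => fw (Nat.add 15157 k)) 23 = true := by decide +kernel
theorem wu659 : ∀ i, i < 15180 → fw i = true := below_step fw 15157 23 15180 wu658 wc659 rfl
theorem wc660 : allBelow (fun k => fw (Nat.add 15180 k)) 23 = true := by decide +kernel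
theorem wu660 : ∀ i, i < 15203 → fw i = true := below_step fw 15180 23 15203 wu659 wc660 rfl
theorem wc661 : allBelow (fun k => fw (Nat.add 15203 k)) 23 = true := by decide +kernel
theorem wu661 : ∀ i, i < 15226 → fw i = true := below_step fw 15203 23 15226 wu660 wc661 rfl
theorem wc662 : allBelow (fun k => fw (Nat.add 15226 k)) 23 = true := by decide +kernel
theorem wu662 : ∀ i, i < 15249 → fw i = true := below_step fw 15226 23 15249 wu661 wc662 rfl
theorem wc663 : allBelow (fun k => fw (Nat.add 15249 k)) 23 = true := by decide +kernel
theorem wu663 : ∀ i, i < 15272 → fw i = true := below_step fw 15249 23 15272 wu662 wc663 rfl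
theorem wc664 : allBelow (fun k => fw (Nat.add 15272 k)) 23 = true := by decide +kernel
theorem wu664 : ∀ i, i < 15295 → fw i = true := below_step fw 15272 23 15295 wu663 wc664 rfl
theorem wc665 : allBelow (fun k => fw (Nat.add 15295 k)) 23 = true := by decide +kernel
theorem wu665 : ∀ i, i < 15318 → fw i = true := below_step fw 15295 23 15318 wu664 wc665 rfl
theorem wc666 : allBelow (fun k => fw (Nat.add 15318 k)) 23 = true := by decide +kernel
theorem wu666 : ∀ i, i < 15341 → fw i = true := below_step fw 15318 23 15341 wu665 wc666 rfl
theorem wc667 : allBelow (fun k => fw (Nat.add 15341 k)) 23 = true := by decide +kernel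
theorem wu667 : ∀ i, i < 15364 → fw i = true := below_step fw 15341 23 15364 wu666 wc667 rfl
theorem wc668 : allBelow (fun k => fw (Nat.add 15364 k)) 23 = true := by decide +kernel
theorem wu668 : ∀ i, i < 15387 → fw i = true := below_step fw 15364 23 15387 wu667 wc668 rfl
theorem wc669 : allBelow (fun k => fw (Nat.add 15387 k)) 23 = true := by decide +kernel
theorem wu669 : ∀ i, i < 15410 → fw i = true := below_step fw 15387 23 15410 wu668 wc669 rfl
theorem wc670 : allBelow (fun k => fw (Nat.add 15410 k)) 23 = true := by decide +kernel
theorem wu670 : ∀ i, i < 15433 → fw i = true := below_step fw 15410 23 15433 wu669 wc670 rfl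
theorem wc671 : allBelow (fun k => fw (Nat.add 15433 k)) 23 = true := by decide +kernel
theorem wu671 : ∀ i, i < 15456 → fw i = true := below_step fw 15433 23 15456 wu670 wc671 rfl
theorem wc672 : allBelow (fun k => fw (Nat.add 15456 k)) 23 = true := by decide +kernel
theorem wu672 : ∀ i, i < 15479 → fw i = true := below_step fw 15456 23 15479 wu671 wc672 rfl
theorem wc673 : allBelow (fun k => fw (Nat.add 15479 k)) 23 = true := by decide +kernel
theorem wu673 : ∀ i, i < 15502 → fw i = true := below_step fw 15479 23 15502 wu672 wc673 rfl
theorem wc674 : allBelow (fun k => fw (Nat.add 15502 k)) 23 = true := by decide +kernel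
theorem wu674 : ∀ i, i < 15525 → fw i = true := below_step fw 15502 23 15525 wu673 wc674 rfl
theorem wc675 : allBelow (fun k => fw (Nat.add 15525 k)) 23 = true := by decide +kernel
theorem wu675 : ∀ i, i < 15548 → fw i = true := below_step fw 15525 23 15548 wu674 wc675 rfl
theorem wc676 : allBelow (fun k => fw (Nat.add 15548 k)) 23 = true := by decide +kernel
theorem wu676 : ∀ i, i < 15571 → fw i = true := below_step fw 15548 23 15571 wu675 wc676 rfl
theorem wc677 : allBelow (fun k => fw (Nat.add 15571 k)) 23 = true := by decide +kernel
theorem wu677 : ∀ i, i < 15594 → fw i = true := below_step fw 15571 23 15594 wu676 wc677 rfl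
theorem wc678 : allBelow (fun k => fw (Nat.add 15594 k)) 23 = true := by decide +kernel
theorem wu678 : ∀ i, i < 15617 → fw i = true := below_step fw 15594 23 15617 wu677 wc678 rfl
theorem wc679 : allBelow (fun k => fw (Nat.add 15617 k)) 23 = true := by decide +kernel
theorem wu679 : ∀ i, i < 15640 → fw i = true := below_step fw 15617 23 15640 wu678 wc679 rfl
theorem wc680 : allBelow (fun k => fw (Nat.add 15640 k)) 23 = true := by decide +kernel
theorem wu680 : ∀ i, i < 15663 → fw i = true := below_step fw 15640 23 15663 wu679 wc680 rfl
theorem wc681 : allBelow (fun k => fw (Nat.add 15663 k)) 23 = true := by decide +kernel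
theorem wu681 : ∀ i, i < 15686 → fw i = true := below_step fw 15663 23 15686 wu680 wc681 rfl
theorem wc682 : allBelow (fun k => fw (Nat.add 15686 k)) 23 = true := by decide +kernel
theorem wu682 : ∀ i, i < 15709 → fw i = true := below_step fw 15686 23 15709 wu681 wc682 rfl
theorem wc683 : allBelow (fun k => fw (Nat.add 15709 k)) 23 = true := by decide +kernel
theorem wu683 : ∀ i, i < 15732 → fw i = true := below_step fw 15709 23 15732 wu682 wc683 rfl
theorem wc684 : allBelow (fun k => fw (Nat.add 15732 k)) 23 = true := by decide +kernel
theorem wu684 : ∀ i, i < 15755 → fw i = true := below_step fw 15732 23 15755 wu683 wc684 rfl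
theorem wc685 : allBelow (fun k => fw (Nat.add 15755 k)) 23 = true := by decide +kernel
theorem wu685 : ∀ i, i < 15778 → fw i = true := below_step fw 15755 23 15778 wu684 wc685 rfl
theorem wc686 : allBelow (fun k => fw (Nat.add 15778 k)) 23 = true := by decide +kernel
theorem wu686 : ∀ i, i < 15801 → fw i = true := below_step fw 15778 23 15801 wu685 wc686 rfl
theorem wc687 : allBelow (fun k => fw (Nat.add 15801 k)) 23 = true := by decide +kernel
theorem wu687 : ∀ i, i < 15824 → fw i = true := below_step fw 15801 23 15824 wu686 wc687 rfl
theorem wc688 : allBelow (fun k => fw (Nat.add 15824 k)) 23 = true := by decide +kernel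
theorem wu688 : ∀ i, i < 15847 → fw i = true := below_step fw 15824 23 15847 wu687 wc688 rfl
theorem wc689 : allBelow (fun k => fw (Nat.add 15847 k)) 23 = true := by decide +kernel
theorem wu689 : ∀ i, i < 15870 → fw i = true := below_step fw 15847 23 15870 wu688 wc689 rfl
theorem wc690 : allBelow (fun k => fw (Nat.add 15870 k)) 23 = true := by decide +kernel
theorem wu690 : ∀ i, i < 15893 → fw i = true := below_step fw 15870 23 15893 wu689 wc690 rfl
theorem wc691 : allBelow (fun k => fw (Nat.add 15893 k)) 23 = true := by decide +kernel
theorem wu691 : ∀ i, i < 15916 → fw i = true := below_step fw 15893 23 15916 wu690 wc691 rfl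
theorem wc692 : allBelow (fun k => fw (Nat.add 15916 k)) 23 = true := by decide +kernel
theorem wu692 : ∀ i, i < 15939 → fw i = true := below_step fw 15916 23 15939 wu691 wc692 rfl
theorem wc693 : allBelow (fun k => fw (Nat.add 15939 k)) 23 = true := by decide +kernel
theorem wu693 : ∀ i, i < 15962 → fw i = true := below_step fw 15939 23 15962 wu692 wc693 rfl
theorem wc694 : allBelow (fun k => fw (Nat.add 15962 k)) 23 = true := by decide +kernel
theorem wu694 : ∀ i, i < 15985 → fw i = true := below_step fw 15962 23 15985 wu693 wc694 rfl
theorem wc695 : allBelow (fun k => fw (Nat.add 15985 k)) 23 = true := by decide +kernel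
theorem wu695 : ∀ i, i < 16008 → fw i = true := below_step fw 15985 23 16008 wu694 wc695 rfl
theorem wc696 : allBelow (fun k => fw (Nat.add 16008 k)) 23 = true := by decide +kernel
theorem wu696 : ∀ i, i < 16031 → fw i = true := below_step fw 16008 23 16031 wu695 wc696 rfl
theorem wc697 : allBelow (fun k => fw (Nat.add 16031 k)) 23 = true := by decide +kernel
theorem wu697 : ∀ i, i < 16054 → fw i = true := below_step fw 16031 23 16054 wu696 wc697 rfl
theorem wc698 : allBelow (fun k => fw (Nat.add 16054 k)) 23 = true := by decide +kernel
theorem wu698 : ∀ i, i < 16077 → fw i = true := below_step fw 16054 23 16077 wu697 wc698 rfl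
theorem wc699 : allBelow (fun k => fw (Nat.add 16077 k)) 23 = true := by decide +kernel
theorem wu699 : ∀ i, i < 16100 → fw i = true := below_step fw 16077 23 16100 wu698 wc699 rfl
theorem wc700 : allBelow (fun k => fw (Nat.add 16100 k)) 23 = true := by decide +kernel
theorem wu700 : ∀ i, i < 16123 → fw i = true := below_step fw 16100 23 16123 wu699 wc700 rfl
theorem wc701 : allBelow (fun k => fw (Nat.add 16123 k)) 23 = true := by decide +kernel
theorem wu701 : ∀ i, i < 16146 → fw i = true := below_step fw 16123 23 16146 wu700 wc701 rfl
theorem wc702 : allBelow (fun k => fw (Nat.add 16146 k)) 23 = true := by decide +kernel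
theorem wu702 : ∀ i, i < 16169 → fw i = true := below_step fw 16146 23 16169 wu701 wc702 rfl
theorem wc703 : allBelow (fun k => fw (Nat.add 16169 k)) 23 = true := by decide +kernel
theorem wu703 : ∀ i, i < 16192 → fw i = true := below_step fw 16169 23 16192 wu702 wc703 rfl
theorem wc704 : allBelow (fun k => fw (Nat.add 16192 k)) 23 = true := by decide +kernel
theorem wu704 : ∀ i, i < 16215 → fw i = true := below_step fw 16192 23 16215 wu703 wc704 rfl
theorem wc705 : allBelow (fun k => fw (Nat.add 16215 k)) 23 = true := by decide +kernel
theorem wu705 : ∀ i, i < 16238 → fw i = true := below_step fw 16215 23 16238 wu704 wc705 rfl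
theorem wc706 : allBelow (fun k => fw (Nat.add 16238 k)) 23 = true := by decide +kernel
theorem wu706 : ∀ i, i < 16261 → fw i = true := below_step fw 16238 23 16261 wu705 wc706 rfl
theorem wc707 : allBelow (fun k => fw (Nat.add 16261 k)) 23 = true := by decide +kernel
theorem wu707 : ∀ i, i < 16284 → fw i = true := below_step fw 16261 23 16284 wu706 wc707 rfl
theorem wc708 : allBelow (fun k => fw (Nat.add 16284 k)) 23 = true := by decide +kernel
theorem wu708 : ∀ i, i < 16307 → fw i = true := below_step fw 16284 23 16307 wu707 wc708 rfl
theorem wc709 : allBelow (fun k => fw (Nat.add 16307 k)) 23 = true := by decide +kernel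
theorem wu709 : ∀ i, i < 16330 → fw i = true := below_step fw 16307 23 16330 wu708 wc709 rfl
theorem wc710 : allBelow (fun k => fw (Nat.add 16330 k)) 23 = true := by decide +kernel
theorem wu710 : ∀ i, i < 16353 → fw i = true := below_step fw 16330 23 16353 wu709 wc710 rfl
theorem wc711 : allBelow (fun k => fw (Nat.add 16353 k)) 23 = true := by decide +kernel
theorem wu711 : ∀ i, i < 16376 → fw i = true := below_step fw 16353 23 16376 wu710 wc711 rfl
theorem wc712 : allBelow (fun k => fw (Nat.add 16376 k)) 23 = true := by decide +kernel
theorem wu712 : ∀ i, i < 16399 → fw i = true := below_step fw 16376 23 16399 wu711 wc712 rfl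
theorem wc713 : allBelow (fun k => fw (Nat.add 16399 k)) 23 = true := by decide +kernel
theorem wu713 : ∀ i, i < 16422 → fw i = true := below_step fw 16399 23 16422 wu712 wc713 rfl
theorem wc714 : allBelow (fun k => fw (Nat.add 16422 k)) 23 = true := by decide +kernel
theorem wu714 : ∀ i, i < 16445 → fw i = true := below_step fw 16422 23 16445 wu713 wc714 rfl
theorem wc715 : allBelow (fun k => fw (Nat.add 16445 k)) 23 = true := by decide +kernel
theorem wu715 : ∀ i, i < 16468 → fw i = true := below_step fw 16445 23 16468 wu714 wc715 rfl
theorem wc716 : allBelow (fun k => fw (Nat.add 16468 k)) 23 = true := by decide +kernel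
theorem wu716 : ∀ i, i < 16491 → fw i = true := below_step fw 16468 23 16491 wu715 wc716 rfl
theorem wc717 : allBelow (fun k => fw (Nat.add 16491 k)) 23 = true := by decide +kernel
theorem wu717 : ∀ i, i < 16514 → fw i = true := below_step fw 16491 23 16514 wu716 wc717 rfl
theorem wc718 : allBelow (fun k => fw (Nat.add 16514 k)) 23 = true := by decide +kernel
theorem wu718 : ∀ i, i < 16537 → fw i = true := below_step fw 16514 23 16537 wu717 wc718 rfl
theorem wc719 : allBelow (fun k => fw (Nat.add 16537 k)) 23 = true := by decide +kernel
theorem wu719 : ∀ i, i < 16560 → fw i = true := below_step fw 16537 23 16560 wu718 wc719 rfl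
theorem wc720 : allBelow (fun k => fw (Nat.add 16560 k)) 23 = true := by decide +kernel
theorem wu720 : ∀ i, i < 16583 → fw i = true := below_step fw 16560 23 16583 wu719 wc720 rfl
theorem wc721 : allBelow (fun k => fw (Nat.add 16583 k)) 23 = true := by decide +kernel
theorem wu721 : ∀ i, i < 16606 → fw i = true := below_step fw 16583 23 16606 wu720 wc721 rfl
theorem wc722 : allBelow (fun k => fw (Nat.add 16606 k)) 23 = true := by decide +kernel
theorem wu722 : ∀ i, i < 16629 → fw i = true := below_step fw 16606 23 16629 wu721 wc722 rfl
theorem wc723 : allBelow (fun k => fw (Nat.add 16629 k)) 23 = true := by decide +kernel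
theorem wu723 : ∀ i, i < 16652 → fw i = true := below_step fw 16629 23 16652 wu722 wc723 rfl
theorem wc724 : allBelow (fun k => fw (Nat.add 16652 k)) 23 = true := by decide +kernel
theorem wu724 : ∀ i, i < 16675 → fw i = true := below_step fw 16652 23 16675 wu723 wc724 rfl
theorem wc725 : allBelow (fun k => fw (Nat.add 16675 k)) 23 = true := by decide +kernel
theorem wu725 : ∀ i, i < 16698 → fw i = true := below_step fw 16675 23 16698 wu724 wc725 rfl
theorem wc726 : allBelow (fun k => fw (Nat.add 16698 k)) 23 = true := by decide +kernel
theorem wu726 : ∀ i, i < 16721 → fw i = true := below_step fw 16698 23 16721 wu725 wc726 rfl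
theorem wc727 : allBelow (fun k => fw (Nat.add 16721 k)) 23 = true := by decide +kernel
theorem wu727 : ∀ i, i < 16744 → fw i = true := below_step fw 16721 23 16744 wu726 wc727 rfl
theorem wc728 : allBelow (fun k => fw (Nat.add 16744 k)) 23 = true := by decide +kernel
theorem wu728 : ∀ i, i < 16767 → fw i = true := below_step fw 16744 23 16767 wu727 wc728 rfl
theorem wc729 : allBelow (fun k => fw (Nat.add 16767 k)) 23 = true := by decide +kernel
theorem wu729 : ∀ i, i < 16790 → fw i = true := below_step fw 16767 23 16790 wu728 wc729 rfl
theorem wc730 : allBelow (fun k => fw (Nat.add 16790 k)) 23 = true := by decide +kernel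
theorem wu730 : ∀ i, i < 16813 → fw i = true := below_step fw 16790 23 16813 wu729 wc730 rfl
theorem wc731 : allBelow (fun k => fw (Nat.add 16813 k)) 23 = true := by decide +kernel
theorem wu731 : ∀ i, i < 16836 → fw i = true := below_step fw 16813 23 16836 wu730 wc731 rfl
theorem wc732 : allBelow (fun k => fw (Nat.add 16836 k)) 23 = true := by decide +kernel
theorem wu732 : ∀ i, i < 16859 → fw i = true := below_step fw 16836 23 16859 wu731 wc732 rfl
theorem wc733 : allBelow (fun k => fw (Nat.add 16859 k)) 23 = true := by decide +kernel
theorem wu733 : ∀ i, i < 16882 → fw i = true := below_step fw 16859 23 16882 wu732 wc733 rfl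
theorem wc734 : allBelow (fun k => fw (Nat.add 16882 k)) 23 = true := by decide +kernel
theorem wu734 : ∀ i, i < 16905 → fw i = true := below_step fw 16882 23 16905 wu733 wc734 rfl

end Cfsg.Agent.Lib.Helper35.Fi23Tr.X
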