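import Cfsg.Agent.Lib.Helper35.Fi23Tr.X.Chk2

set_option Elab.async false

namespace Cfsg.Agent.Lib.Helper35.Fi23Tr.X

open Cfsg.Agent.Lib.Helper35

theorem wc735 : allBelow (fun k => fw (Nat.add 16905 k)) 23 = true := by decide +kernel
theorem wu735 : ∀ i, i < 16928 → fw i = true := below_step fw 16905 23 16928 wu734 wc735 rfl
theorem wc736 : allBelow (fun k => fw (Nat.add 16928 k)) 23 = true := by decide +kernel
theorem wu736 : ∀ i, i < 16951 → fw i = true := below_step fw 16928 23 16951 wu735 wc736 rfl
theorem wc737 : allBelow (fun k => fw (Nat.add 16951 k)) 23 = true := by decide +kernel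
theorem wu737 : ∀ i, i < 16974 → fw i = true := below_step fw 16951 23 16974 wu736 wc737 rfl
theorem wc738 : allBelow (fun k => fw (Nat.add 16974 k)) 23 = true := by decide +kernel
theorem wu738 : ∀ i, i < 16997 → fw i = true := below_step fw 16974 23 16997 wu737 wc738 rfl
theorem wc739 : allBelow (fun k => fw (Nat.add 16997 k)) 23 = true := by decide +kernel
theorem wu739 : ∀ i, i < 17020 → fw i = true := below_step fw 16997 23 17020 wu738 wc739 rfl
theorem wc740 : allBelow (fun k => fw (Nat.add 17020 k)) 23 = true := by decide +kernel
theorem wu740 : ∀ i, i < 17043 → fw i = true := below_step fw 17020 23 17043 wu739 wc740 rfl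
theorem wc741 : allBelow (fun k => fw (Nat.add 17043 k)) 23 = true := by decide +kernel
theorem wu741 : ∀ i, i < 17066 → fw i = true := below_step fw 17043 23 17066 wu740 wc741 rfl
theorem wc742 : allBelow (fun k => fw (Nat.add 17066 k)) 23 = true := by decide +kernel
theorem wu742 : ∀ i, i < 17089 → fw i = true := below_step fw 17066 23 17089 wu741 wc742 rfl
theorem wc743 : allBelow (fun k => fw (Nat.add 17089 k)) 23 = true := by decide +kernel
theorem wu743 : ∀ i, i < 17112 → fw i = true := below_step fw 17089 23 17112 wu742 wc743 rfl
theorem wc744 : allBelow (fun k => fw (Nat.add 17112 k)) 23 = true := by decide +kernel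
theorem wu744 : ∀ i, i < 17135 → fw i = true := below_step fw 17112 23 17135 wu743 wc744 rfl
theorem wc745 : allBelow (fun k => fw (Nat.add 17135 k)) 23 = true := by decide +kernel
theorem wu745 : ∀ i, i < 17158 → fw i = true := below_step fw 17135 23 17158 wu744 wc745 rfl
theorem wc746 : allBelow (fun k => fw (Nat.add 17158 k)) 23 = true := by decide +kernel
theorem wu746 : ∀ i, i < 17181 → fw i = true := below_step fw 17158 23 17181 wu745 wc746 rfl
theorem wc747 : allBelow (fun k => fw (Nat.add 17181 k)) 23 = true := by decide +kernel
theorem wu747 : ∀ i, i < 17204 → fw i = true := below_step fw 17181 23 17204 wu746 wc747 rfl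
theorem wc748 : allBelow (fun k => fw (Nat.add 17204 k)) 23 = true := by decide +kernel
theorem wu748 : ∀ i, i < 17227 → fw i = true := below_step fw 17204 23 17227 wu747 wc748 rfl
theorem wc749 : allBelow (fun k => fw (Nat.add 17227 k)) 23 = true := by decide +kernel
theorem wu749 : ∀ i, i < 17250 → fw i = true := below_step fw 17227 23 17250 wu748 wc749 rfl
theorem wc750 : allBelow (fun k => fw (Nat.add 17250 k)) 23 = true := by decide +kernel
theorem wu750 : ∀ i, i < 17273 → fw i = true := below_step fw 17250 23 17273 wu749 wc750 rfl
theorem wc751 : allBelow (fun k => fw (Nat.add 17273 k)) 23 = true := by decide +kernel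
theorem wu751 : ∀ i, i < 17296 → fw i = true := below_step fw 17273 23 17296 wu750 wc751 rfl
theorem wc752 : allBelow (fun k => fw (Nat.add 17296 k)) 23 = true := by decide +kernel
theorem wu752 : ∀ i, i < 17319 → fw i = true := below_step fw 17296 23 17319 wu751 wc752 rfl
theorem wc753 : allBelow (fun k => fw (Nat.add 17319 k)) 23 = true := by decide +kernel
theorem wu753 : ∀ i, i < 17342 → fw i = true := below_step fw 17319 23 17342 wu752 wc753 rfl
theorem wc754 : allBelow (fun k => fw (Nat.add 17342 k)) 23 = true := by decide +kernel
theorem wu754 : ∀ i, i < 17365 → fw i = true := below_step fw 17342 23 17365 wu753 wc754 rfl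
theorem wc755 : allBelow (fun k => fw (Nat.add 17365 k)) 23 = true := by decide +kernel
theorem wu755 : ∀ i, i < 17388 → fw i = true := below_step fw 17365 23 17388 wu754 wc755 rfl
theorem wc756 : allBelow (fun k => fw (Nat.add 17388 k)) 23 = true := by decide +kernel
theorem wu756 : ∀ i, i < 17411 → fw i = true := below_step fw 17388 23 17411 wu755 wc756 rfl
theorem wc757 : allBelow (fun k => fw (Nat.add 17411 k)) 23 = true := by decide +kernel
theorem wu757 : ∀ i, i < 17434 → fw i = true := below_step fw 17411 23 17434 wu756 wc757 rfl
theorem wc758 : allBelow (fun k => fw (Nat.add 17434 k)) 23 = true := by decide +kernel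
theorem wu758 : ∀ i, i < 17457 → fw i = true := below_step fw 17434 23 17457 wu757 wc758 rfl
theorem wc759 : allBelow (fun k => fw (Nat.add 17457 k)) 23 = true := by decide +kernel
theorem wu759 : ∀ i, i < 17480 → fw i = true := below_step fw 17457 23 17480 wu758 wc759 rfl
theorem wc760 : allBelow (fun k => fw (Nat.add 17480 k)) 23 = true := by decide +kernel
theorem wu760 : ∀ i, i < 17503 → fw i = true := below_step fw 17480 23 17503 wu759 wc760 rfl
theorem wc761 : allBelow (fun k => fw (Nat.add 17503 k)) 23 = true := by decide +kernel
theorem wu761 : ∀ i, i < 17526 → fw i = true := below_step fw 17503 23 17526 wu760 wc761 rfl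
theorem wc762 : allBelow (fun k => fw (Nat.add 17526 k)) 23 = true := by decide +kernel
theorem wu762 : ∀ i, i < 17549 → fw i = true := below_step fw 17526 23 17549 wu761 wc762 rfl
theorem wc763 : allBelow (fun k => fw (Nat.add 17549 k)) 23 = true := by decide +kernel
theorem wu763 : ∀ i, i < 17572 → fw i = true := below_step fw 17549 23 17572 wu762 wc763 rfl
theorem wc764 : allBelow (fun k => fw (Nat.add 17572 k)) 23 = true := by decide +kernel
theorem wu764 : ∀ i, i < 17595 → fw i = true := below_step fw 17572 23 17595 wu763 wc764 rfl
theorem wc765 : allBelow (fun k => fw (Nat.add 17595 k)) 23 = true := by decide +kernel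
theorem wu765 : ∀ i, i < 17618 → fw i = true := below_step fw 17595 23 17618 wu764 wc765 rfl
theorem wc766 : allBelow (fun k => fw (Nat.add 17618 k)) 23 = true := by decide +kernel
theorem wu766 : ∀ i, i < 17641 → fw i = true := below_step fw 17618 23 17641 wu765 wc766 rfl
theorem wc767 : allBelow (fun k => fw (Nat.add 17641 k)) 23 = true := by decide +kernel
theorem wu767 : ∀ i, i < 17664 → fw i = true := below_step fw 17641 23 17664 wu766 wc767 rfl
theorem wc768 : allBelow (fun k => fw (Nat.add 17664 k)) 23 = true := by decide +kernel
theorem wu768 : ∀ i, i < 17687 → fw i = true := below_step fw 17664 23 17687 wu767 wc768 rfl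
theorem wc769 : allBelow (fun k => fw (Nat.add 17687 k)) 23 = true := by decide +kernel
theorem wu769 : ∀ i, i < 17710 → fw i = true := below_step fw 17687 23 17710 wu768 wc769 rfl
theorem wc770 : allBelow (fun k => fw (Nat.add 17710 k)) 23 = true := by decide +kernel
theorem wu770 : ∀ i, i < 17733 → fw i = true := below_step fw 17710 23 17733 wu769 wc770 rfl
theorem wc771 : allBelow (fun k => fw (Nat.add 17733 k)) 23 = true := by decide +kernel
theorem wu771 : ∀ i, i < 17756 → fw i = true := below_step fw 17733 23 17756 wu770 wc771 rfl
theorem wc772 : allBelow (fun k => fw (Nat.add 17756 k)) 23 = true := by decide +kernel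
theorem wu772 : ∀ i, i < 17779 → fw i = true := below_step fw 17756 23 17779 wu771 wc772 rfl
theorem wc773 : allBelow (fun k => fw (Nat.add 17779 k)) 23 = true := by decide +kernel
theorem wu773 : ∀ i, i < 17802 → fw i = true := below_step fw 17779 23 17802 wu772 wc773 rfl
theorem wc774 : allBelow (fun k => fw (Nat.add 17802 k)) 23 = true := by decide +kernel
theorem wu774 : ∀ i, i < 17825 → fw i = true := below_step fw 17802 23 17825 wu773 wc774 rfl
theorem wc775 : allBelow (fun k => fw (Nat.add 17825 k)) 23 = true := by decide +kernel
theorem wu775 : ∀ i, i < 17848 → fw i = true := below_step fw 17825 23 17848 wu774 wc775 rfl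
theorem wc776 : allBelow (fun k => fw (Nat.add 17848 k)) 23 = true := by decide +kernel
theorem wu776 : ∀ i, i < 17871 → fw i = true := below_step fw 17848 23 17871 wu775 wc776 rfl
theorem wc777 : allBelow (fun k => fw (Nat.add 17871 k)) 23 = true := by decide +kernel
theorem wu777 : ∀ i, i < 17894 → fw i = true := below_step fw 17871 23 17894 wu776 wc777 rfl
theorem wc778 : allBelow (fun k => fw (Nat.add 17894 k)) 23 = true := by decide +kernel
theorem wu778 : ∀ i, i < 17917 → fw i = true := below_step fw 17894 23 17917 wu777 wc778 rfl
theorem wc779 : allBelow (fun k => fw (Nat.add 17917 k)) 23 = true := by decide +kernel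
theorem wu779 : ∀ i, i < 17940 → fw i = true := below_step fw 17917 23 17940 wu778 wc779 rfl
theorem wc780 : allBelow (fun k => fw (Nat.add 17940 k)) 23 = true := by decide +kernel
theorem wu780 : ∀ i, i < 17963 → fw i = true := below_step fw 17940 23 17963 wu779 wc780 rfl
theorem wc781 : allBelow (fun k => fw (Nat.add 17963 k)) 23 = true := by decide +kernel
theorem wu781 : ∀ i, i < 17986 → fw i = true := below_step fw 17963 23 17986 wu780 wc781 rfl
theorem wc782 : allBelow (fun k => fw (Nat.add 17986 k)) 23 = true := by decide +kernel
theorem wu782 : ∀ i, i < 18009 → fw i = true := below_step fw 17986 23 18009 wu781 wc782 rfl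
theorem wc783 : allBelow (fun k => fw (Nat.add 18009 k)) 23 = true := by decide +kernel
theorem wu783 : ∀ i, i < 18032 → fw i = true := below_step fw 18009 23 18032 wu782 wc783 rfl
theorem wc784 : allBelow (fun k => fw (Nat.add 18032 k)) 23 = true := by decide +kernel
theorem wu784 : ∀ i, i < 18055 → fw i = true := below_step fw 18032 23 18055 wu783 wc784 rfl
theorem wc785 : allBelow (fun k => fw (Nat.add 18055 k)) 23 = true := by decide +kernel
theorem wu785 : ∀ i, i < 18078 → fw i = true := below_step fw 18055 23 18078 wu784 wc785 rfl
theorem wc786 : allBelow (fun k => fw (Nat.add 18078 k)) 23 = true := by decide +kernel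
theorem wu786 : ∀ i, i < 18101 → fw i = true := below_step fw 18078 23 18101 wu785 wc786 rfl
theorem wc787 : allBelow (fun k => fw (Nat.add 18101 k)) 23 = true := by decide +kernel
theorem wu787 : ∀ i, i < 18124 → fw i = true := below_step fw 18101 23 18124 wu786 wc787 rfl
theorem wc788 : allBelow (fun k => fw (Nat.add 18124 k)) 23 = true := by decide +kernel
theorem wu788 : ∀ i, i < 18147 → fw i = true := below_step fw 18124 23 18147 wu787 wc788 rfl
theorem wc789 : allBelow (fun k => fw (Nat.add 18147 k)) 23 = true := by decide +kernel
theorem wu789 : ∀ i, i < 18170 → fw i = true := below_step fw 18147 23 18170 wu788 wc789 rfl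
theorem wc790 : allBelow (fun k => fw (Nat.add 18170 k)) 23 = true := by decide +kernel
theorem wu790 : ∀ i, i < 18193 → fw i = true := below_step fw 18170 23 18193 wu789 wc790 rfl
theorem wc791 : allBelow (fun k => fw (Nat.add 18193 k)) 23 = true := by decide +kernel
theorem wu791 : ∀ i, i < 18216 → fw i = true := below_step fw 18193 23 18216 wu790 wc791 rfl
theorem wc792 : allBelow (fun k => fw (Nat.add 18216 k)) 23 = true := by decide +kernel
theorem wu792 : ∀ i, i < 18239 → fw i = true := below_step fw 18216 23 18239 wu791 wc792 rfl
theorem wc793 : allBelow (fun k => fw (Nat.add 18239 k)) 23 = true := by decide +kernel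
theorem wu793 : ∀ i, i < 18262 → fw i = true := below_step fw 18239 23 18262 wu792 wc793 rfl
theorem wc794 : allBelow (fun k => fw (Nat.add 18262 k)) 23 = true := by decide +kernel
theorem wu794 : ∀ i, i < 18285 → fw i = true := below_step fw 18262 23 18285 wu793 wc794 rfl
theorem wc795 : allBelow (fun k => fw (Nat.add 18285 k)) 23 = true := by decide +kernel
theorem wu795 : ∀ i, i < 18308 → fw i = true := below_step fw 18285 23 18308 wu794 wc795 rfl
theorem wc796 : allBelow (fun k => fw (Nat.add 18308 k)) 23 = true := by decide +kernel
theorem wu796 : ∀ i, i < 18331 → fw i = true := below_step fw 18308 23 18331 wu795 wc796 rfl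
theorem wc797 : allBelow (fun k => fw (Nat.add 18331 k)) 23 = true := by decide +kernel
theorem wu797 : ∀ i, i < 18354 → fw i = true := below_step fw 18331 23 18354 wu796 wc797 rfl
theorem wc798 : allBelow (fun k => fw (Nat.add 18354 k)) 23 = true := by decide +kernel
theorem wu798 : ∀ i, i < 18377 → fw i = true := below_step fw 18354 23 18377 wu797 wc798 rfl
theorem wc799 : allBelow (fun k => fw (Nat.add 18377 k)) 23 = true := by decide +kernel
theorem wu799 : ∀ i, i < 18400 → fw i = true := below_step fw 18377 23 18400 wu798 wc799 rfl
theorem wc800 : allBelow (fun k => fw (Nat.add 18400 k)) 23 = true := by decide +kernel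
theorem wu800 : ∀ i, i < 18423 → fw i = true := below_step fw 18400 23 18423 wu799 wc800 rfl
theorem wc801 : allBelow (fun k => fw (Nat.add 18423 k)) 23 = true := by decide +kernel
theorem wu801 : ∀ i, i < 18446 → fw i = true := below_step fw 18423 23 18446 wu800 wc801 rfl
theorem wc802 : allBelow (fun k => fw (Nat.add 18446 k)) 23 = true := by decide +kernel
theorem wu802 : ∀ i, i < 18469 → fw i = true := below_step fw 18446 23 18469 wu801 wc802 rfl
theorem wc803 : allBelow (fun k => fw (Nat.add 18469 k)) 23 = true := by decide +kernel
theorem wu803 : ∀ i, i < 18492 → fw i = true := below_step fw 18469 23 18492 wu802 wc803 rfl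
theorem wc804 : allBelow (fun k => fw (Nat.add 18492 k)) 23 = true := by decide +kernel
theorem wu804 : ∀ i, i < 18515 → fw i = true := below_step fw 18492 23 18515 wu803 wc804 rfl
theorem wc805 : allBelow (fun k => fw (Nat.add 18515 k)) 23 = true := by decide +kernel
theorem wu805 : ∀ i, i < 18538 → fw i = true := below_step fw 18515 23 18538 wu804 wc805 rfl
theorem wc806 : allBelow (fun k => fw (Nat.add 18538 k)) 23 = true := by decide +kernel
theorem wu806 : ∀ i, i < 18561 → fw i = true := below_step fw 18538 23 18561 wu805 wc806 rfl
theorem wc807 : allBelow (fun k => fw (Nat.add 18561 k)) 23 = true := by decide +kernel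
theorem wu807 : ∀ i, i < 18584 → fw i = true := below_step fw 18561 23 18584 wu806 wc807 rfl
theorem wc808 : allBelow (fun k => fw (Nat.add 18584 k)) 23 = true := by decide +kernel
theorem wu808 : ∀ i, i < 18607 → fw i = true := below_step fw 18584 23 18607 wu807 wc808 rfl
theorem wc809 : allBelow (fun k => fw (Nat.add 18607 k)) 23 = true := by decide +kernel
theorem wu809 : ∀ i, i < 18630 → fw i = true := below_step fw 18607 23 18630 wu808 wc809 rfl
theorem wc810 : allBelow (fun k => fw (Nat.add 18630 k)) 23 = true := by decide +kernel
theorem wu810 : ∀ i, i < 18653 → fw i = true := below_step fw 18630 23 18653 wu809 wc810 rfl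
theorem wc811 : allBelow (fun k => fw (Nat.add 18653 k)) 23 = true := by decide +kernel
theorem wu811 : ∀ i, i < 18676 → fw i = true := below_step fw 18653 23 18676 wu810 wc811 rfl
theorem wc812 : allBelow (fun k => fw (Nat.add 18676 k)) 23 = true := by decide +kernel
theorem wu812 : ∀ i, i < 18699 → fw i = true := below_step fw 18676 23 18699 wu811 wc812 rfl
theorem wc813 : allBelow (fun k => fw (Nat.add 18699 k)) 23 = true := by decide +kernel
theorem wu813 : ∀ i, i < 18722 → fw i = true := below_step fw 18699 23 18722 wu812 wc813 rfl
theorem wc814 : allBelow (fun k => fw (Nat.add 18722 k)) 23 = true := by decide +kernel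
theorem wu814 : ∀ i, i < 18745 → fw i = true := below_step fw 18722 23 18745 wu813 wc814 rfl
theorem wc815 : allBelow (fun k => fw (Nat.add 18745 k)) 23 = true := by decide +kernel
theorem wu815 : ∀ i, i < 18768 → fw i = true := below_step fw 18745 23 18768 wu814 wc815 rfl
theorem wc816 : allBelow (fun k => fw (Nat.add 18768 k)) 23 = true := by decide +kernel
theorem wu816 : ∀ i, i < 18791 → fw i = true := below_step fw 18768 23 18791 wu815 wc816 rfl
theorem wc817 : allBelow (fun k => fw (Nat.add 18791 k)) 23 = true := by decide +kernel
theorem wu817 : ∀ i, i < 18814 → fw i = true := below_step fw 18791 23 18814 wu816 wc817 rfl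
theorem wc818 : allBelow (fun k => fw (Nat.add 18814 k)) 23 = true := by decide +kernel
theorem wu818 : ∀ i, i < 18837 → fw i = true := below_step fw 18814 23 18837 wu817 wc818 rfl
theorem wc819 : allBelow (fun k => fw (Nat.add 18837 k)) 23 = true := by decide +kernel
theorem wu819 : ∀ i, i < 18860 → fw i = true := below_step fw 18837 23 18860 wu818 wc819 rfl
theorem wc820 : allBelow (fun k => fw (Nat.add 18860 k)) 23 = true := by decide +kernel
theorem wu820 : ∀ i, i < 18883 → fw i = true := below_step fw 18860 23 18883 wu819 wc820 rfl
theorem wc821 : allBelow (fun k => fw (Nat.add 18883 k)) 23 = true := by decide +kernel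
theorem wu821 : ∀ i, i < 18906 → fw i = true := below_step fw 18883 23 18906 wu820 wc821 rfl
theorem wc822 : allBelow (fun k => fw (Nat.add 18906 k)) 23 = true := by decide +kernel
theorem wu822 : ∀ i, i < 18929 → fw i = true := below_step fw 18906 23 18929 wu821 wc822 rfl
theorem wc823 : allBelow (fun k => fw (Nat.add 18929 k)) 23 = true := by decide +kernel
theorem wu823 : ∀ i, i < 18952 → fw i = true := below_step fw 18929 23 18952 wu822 wc823 rfl
theorem wc824 : allBelow (fun k => fw (Nat.add 18952 k)) 23 = true := by decide +kernel
theorem wu824 : ∀ i, i < 18975 → fw i = true := below_step fw 18952 23 18975 wu823 wc824 rfl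
theorem wc825 : allBelow (fun k => fw (Nat.add 18975 k)) 23 = true := by decide +kernel
theorem wu825 : ∀ i, i < 18998 → fw i = true := below_step fw 18975 23 18998 wu824 wc825 rfl
theorem wc826 : allBelow (fun k => fw (Nat.add 18998 k)) 23 = true := by decide +kernel
theorem wu826 : ∀ i, i < 19021 → fw i = true := below_step fw 18998 23 19021 wu825 wc826 rfl
theorem wc827 : allBelow (fun k => fw (Nat.add 19021 k)) 23 = true := by decide +kernel
theorem wu827 : ∀ i, i < 19044 → fw i = true := below_step fw 19021 23 19044 wu826 wc827 rfl
theorem wc828 : allBelow (fun k => fw (Nat.add 19044 k)) 23 = true := by decide +kernel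
theorem wu828 : ∀ i, i < 19067 → fw i = true := below_step fw 19044 23 19067 wu827 wc828 rfl
theorem wc829 : allBelow (fun k => fw (Nat.add 19067 k)) 23 = true := by decide +kernel
theorem wu829 : ∀ i, i < 19090 → fw i = true := below_step fw 19067 23 19090 wu828 wc829 rfl
theorem wc830 : allBelow (fun k => fw (Nat.add 19090 k)) 23 = true := by decide +kernel
theorem wu830 : ∀ i, i < 19113 → fw i = true := below_step fw 19090 23 19113 wu829 wc830 rfl
theorem wc831 : allBelow (fun k => fw (Nat.add 19113 k)) 23 = true := by decide +kernel
theorem wu831 : ∀ i, i < 19136 → fw i = true := below_step fw 19113 23 19136 wu830 wc831 rfl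
theorem wc832 : allBelow (fun k => fw (Nat.add 19136 k)) 23 = true := by decide +kernel
theorem wu832 : ∀ i, i < 19159 → fw i = true := below_step fw 19136 23 19159 wu831 wc832 rfl
theorem wc833 : allBelow (fun k => fw (Nat.add 19159 k)) 23 = true := by decide +kernel
theorem wu833 : ∀ i, i < 19182 → fw i = true := below_step fw 19159 23 19182 wu832 wc833 rfl
theorem wc834 : allBelow (fun k => fw (Nat.add 19182 k)) 23 = true := by decide +kernel
theorem wu834 : ∀ i, i < 19205 → fw i = true := below_step fw 19182 23 19205 wu833 wc834 rfl
theorem wc835 : allBelow (fun k => fw (Nat.add 19205 k)) 23 = true := by decide +kernel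
theorem wu835 : ∀ i, i < 19228 → fw i = true := below_step fw 19205 23 19228 wu834 wc835 rfl
theorem wc836 : allBelow (fun k => fw (Nat.add 19228 k)) 23 = true := by decide +kernel
theorem wu836 : ∀ i, i < 19251 → fw i = true := below_step fw 19228 23 19251 wu835 wc836 rfl
theorem wc837 : allBelow (fun k => fw (Nat.add 19251 k)) 23 = true := by decide +kernel
theorem wu837 : ∀ i, i < 19274 → fw i = true := below_step fw 19251 23 19274 wu836 wc837 rfl
theorem wc838 : allBelow (fun k => fw (Nat.add 19274 k)) 23 = true := by decide +kernel
theorem wu838 : ∀ i, i < 19297 → fw i = true := below_step fw 19274 23 19297 wu837 wc838 rfl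
theorem wc839 : allBelow (fun k => fw (Nat.add 19297 k)) 23 = true := by decide +kernel
theorem wu839 : ∀ i, i < 19320 → fw i = true := below_step fw 19297 23 19320 wu838 wc839 rfl
theorem wc840 : allBelow (fun k => fw (Nat.add 19320 k)) 23 = true := by decide +kernel
theorem wu840 : ∀ i, i < 19343 → fw i = true := below_step fw 19320 23 19343 wu839 wc840 rfl
theorem wc841 : allBelow (fun k => fw (Nat.add 19343 k)) 23 = true := by decide +kernel
theorem wu841 : ∀ i, i < 19366 → fw i = true := below_step fw 19343 23 19366 wu840 wc841 rfl
theorem wc842 : allBelow (fun k => fw (Nat.add 19366 k)) 23 = true := by decide +kernel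
theorem wu842 : ∀ i, i < 19389 → fw i = true := below_step fw 19366 23 19389 wu841 wc842 rfl
theorem wc843 : allBelow (fun k => fw (Nat.add 19389 k)) 23 = true := by decide +kernel
theorem wu843 : ∀ i, i < 19412 → fw i = true := below_step fw 19389 23 19412 wu842 wc843 rfl
theorem wc844 : allBelow (fun k => fw (Nat.add 19412 k)) 23 = true := by decide +kernel
theorem wu844 : ∀ i, i < 19435 → fw i = true := below_step fw 19412 23 19435 wu843 wc844 rfl
theorem wc845 : allBelow (fun k => fw (Nat.add 19435 k)) 23 = true := by decide +kernel
theorem wu845 : ∀ i, i < 19458 → fw i = true := below_step fw 19435 23 19458 wu844 wc845 rfl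
theorem wc846 : allBelow (fun k => fw (Nat.add 19458 k)) 23 = true := by decide +kernel
theorem wu846 : ∀ i, i < 19481 → fw i = true := below_step fw 19458 23 19481 wu845 wc846 rfl
theorem wc847 : allBelow (fun k => fw (Nat.add 19481 k)) 23 = true := by decide +kernel
theorem wu847 : ∀ i, i < 19504 → fw i = true := below_step fw 19481 23 19504 wu846 wc847 rfl
theorem wc848 : allBelow (fun k => fw (Nat.add 19504 k)) 23 = true := by decide +kernel
theorem wu848 : ∀ i, i < 19527 → fw i = true := below_step fw 19504 23 19527 wu847 wc848 rfl
theorem wc849 : allBelow (fun k => fw (Nat.add 19527 k)) 23 = true := by decide +kernel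
theorem wu849 : ∀ i, i < 19550 → fw i = true := below_step fw 19527 23 19550 wu848 wc849 rfl
theorem wc850 : allBelow (fun k => fw (Nat.add 19550 k)) 23 = true := by decide +kernel
theorem wu850 : ∀ i, i < 19573 → fw i = true := below_step fw 19550 23 19573 wu849 wc850 rfl
theorem wc851 : allBelow (fun k => fw (Nat.add 19573 k)) 23 = true := by decide +kernel
theorem wu851 : ∀ i, i < 19596 → fw i = true := below_step fw 19573 23 19596 wu850 wc851 rfl
theorem wc852 : allBelow (fun k => fw (Nat.add 19596 k)) 23 = true := by decide +kernel
theorem wu852 : ∀ i, i < 19619 → fw i = true := below_step fw 19596 23 19619 wu851 wc852 rfl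
theorem wc853 : allBelow (fun k => fw (Nat.add 19619 k)) 23 = true := by decide +kernel
theorem wu853 : ∀ i, i < 19642 → fw i = true := below_step fw 19619 23 19642 wu852 wc853 rfl
theorem wc854 : allBelow (fun k => fw (Nat.add 19642 k)) 23 = true := by decide +kernel
theorem wu854 : ∀ i, i < 19665 → fw i = true := below_step fw 19642 23 19665 wu853 wc854 rfl
theorem wc855 : allBelow (fun k => fw (Nat.add 19665 k)) 23 = true := by decide +kernel
theorem wu855 : ∀ i, i < 19688 → fw i = true := below_step fw 19665 23 19688 wu854 wc855 rfl
theorem wc856 : allBelow (fun k => fw (Nat.add 19688 k)) 23 = true := by decide +kernel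
theorem wu856 : ∀ i, i < 19711 → fw i = true := below_step fw 19688 23 19711 wu855 wc856 rfl
theorem wc857 : allBelow (fun k => fw (Nat.add 19711 k)) 23 = true := by decide +kernel
theorem wu857 : ∀ i, i < 19734 → fw i = true := below_step fw 19711 23 19734 wu856 wc857 rfl
theorem wc858 : allBelow (fun k => fw (Nat.add 19734 k)) 23 = true := by decide +kernel
theorem wu858 : ∀ i, i < 19757 → fw i = true := below_step fw 19734 23 19757 wu857 wc858 rfl
theorem wc859 : allBelow (fun k => fw (Nat.add 19757 k)) 23 = true := by decide +kernel
theorem wu859 : ∀ i, i < 19780 → fw i = true := below_step fw 19757 23 19780 wu858 wc859 rfl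
theorem wc860 : allBelow (fun k => fw (Nat.add 19780 k)) 23 = true := by decide +kernel
theorem wu860 : ∀ i, i < 19803 → fw i = true := below_step fw 19780 23 19803 wu859 wc860 rfl
theorem wc861 : allBelow (fun k => fw (Nat.add 19803 k)) 23 = true := by decide +kernel
theorem wu861 : ∀ i, i < 19826 → fw i = true := below_step fw 19803 23 19826 wu860 wc861 rfl
theorem wc862 : allBelow (fun k => fw (Nat.add 19826 k)) 23 = true := by decide +kernel
theorem wu862 : ∀ i, i < 19849 → fw i = true := below_step fw 19826 23 19849 wu861 wc862 rfl
theorem wc863 : allBelow (fun k => fw (Nat.add 19849 k)) 23 = true := by decide +kernel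
theorem wu863 : ∀ i, i < 19872 → fw i = true := below_step fw 19849 23 19872 wu862 wc863 rfl
theorem wc864 : allBelow (fun k => fw (Nat.add 19872 k)) 23 = true := by decide +kernel
theorem wu864 : ∀ i, i < 19895 → fw i = true := below_step fw 19872 23 19895 wu863 wc864 rfl
theorem wc865 : allBelow (fun k => fw (Nat.add 19895 k)) 23 = true := by decide +kernel
theorem wu865 : ∀ i, i < 19918 → fw i = true := below_step fw 19895 23 19918 wu864 wc865 rfl
theorem wc866 : allBelow (fun k => fw (Nat.add 19918 k)) 23 = true := by decide +kernel
theorem wu866 : ∀ i, i < 19941 → fw i = true := below_step fw 19918 23 19941 wu865 wc866 rfl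
theorem wc867 : allBelow (fun k => fw (Nat.add 19941 k)) 23 = true := by decide +kernel
theorem wu867 : ∀ i, i < 19964 → fw i = true := below_step fw 19941 23 19964 wu866 wc867 rfl
theorem wc868 : allBelow (fun k => fw (Nat.add 19964 k)) 23 = true := by decide +kernel
theorem wu868 : ∀ i, i < 19987 → fw i = true := below_step fw 19964 23 19987 wu867 wc868 rfl
theorem wc869 : allBelow (fun k => fw (Nat.add 19987 k)) 23 = true := by decide +kernel
theorem wu869 : ∀ i, i < 20010 → fw i = true := below_step fw 19987 23 20010 wu868 wc869 rfl
theorem wc870 : allBelow (fun k => fw (Nat.add 20010 k)) 23 = true := by decide +kernel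
theorem wu870 : ∀ i, i < 20033 → fw i = true := below_step fw 20010 23 20033 wu869 wc870 rfl
theorem wc871 : allBelow (fun k => fw (Nat.add 20033 k)) 23 = true := by decide +kernel
theorem wu871 : ∀ i, i < 20056 → fw i = true := below_step fw 20033 23 20056 wu870 wc871 rfl
theorem wc872 : allBelow (fun k => fw (Nat.add 20056 k)) 23 = true := by decide +kernel
theorem wu872 : ∀ i, i < 20079 → fw i = true := below_step fw 20056 23 20079 wu871 wc872 rfl
theorem wc873 : allBelow (fun k => fw (Nat.add 20079 k)) 23 = true := by decide +kernel
theorem wu873 : ∀ i, i < 20102 → fw i = true := below_step fw 20079 23 20102 wu872 wc873 rfl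
theorem wc874 : allBelow (fun k => fw (Nat.add 20102 k)) 23 = true := by decide +kernel
theorem wu874 : ∀ i, i < 20125 → fw i = true := below_step fw 20102 23 20125 wu873 wc874 rfl
theorem wc875 : allBelow (fun k => fw (Nat.add 20125 k)) 23 = true := by decide +kernel
theorem wu875 : ∀ i, i < 20148 → fw i = true := below_step fw 20125 23 20148 wu874 wc875 rfl
theorem wc876 : allBelow (fun k => fw (Nat.add 20148 k)) 23 = true := by decide +kernel
theorem wu876 : ∀ i, i < 20171 → fw i = true := below_step fw 20148 23 20171 wu875 wc876 rfl
theorem wc877 : allBelow (fun k => fw (Nat.add 20171 k)) 23 = true := by decide +kernel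
theorem wu877 : ∀ i, i < 20194 → fw i = true := below_step fw 20171 23 20194 wu876 wc877 rfl
theorem wc878 : allBelow (fun k => fw (Nat.add 20194 k)) 23 = true := by decide +kernel
theorem wu878 : ∀ i, i < 20217 → fw i = true := below_step fw 20194 23 20217 wu877 wc878 rfl
theorem wc879 : allBelow (fun k => fw (Nat.add 20217 k)) 23 = true := by decide +kernel
theorem wu879 : ∀ i, i < 20240 → fw i = true := below_step fw 20217 23 20240 wu878 wc879 rfl
theorem wc880 : allBelow (fun k => fw (Nat.add 20240 k)) 23 = true := by decide +kernel
theorem wu880 : ∀ i, i < 20263 → fw i = true := below_step fw 20240 23 20263 wu879 wc880 rfl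
theorem wc881 : allBelow (fun k => fw (Nat.add 20263 k)) 23 = true := by decide +kernel
theorem wu881 : ∀ i, i < 20286 → fw i = true := below_step fw 20263 23 20286 wu880 wc881 rfl
theorem wc882 : allBelow (fun k => fw (Nat.add 20286 k)) 23 = true := by decide +kernel
theorem wu882 : ∀ i, i < 20309 → fw i = true := below_step fw 20286 23 20309 wu881 wc882 rfl
theorem wc883 : allBelow (fun k => fw (Nat.add 20309 k)) 23 = true := by decide +kernel
theorem wu883 : ∀ i, i < 20332 → fw i = true := below_step fw 20309 23 20332 wu882 wc883 rfl
theorem wc884 : allBelow (fun k => fw (Nat.add 20332 k)) 23 = true := by decide +kernel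
theorem wu884 : ∀ i, i < 20355 → fw i = true := below_step fw 20332 23 20355 wu883 wc884 rfl
theorem wc885 : allBelow (fun k => fw (Nat.add 20355 k)) 23 = true := by decide +kernel
theorem wu885 : ∀ i, i < 20378 → fw i = true := below_step fw 20355 23 20378 wu884 wc885 rfl
theorem wc886 : allBelow (fun k => fw (Nat.add 20378 k)) 23 = true := by decide +kernel
theorem wu886 : ∀ i, i < 20401 → fw i = true := below_step fw 20378 23 20401 wu885 wc886 rfl
theorem wc887 : allBelow (fun k => fw (Nat.add 20401 k)) 23 = true := by decide +kernel
theorem wu887 : ∀ i, i < 20424 → fw i = true := below_step fw 20401 23 20424 wu886 wc887 rfl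
theorem wc888 : allBelow (fun k => fw (Nat.add 20424 k)) 23 = true := by decide +kernel
theorem wu888 : ∀ i, i < 20447 → fw i = true := below_step fw 20424 23 20447 wu887 wc888 rfl
theorem wc889 : allBelow (fun k => fw (Nat.add 20447 k)) 23 = true := by decide +kernel
theorem wu889 : ∀ i, i < 20470 → fw i = true := below_step fw 20447 23 20470 wu888 wc889 rfl
theorem wc890 : allBelow (fun k => fw (Nat.add 20470 k)) 23 = true := by decide +kernel
theorem wu890 : ∀ i, i < 20493 → fw i = true := below_step fw 20470 23 20493 wu889 wc890 rfl
theorem wc891 : allBelow (fun k => fw (Nat.add 20493 k)) 23 = true := by decide +kernel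
theorem wu891 : ∀ i, i < 20516 → fw i = true := below_step fw 20493 23 20516 wu890 wc891 rfl
theorem wc892 : allBelow (fun k => fw (Nat.add 20516 k)) 23 = true := by decide +kernel
theorem wu892 : ∀ i, i < 20539 → fw i = true := below_step fw 20516 23 20539 wu891 wc892 rfl
theorem wc893 : allBelow (fun k => fw (Nat.add 20539 k)) 23 = true := by decide +kernel
theorem wu893 : ∀ i, i < 20562 → fw i = true := below_step fw 20539 23 20562 wu892 wc893 rfl
theorem wc894 : allBelow (fun k => fw (Nat.add 20562 k)) 23 = true := by decide +kernel
theorem wu894 : ∀ i, i < 20585 → fw i = true := below_step fw 20562 23 20585 wu893 wc894 rfl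
theorem wc895 : allBelow (fun k => fw (Nat.add 20585 k)) 23 = true := by decide +kernel
theorem wu895 : ∀ i, i < 20608 → fw i = true := below_step fw 20585 23 20608 wu894 wc895 rfl
theorem wc896 : allBelow (fun k => fw (Nat.add 20608 k)) 23 = true := by decide +kernel
theorem wu896 : ∀ i, i < 20631 → fw i = true := below_step fw 20608 23 20631 wu895 wc896 rfl
theorem wc897 : allBelow (fun k => fw (Nat.add 20631 k)) 23 = true := by decide +kernel
theorem wu897 : ∀ i, i < 20654 → fw i = true := below_step fw 20631 23 20654 wu896 wc897 rfl
theorem wc898 : allBelow (fun k => fw (Nat.add 20654 k)) 23 = true := by decide +kernel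
theorem wu898 : ∀ i, i < 20677 → fw i = true := below_step fw 20654 23 20677 wu897 wc898 rfl
theorem wc899 : allBelow (fun k => fw (Nat.add 20677 k)) 23 = true := by decide +kernel
theorem wu899 : ∀ i, i < 20700 → fw i = true := below_step fw 20677 23 20700 wu898 wc899 rfl
theorem wc900 : allBelow (fun k => fw (Nat.add 20700 k)) 23 = true := by decide +kernel
theorem wu900 : ∀ i, i < 20723 → fw i = true := below_step fw 20700 23 20723 wu899 wc900 rfl
theorem wc901 : allBelow (fun k => fw (Nat.add 20723 k)) 23 = true := by decide +kernel
theorem wu901 : ∀ i, i < 20746 → fw i = true := below_step fw 20723 23 20746 wu900 wc901 rfl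
theorem wc902 : allBelow (fun k => fw (Nat.add 20746 k)) 23 = true := by decide +kernel
theorem wu902 : ∀ i, i < 20769 → fw i = true := below_step fw 20746 23 20769 wu901 wc902 rfl
theorem wc903 : allBelow (fun k => fw (Nat.add 20769 k)) 23 = true := by decide +kernel
theorem wu903 : ∀ i, i < 20792 → fw i = true := below_step fw 20769 23 20792 wu902 wc903 rfl
theorem wc904 : allBelow (fun k => fw (Nat.add 20792 k)) 23 = true := by decide +kernel
theorem wu904 : ∀ i, i < 20815 → fw i = true := below_step fw 20792 23 20815 wu903 wc904 rfl
theorem wc905 : allBelow (fun k => fw (Nat.add 20815 k)) 23 = true := by decide +kernel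
theorem wu905 : ∀ i, i < 20838 → fw i = true := below_step fw 20815 23 20838 wu904 wc905 rfl
theorem wc906 : allBelow (fun k => fw (Nat.add 20838 k)) 23 = true := by decide +kernel
theorem wu906 : ∀ i, i < 20861 → fw i = true := below_step fw 20838 23 20861 wu905 wc906 rfl
theorem wc907 : allBelow (fun k => fw (Nat.add 20861 k)) 23 = true := by decide +kernel
theorem wu907 : ∀ i, i < 20884 → fw i = true := below_step fw 20861 23 20884 wu906 wc907 rfl
theorem wc908 : allBelow (fun k => fw (Nat.add 20884 k)) 23 = true := by decide +kernel
theorem wu908 : ∀ i, i < 20907 → fw i = true := below_step fw 20884 23 20907 wu907 wc908 rfl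
theorem wc909 : allBelow (fun k => fw (Nat.add 20907 k)) 23 = true := by decide +kernel
theorem wu909 : ∀ i, i < 20930 → fw i = true := below_step fw 20907 23 20930 wu908 wc909 rfl
theorem wc910 : allBelow (fun k => fw (Nat.add 20930 k)) 23 = true := by decide +kernel
theorem wu910 : ∀ i, i < 20953 → fw i = true := below_step fw 20930 23 20953 wu909 wc910 rfl
theorem wc911 : allBelow (fun k => fw (Nat.add 20953 k)) 23 = true := by decide +kernel
theorem wu911 : ∀ i, i < 20976 → fw i = true := below_step fw 20953 23 20976 wu910 wc911 rfl
theorem wc912 : allBelow (fun k => fw (Nat.add 20976 k)) 23 = true := by decide +kernel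
theorem wu912 : ∀ i, i < 20999 → fw i = true := below_step fw 20976 23 20999 wu911 wc912 rfl
theorem wc913 : allBelow (fun k => fw (Nat.add 20999 k)) 23 = true := by decide +kernel
theorem wu913 : ∀ i, i < 21022 → fw i = true := below_step fw 20999 23 21022 wu912 wc913 rfl
theorem wc914 : allBelow (fun k => fw (Nat.add 21022 k)) 23 = true := by decide +kernel
theorem wu914 : ∀ i, i < 21045 → fw i = true := below_step fw 21022 23 21045 wu913 wc914 rfl
theorem wc915 : allBelow (fun k => fw (Nat.add 21045 k)) 23 = true := by decide +kernel
theorem wu915 : ∀ i, i < 21068 → fw i = true := below_step fw 21045 23 21068 wu914 wc915 rfl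
theorem wc916 : allBelow (fun k => fw (Nat.add 21068 k)) 23 = true := by decide +kernel
theorem wu916 : ∀ i, i < 21091 → fw i = true := below_step fw 21068 23 21091 wu915 wc916 rfl
theorem wc917 : allBelow (fun k => fw (Nat.add 21091 k)) 23 = true := by decide +kernel
theorem wu917 : ∀ i, i < 21114 → fw i = true := below_step fw 21091 23 21114 wu916 wc917 rfl
theorem wc918 : allBelow (fun k => fw (Nat.add 21114 k)) 23 = true := by decide +kernel
theorem wu918 : ∀ i, i < 21137 → fw i = true := below_step fw 21114 23 21137 wu917 wc918 rfl
theorem wc919 : allBelow (fun k => fw (Nat.add 21137 k)) 23 = true := by decide +kernel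
theorem wu919 : ∀ i, i < 21160 → fw i = true := below_step fw 21137 23 21160 wu918 wc919 rfl
theorem wc920 : allBelow (fun k => fw (Nat.add 21160 k)) 23 = true := by decide +kernel
theorem wu920 : ∀ i, i < 21183 → fw i = true := below_step fw 21160 23 21183 wu919 wc920 rfl
theorem wc921 : allBelow (fun k => fw (Nat.add 21183 k)) 23 = true := by decide +kernel
theorem wu921 : ∀ i, i < 21206 → fw i = true := below_step fw 21183 23 21206 wu920 wc921 rfl
theorem wc922 : allBelow (fun k => fw (Nat.add 21206 k)) 23 = true := by decide +kernel
theorem wu922 : ∀ i, i < 21229 → fw i = true := below_step fw 21206 23 21229 wu921 wc922 rfl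
theorem wc923 : allBelow (fun k => fw (Nat.add 21229 k)) 23 = true := by decide +kernel
theorem wu923 : ∀ i, i < 21252 → fw i = true := below_step fw 21229 23 21252 wu922 wc923 rfl
theorem wc924 : allBelow (fun k => fw (Nat.add 21252 k)) 23 = true := by decide +kernel
theorem wu924 : ∀ i, i < 21275 → fw i = true := below_step fw 21252 23 21275 wu923 wc924 rfl
theorem wc925 : allBelow (fun k => fw (Nat.add 21275 k)) 23 = true := by decide +kernel
theorem wu925 : ∀ i, i < 21298 → fw i = true := below_step fw 21275 23 21298 wu924 wc925 rfl
theorem wc926 : allBelow (fun k => fw (Nat.add 21298 k)) 23 = true := by decide +kernel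
theorem wu926 : ∀ i, i < 21321 → fw i = true := below_step fw 21298 23 21321 wu925 wc926 rfl
theorem wc927 : allBelow (fun k => fw (Nat.add 21321 k)) 23 = true := by decide +kernel
theorem wu927 : ∀ i, i < 21344 → fw i = true := below_step fw 21321 23 21344 wu926 wc927 rfl
theorem wc928 : allBelow (fun k => fw (Nat.add 21344 k)) 23 = true := by decide +kernel
theorem wu928 : ∀ i, i < 21367 → fw i = true := below_step fw 21344 23 21367 wu927 wc928 rfl
theorem wc929 : allBelow (fun k => fw (Nat.add 21367 k)) 23 = true := by decide +kernel
theorem wu929 : ∀ i, i < 21390 → fw i = true := below_step fw 21367 23 21390 wu928 wc929 rfl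
theorem wc930 : allBelow (fun k => fw (Nat.add 21390 k)) 23 = true := by decide +kernel
theorem wu930 : ∀ i, i < 21413 → fw i = true := below_step fw 21390 23 21413 wu929 wc930 rfl
theorem wc931 : allBelow (fun k => fw (Nat.add 21413 k)) 23 = true := by decide +kernel
theorem wu931 : ∀ i, i < 21436 → fw i = true := below_step fw 21413 23 21436 wu930 wc931 rfl
theorem wc932 : allBelow (fun k => fw (Nat.add 21436 k)) 23 = true := by decide +kernel
theorem wu932 : ∀ i, i < 21459 → fw i = true := below_step fw 21436 23 21459 wu931 wc932 rfl
theorem wc933 : allBelow (fun k => fw (Nat.add 21459 k)) 23 = true := by decide +kernel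
theorem wu933 : ∀ i, i < 21482 → fw i = true := below_step fw 21459 23 21482 wu932 wc933 rfl
theorem wc934 : allBelow (fun k => fw (Nat.add 21482 k)) 23 = true := by decide +kernel
theorem wu934 : ∀ i, i < 21505 → fw i = true := below_step fw 21482 23 21505 wu933 wc934 rfl
theorem wc935 : allBelow (fun k => fw (Nat.add 21505 k)) 23 = true := by decide +kernel
theorem wu935 : ∀ i, i < 21528 → fw i = true := below_step fw 21505 23 21528 wu934 wc935 rfl
theorem wc936 : allBelow (fun k => fw (Nat.add 21528 k)) 23 = true := by decide +kernel
theorem wu936 : ∀ i, i < 21551 → fw i = true := below_step fw 21528 23 21551 wu935 wc936 rfl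
theorem wc937 : allBelow (fun k => fw (Nat.add 21551 k)) 23 = true := by decide +kernel
theorem wu937 : ∀ i, i < 21574 → fw i = true := below_step fw 21551 23 21574 wu936 wc937 rfl
theorem wc938 : allBelow (fun k => fw (Nat.add 21574 k)) 23 = true := by decide +kernel
theorem wu938 : ∀ i, i < 21597 → fw i = true := below_step fw 21574 23 21597 wu937 wc938 rfl
theorem wc939 : allBelow (fun k => fw (Nat.add 21597 k)) 23 = true := by decide +kernel
theorem wu939 : ∀ i, i < 21620 → fw i = true := below_step fw 21597 23 21620 wu938 wc939 rfl
theorem wc940 : allBelow (fun k => fw (Nat.add 21620 k)) 23 = true := by decide +kernel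
theorem wu940 : ∀ i, i < 21643 → fw i = true := below_step fw 21620 23 21643 wu939 wc940 rfl
theorem wc941 : allBelow (fun k => fw (Nat.add 21643 k)) 23 = true := by decide +kernel
theorem wu941 : ∀ i, i < 21666 → fw i = true := below_step fw 21643 23 21666 wu940 wc941 rfl
theorem wc942 : allBelow (fun k => fw (Nat.add 21666 k)) 23 = true := by decide +kernel
theorem wu942 : ∀ i, i < 21689 → fw i = true := below_step fw 21666 23 21689 wu941 wc942 rfl
theorem wc943 : allBelow (fun k => fw (Nat.add 21689 k)) 23 = true := by decide +kernel
theorem wu943 : ∀ i, i < 21712 → fw i = true := below_step fw 21689 23 21712 wu942 wc943 rfl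
theorem wc944 : allBelow (fun k => fw (Nat.add 21712 k)) 23 = true := by decide +kernel
theorem wu944 : ∀ i, i < 21735 → fw i = true := below_step fw 21712 23 21735 wu943 wc944 rfl
theorem wc945 : allBelow (fun k => fw (Nat.add 21735 k)) 23 = true := by decide +kernel
theorem wu945 : ∀ i, i < 21758 → fw i = true := below_step fw 21735 23 21758 wu944 wc945 rfl
theorem wc946 : allBelow (fun k => fw (Nat.add 21758 k)) 23 = true := by decide +kernel
theorem wu946 : ∀ i, i < 21781 → fw i = true := below_step fw 21758 23 21781 wu945 wc946 rfl
theorem wc947 : allBelow (fun k => fw (Nat.add 21781 k)) 23 = true := by decide +kernel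
theorem wu947 : ∀ i, i < 21804 → fw i = true := below_step fw 21781 23 21804 wu946 wc947 rfl
theorem wc948 : allBelow (fun k => fw (Nat.add 21804 k)) 23 = true := by decide +kernel
theorem wu948 : ∀ i, i < 21827 → fw i = true := below_step fw 21804 23 21827 wu947 wc948 rfl
theorem wc949 : allBelow (fun k => fw (Nat.add 21827 k)) 23 = true := by decide +kernel
theorem wu949 : ∀ i, i < 21850 → fw i = true := below_step fw 21827 23 21850 wu948 wc949 rfl
theorem wc950 : allBelow (fun k => fw (Nat.add 21850 k)) 23 = true := by decide +kernel
theorem wu950 : ∀ i, i < 21873 → fw i = true := below_step fw 21850 23 21873 wu949 wc950 rfl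
theorem wc951 : allBelow (fun k => fw (Nat.add 21873 k)) 23 = true := by decide +kernel
theorem wu951 : ∀ i, i < 21896 → fw i = true := below_step fw 21873 23 21896 wu950 wc951 rfl
theorem wc952 : allBelow (fun k => fw (Nat.add 21896 k)) 23 = true := by decide +kernel
theorem wu952 : ∀ i, i < 21919 → fw i = true := below_step fw 21896 23 21919 wu951 wc952 rfl
theorem wc953 : allBelow (fun k => fw (Nat.add 21919 k)) 23 = true := by decide +kernel
theorem wu953 : ∀ i, i < 21942 → fw i = true := below_step fw 21919 23 21942 wu952 wc953 rfl
theorem wc954 : allBelow (fun k => fw (Nat.add 21942 k)) 23 = true := by decide +kernel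
theorem wu954 : ∀ i, i < 21965 → fw i = true := below_step fw 21942 23 21965 wu953 wc954 rfl
theorem wc955 : allBelow (fun k => fw (Nat.add 21965 k)) 23 = true := by decide +kernel
theorem wu955 : ∀ i, i < 21988 → fw i = true := below_step fw 21965 23 21988 wu954 wc955 rfl
theorem wc956 : allBelow (fun k => fw (Nat.add 21988 k)) 23 = true := by decide +kernel
theorem wu956 : ∀ i, i < 22011 → fw i = true := below_step fw 21988 23 22011 wu955 wc956 rfl
theorem wc957 : allBelow (fun k => fw (Nat.add 22011 k)) 23 = true := by decide +kernel
theorem wu957 : ∀ i, i < 22034 → fw i = true := below_step fw 22011 23 22034 wu956 wc957 rfl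
theorem wc958 : allBelow (fun k => fw (Nat.add 22034 k)) 23 = true := by decide +kernel
theorem wu958 : ∀ i, i < 22057 → fw i = true := below_step fw 22034 23 22057 wu957 wc958 rfl
theorem wc959 : allBelow (fun k => fw (Nat.add 22057 k)) 23 = true := by decide +kernel
theorem wu959 : ∀ i, i < 22080 → fw i = true := below_step fw 22057 23 22080 wu958 wc959 rfl
theorem wc960 : allBelow (fun k => fw (Nat.add 22080 k)) 23 = true := by decide +kernel
theorem wu960 : ∀ i, i < 22103 → fw i = true := below_step fw 22080 23 22103 wu959 wc960 rfl
theorem wc961 : allBelow (fun k => fw (Nat.add 22103 k)) 23 = true := by decide +kernel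
theorem wu961 : ∀ i, i < 22126 → fw i = true := below_step fw 22103 23 22126 wu960 wc961 rfl
theorem wc962 : allBelow (fun k => fw (Nat.add 22126 k)) 23 = true := by decide +kernel
theorem wu962 : ∀ i, i < 22149 → fw i = true := below_step fw 22126 23 22149 wu961 wc962 rfl
theorem wc963 : allBelow (fun k => fw (Nat.add 22149 k)) 23 = true := by decide +kernel
theorem wu963 : ∀ i, i < 22172 → fw i = true := below_step fw 22149 23 22172 wu962 wc963 rfl
theorem wc964 : allBelow (fun k => fw (Nat.add 22172 k)) 23 = true := by decide +kernel
theorem wu964 : ∀ i, i < 22195 → fw i = true := below_step fw 22172 23 22195 wu963 wc964 rfl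
theorem wc965 : allBelow (fun k => fw (Nat.add 22195 k)) 23 = true := by decide +kernel
theorem wu965 : ∀ i, i < 22218 → fw i = true := below_step fw 22195 23 22218 wu964 wc965 rfl
theorem wc966 : allBelow (fun k => fw (Nat.add 22218 k)) 23 = true := by decide +kernel
theorem wu966 : ∀ i, i < 22241 → fw i = true := below_step fw 22218 23 22241 wu965 wc966 rfl
theorem wc967 : allBelow (fun k => fw (Nat.add 22241 k)) 23 = true := by decide +kernel
theorem wu967 : ∀ i, i < 22264 → fw i = true := below_step fw 22241 23 22264 wu966 wc967 rfl
theorem wc968 : allBelow (fun k => fw (Nat.add 22264 k)) 23 = true := by decide +kernel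
theorem wu968 : ∀ i, i < 22287 → fw i = true := below_step fw 22264 23 22287 wu967 wc968 rfl
theorem wc969 : allBelow (fun k => fw (Nat.add 22287 k)) 23 = true := by decide +kernel
theorem wu969 : ∀ i, i < 22310 → fw i = true := below_step fw 22287 23 22310 wu968 wc969 rfl
theorem wc970 : allBelow (fun k => fw (Nat.add 22310 k)) 23 = true := by decide +kernel
theorem wu970 : ∀ i, i < 22333 → fw i = true := below_step fw 22310 23 22333 wu969 wc970 rfl
theorem wc971 : allBelow (fun k => fw (Nat.add 22333 k)) 23 = true := by decide +kernel
theorem wu971 : ∀ i, i < 22356 → fw i = true := below_step fw 22333 23 22356 wu970 wc971 rfl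
theorem wc972 : allBelow (fun k => fw (Nat.add 22356 k)) 23 = true := by decide +kernel
theorem wu972 : ∀ i, i < 22379 → fw i = true := below_step fw 22356 23 22379 wu971 wc972 rfl
theorem wc973 : allBelow (fun k => fw (Nat.add 22379 k)) 23 = true := by decide +kernel
theorem wu973 : ∀ i, i < 22402 → fw i = true := below_step fw 22379 23 22402 wu972 wc973 rfl
theorem wc974 : allBelow (fun k => fw (Nat.add 22402 k)) 23 = true := by decide +kernel
theorem wu974 : ∀ i, i < 22425 → fw i = true := below_step fw 22402 23 22425 wu973 wc974 rfl
theorem wc975 : allBelow (fun k => fw (Nat.add 22425 k)) 23 = true := by decide +kernel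
theorem wu975 : ∀ i, i < 22448 → fw i = true := below_step fw 22425 23 22448 wu974 wc975 rfl
theorem wc976 : allBelow (fun k => fw (Nat.add 22448 k)) 23 = true := by decide +kernel
theorem wu976 : ∀ i, i < 22471 → fw i = true := below_step fw 22448 23 22471 wu975 wc976 rfl
theorem wc977 : allBelow (fun k => fw (Nat.add 22471 k)) 23 = true := by decide +kernel
theorem wu977 : ∀ i, i < 22494 → fw i = true := below_step fw 22471 23 22494 wu976 wc977 rfl
theorem wc978 : allBelow (fun k => fw (Nat.add 22494 k)) 23 = true := by decide +kernel
theorem wu978 : ∀ i, i < 22517 → fw i = true := below_step fw 22494 23 22517 wu977 wc978 rfl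
theorem wc979 : allBelow (fun k => fw (Nat.add 22517 k)) 23 = true := by decide +kernel
theorem wu979 : ∀ i, i < 22540 → fw i = true := below_step fw 22517 23 22540 wu978 wc979 rfl

end Cfsg.Agent.Lib.Helper35.Fi23Tr.X
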