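import Cfsg.Agent.Lib.Helper35.Fi23Tr.X.Chk3

set_option Elab.async false

namespace Cfsg.Agent.Lib.Helper35.Fi23Tr.X

open Cfsg.Agent.Lib.Helper35

theorem wc980 : allBelow (fun k => fw (Nat.add 22540 k)) 23 = true := by decide +kernel
theorem wu980 : ∀ i, i < 22563 → fw i = true := below_step fw 22540 23 22563 wu979 wc980 rfl
theorem wc981 : allBelow (fun k => fw (Nat.add 22563 k)) 23 = true := by decide +kernel
theorem wu981 : ∀ i, i < 22586 → fw i = true := below_step fw 22563 23 22586 wu980 wc981 rfl
theorem wc982 : allBelow (fun k => fw (Nat.add 22586 k)) 23 = true := by decide +kernel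
theorem wu982 : ∀ i, i < 22609 → fw i = true := below_step fw 22586 23 22609 wu981 wc982 rfl
theorem wc983 : allBelow (fun k => fw (Nat.add 22609 k)) 23 = true := by decide +kernel
theorem wu983 : ∀ i, i < 22632 → fw i = true := below_step fw 22609 23 22632 wu982 wc983 rfl
theorem wc984 : allBelow (fun k => fw (Nat.add 22632 k)) 23 = true := by decide +kernel
theorem wu984 : ∀ i, i < 22655 → fw i = true := below_step fw 22632 23 22655 wu983 wc984 rfl
theorem wc985 : allBelow (fun k => fw (Nat.add 22655 k)) 23 = true := by decide +kernel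
theorem wu985 : ∀ i, i < 22678 → fw i = true := below_step fw 22655 23 22678 wu984 wc985 rfl
theorem wc986 : allBelow (fun k => fw (Nat.add 22678 k)) 23 = true := by decide +kernel
theorem wu986 : ∀ i, i < 22701 → fw i = true := below_step fw 22678 23 22701 wu985 wc986 rfl
theorem wc987 : allBelow (fun k => fw (Nat.add 22701 k)) 23 = true := by decide +kernel
theorem wu987 : ∀ i, i < 22724 → fw i = true := below_step fw 22701 23 22724 wu986 wc987 rfl
theorem wc988 : allBelow (fun k => fw (Nat.add 22724 k)) 23 = true := by decide +kernel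
theorem wu988 : ∀ i, i < 22747 → fw i = true := below_step fw 22724 23 22747 wu987 wc988 rfl
theorem wc989 : allBelow (fun k => fw (Nat.add 22747 k)) 23 = true := by decide +kernel
theorem wu989 : ∀ i, i < 22770 → fw i = true := below_step fw 22747 23 22770 wu988 wc989 rfl
theorem wc990 : allBelow (fun k => fw (Nat.add 22770 k)) 23 = true := by decide +kernel
theorem wu990 : ∀ i, i < 22793 → fw i = true := below_step fw 22770 23 22793 wu989 wc990 rfl
theorem wc991 : allBelow (fun k => fw (Nat.add 22793 k)) 23 = true := by decide +kernel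
theorem wu991 : ∀ i, i < 22816 → fw i = true := below_step fw 22793 23 22816 wu990 wc991 rfl
theorem wc992 : allBelow (fun k => fw (Nat.add 22816 k)) 23 = true := by decide +kernel
theorem wu992 : ∀ i, i < 22839 → fw i = true := below_step fw 22816 23 22839 wu991 wc992 rfl
theorem wc993 : allBelow (fun k => fw (Nat.add 22839 k)) 23 = true := by decide +kernel
theorem wu993 : ∀ i, i < 22862 → fw i = true := below_step fw 22839 23 22862 wu992 wc993 rfl
theorem wc994 : allBelow (fun k => fw (Nat.add 22862 k)) 23 = true := by decide +kernel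
theorem wu994 : ∀ i, i < 22885 → fw i = true := below_step fw 22862 23 22885 wu993 wc994 rfl
theorem wc995 : allBelow (fun k => fw (Nat.add 22885 k)) 23 = true := by decide +kernel
theorem wu995 : ∀ i, i < 22908 → fw i = true := below_step fw 22885 23 22908 wu994 wc995 rfl
theorem wc996 : allBelow (fun k => fw (Nat.add 22908 k)) 23 = true := by decide +kernel
theorem wu996 : ∀ i, i < 22931 → fw i = true := below_step fw 22908 23 22931 wu995 wc996 rfl
theorem wc997 : allBelow (fun k => fw (Nat.add 22931 k)) 23 = true := by decide +kernel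
theorem wu997 : ∀ i, i < 22954 → fw i = true := below_step fw 22931 23 22954 wu996 wc997 rfl
theorem wc998 : allBelow (fun k => fw (Nat.add 22954 k)) 23 = true := by decide +kernel
theorem wu998 : ∀ i, i < 22977 → fw i = true := below_step fw 22954 23 22977 wu997 wc998 rfl
theorem wc999 : allBelow (fun k => fw (Nat.add 22977 k)) 23 = true := by decide +kernel
theorem wu999 : ∀ i, i < 23000 → fw i = true := below_step fw 22977 23 23000 wu998 wc999 rfl
theorem wc1000 : allBelow (fun k => fw (Nat.add 23000 k)) 23 = true := by decide +kernel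
theorem wu1000 : ∀ i, i < 23023 → fw i = true := below_step fw 23000 23 23023 wu999 wc1000 rfl
theorem wc1001 : allBelow (fun k => fw (Nat.add 23023 k)) 23 = true := by decide +kernel
theorem wu1001 : ∀ i, i < 23046 → fw i = true := below_step fw 23023 23 23046 wu1000 wc1001 rfl
theorem wc1002 : allBelow (fun k => fw (Nat.add 23046 k)) 23 = true := by decide +kernel
theorem wu1002 : ∀ i, i < 23069 → fw i = true := below_step fw 23046 23 23069 wu1001 wc1002 rfl
theorem wc1003 : allBelow (fun k => fw (Nat.add 23069 k)) 23 = true := by decide +kernel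
theorem wu1003 : ∀ i, i < 23092 → fw i = true := below_step fw 23069 23 23092 wu1002 wc1003 rfl
theorem wc1004 : allBelow (fun k => fw (Nat.add 23092 k)) 23 = true := by decide +kernel
theorem wu1004 : ∀ i, i < 23115 → fw i = true := below_step fw 23092 23 23115 wu1003 wc1004 rfl
theorem wc1005 : allBelow (fun k => fw (Nat.add 23115 k)) 23 = true := by decide +kernel
theorem wu1005 : ∀ i, i < 23138 → fw i = true := below_step fw 23115 23 23138 wu1004 wc1005 rfl
theorem wc1006 : allBelow (fun k => fw (Nat.add 23138 k)) 23 = true := by decide +kernel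
theorem wu1006 : ∀ i, i < 23161 → fw i = true := below_step fw 23138 23 23161 wu1005 wc1006 rfl
theorem wc1007 : allBelow (fun k => fw (Nat.add 23161 k)) 23 = true := by decide +kernel
theorem wu1007 : ∀ i, i < 23184 → fw i = true := below_step fw 23161 23 23184 wu1006 wc1007 rfl
theorem wc1008 : allBelow (fun k => fw (Nat.add 23184 k)) 23 = true := by decide +kernel
theorem wu1008 : ∀ i, i < 23207 → fw i = true := below_step fw 23184 23 23207 wu1007 wc1008 rfl
theorem wc1009 : allBelow (fun k => fw (Nat.add 23207 k)) 23 = true := by decide +kernel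
theorem wu1009 : ∀ i, i < 23230 → fw i = true := below_step fw 23207 23 23230 wu1008 wc1009 rfl
theorem wc1010 : allBelow (fun k => fw (Nat.add 23230 k)) 23 = true := by decide +kernel
theorem wu1010 : ∀ i, i < 23253 → fw i = true := below_step fw 23230 23 23253 wu1009 wc1010 rfl
theorem wc1011 : allBelow (fun k => fw (Nat.add 23253 k)) 23 = true := by decide +kernel
theorem wu1011 : ∀ i, i < 23276 → fw i = true := below_step fw 23253 23 23276 wu1010 wc1011 rfl
theorem wc1012 : allBelow (fun k => fw (Nat.add 23276 k)) 23 = true := by decide +kernel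
theorem wu1012 : ∀ i, i < 23299 → fw i = true := below_step fw 23276 23 23299 wu1011 wc1012 rfl
theorem wc1013 : allBelow (fun k => fw (Nat.add 23299 k)) 23 = true := by decide +kernel
theorem wu1013 : ∀ i, i < 23322 → fw i = true := below_step fw 23299 23 23322 wu1012 wc1013 rfl
theorem wc1014 : allBelow (fun k => fw (Nat.add 23322 k)) 23 = true := by decide +kernel
theorem wu1014 : ∀ i, i < 23345 → fw i = true := below_step fw 23322 23 23345 wu1013 wc1014 rfl
theorem wc1015 : allBelow (fun k => fw (Nat.add 23345 k)) 23 = true := by decide +kernel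
theorem wu1015 : ∀ i, i < 23368 → fw i = true := below_step fw 23345 23 23368 wu1014 wc1015 rfl
theorem wc1016 : allBelow (fun k => fw (Nat.add 23368 k)) 23 = true := by decide +kernel
theorem wu1016 : ∀ i, i < 23391 → fw i = true := below_step fw 23368 23 23391 wu1015 wc1016 rfl
theorem wc1017 : allBelow (fun k => fw (Nat.add 23391 k)) 23 = true := by decide +kernel
theorem wu1017 : ∀ i, i < 23414 → fw i = true := below_step fw 23391 23 23414 wu1016 wc1017 rfl
theorem wc1018 : allBelow (fun k => fw (Nat.add 23414 k)) 23 = true := by decide +kernel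
theorem wu1018 : ∀ i, i < 23437 → fw i = true := below_step fw 23414 23 23437 wu1017 wc1018 rfl
theorem wc1019 : allBelow (fun k => fw (Nat.add 23437 k)) 23 = true := by decide +kernel
theorem wu1019 : ∀ i, i < 23460 → fw i = true := below_step fw 23437 23 23460 wu1018 wc1019 rfl
theorem wc1020 : allBelow (fun k => fw (Nat.add 23460 k)) 23 = true := by decide +kernel
theorem wu1020 : ∀ i, i < 23483 → fw i = true := below_step fw 23460 23 23483 wu1019 wc1020 rfl
theorem wc1021 : allBelow (fun k => fw (Nat.add 23483 k)) 23 = true := by decide +kernel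
theorem wu1021 : ∀ i, i < 23506 → fw i = true := below_step fw 23483 23 23506 wu1020 wc1021 rfl
theorem wc1022 : allBelow (fun k => fw (Nat.add 23506 k)) 23 = true := by decide +kernel
theorem wu1022 : ∀ i, i < 23529 → fw i = true := below_step fw 23506 23 23529 wu1021 wc1022 rfl
theorem wc1023 : allBelow (fun k => fw (Nat.add 23529 k)) 23 = true := by decide +kernel
theorem wu1023 : ∀ i, i < 23552 → fw i = true := below_step fw 23529 23 23552 wu1022 wc1023 rfl
theorem wc1024 : allBelow (fun k => fw (Nat.add 23552 k)) 23 = true := by decide +kernel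
theorem wu1024 : ∀ i, i < 23575 → fw i = true := below_step fw 23552 23 23575 wu1023 wc1024 rfl
theorem wc1025 : allBelow (fun k => fw (Nat.add 23575 k)) 23 = true := by decide +kernel
theorem wu1025 : ∀ i, i < 23598 → fw i = true := below_step fw 23575 23 23598 wu1024 wc1025 rfl
theorem wc1026 : allBelow (fun k => fw (Nat.add 23598 k)) 23 = true := by decide +kernel
theorem wu1026 : ∀ i, i < 23621 → fw i = true := below_step fw 23598 23 23621 wu1025 wc1026 rfl
theorem wc1027 : allBelow (fun k => fw (Nat.add 23621 k)) 23 = true := by decide +kernel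
theorem wu1027 : ∀ i, i < 23644 → fw i = true := below_step fw 23621 23 23644 wu1026 wc1027 rfl
theorem wc1028 : allBelow (fun k => fw (Nat.add 23644 k)) 23 = true := by decide +kernel
theorem wu1028 : ∀ i, i < 23667 → fw i = true := below_step fw 23644 23 23667 wu1027 wc1028 rfl
theorem wc1029 : allBelow (fun k => fw (Nat.add 23667 k)) 23 = true := by decide +kernel
theorem wu1029 : ∀ i, i < 23690 → fw i = true := below_step fw 23667 23 23690 wu1028 wc1029 rfl
theorem wc1030 : allBelow (fun k => fw (Nat.add 23690 k)) 23 = true := by decide +kernel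
theorem wu1030 : ∀ i, i < 23713 → fw i = true := below_step fw 23690 23 23713 wu1029 wc1030 rfl
theorem wc1031 : allBelow (fun k => fw (Nat.add 23713 k)) 23 = true := by decide +kernel
theorem wu1031 : ∀ i, i < 23736 → fw i = true := below_step fw 23713 23 23736 wu1030 wc1031 rfl
theorem wc1032 : allBelow (fun k => fw (Nat.add 23736 k)) 23 = true := by decide +kernel
theorem wu1032 : ∀ i, i < 23759 → fw i = true := below_step fw 23736 23 23759 wu1031 wc1032 rfl
theorem wc1033 : allBelow (fun k => fw (Nat.add 23759 k)) 23 = true := by decide +kernel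
theorem wu1033 : ∀ i, i < 23782 → fw i = true := below_step fw 23759 23 23782 wu1032 wc1033 rfl
theorem wc1034 : allBelow (fun k => fw (Nat.add 23782 k)) 23 = true := by decide +kernel
theorem wu1034 : ∀ i, i < 23805 → fw i = true := below_step fw 23782 23 23805 wu1033 wc1034 rfl
theorem wc1035 : allBelow (fun k => fw (Nat.add 23805 k)) 23 = true := by decide +kernel
theorem wu1035 : ∀ i, i < 23828 → fw i = true := below_step fw 23805 23 23828 wu1034 wc1035 rfl
theorem wc1036 : allBelow (fun k => fw (Nat.add 23828 k)) 23 = true := by decide +kernel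
theorem wu1036 : ∀ i, i < 23851 → fw i = true := below_step fw 23828 23 23851 wu1035 wc1036 rfl
theorem wc1037 : allBelow (fun k => fw (Nat.add 23851 k)) 23 = true := by decide +kernel
theorem wu1037 : ∀ i, i < 23874 → fw i = true := below_step fw 23851 23 23874 wu1036 wc1037 rfl
theorem wc1038 : allBelow (fun k => fw (Nat.add 23874 k)) 23 = true := by decide +kernel
theorem wu1038 : ∀ i, i < 23897 → fw i = true := below_step fw 23874 23 23897 wu1037 wc1038 rfl
theorem wc1039 : allBelow (fun k => fw (Nat.add 23897 k)) 23 = true := by decide +kernel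
theorem wu1039 : ∀ i, i < 23920 → fw i = true := below_step fw 23897 23 23920 wu1038 wc1039 rfl
theorem wc1040 : allBelow (fun k => fw (Nat.add 23920 k)) 23 = true := by decide +kernel
theorem wu1040 : ∀ i, i < 23943 → fw i = true := below_step fw 23920 23 23943 wu1039 wc1040 rfl
theorem wc1041 : allBelow (fun k => fw (Nat.add 23943 k)) 23 = true := by decide +kernel
theorem wu1041 : ∀ i, i < 23966 → fw i = true := below_step fw 23943 23 23966 wu1040 wc1041 rfl
theorem wc1042 : allBelow (fun k => fw (Nat.add 23966 k)) 23 = true := by decide +kernel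
theorem wu1042 : ∀ i, i < 23989 → fw i = true := below_step fw 23966 23 23989 wu1041 wc1042 rfl
theorem wc1043 : allBelow (fun k => fw (Nat.add 23989 k)) 23 = true := by decide +kernel
theorem wu1043 : ∀ i, i < 24012 → fw i = true := below_step fw 23989 23 24012 wu1042 wc1043 rfl
theorem wc1044 : allBelow (fun k => fw (Nat.add 24012 k)) 23 = true := by decide +kernel
theorem wu1044 : ∀ i, i < 24035 → fw i = true := below_step fw 24012 23 24035 wu1043 wc1044 rfl
theorem wc1045 : allBelow (fun k => fw (Nat.add 24035 k)) 23 = true := by decide +kernel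
theorem wu1045 : ∀ i, i < 24058 → fw i = true := below_step fw 24035 23 24058 wu1044 wc1045 rfl
theorem wc1046 : allBelow (fun k => fw (Nat.add 24058 k)) 23 = true := by decide +kernel
theorem wu1046 : ∀ i, i < 24081 → fw i = true := below_step fw 24058 23 24081 wu1045 wc1046 rfl
theorem wc1047 : allBelow (fun k => fw (Nat.add 24081 k)) 23 = true := by decide +kernel
theorem wu1047 : ∀ i, i < 24104 → fw i = true := below_step fw 24081 23 24104 wu1046 wc1047 rfl
theorem wc1048 : allBelow (fun k => fw (Nat.add 24104 k)) 23 = true := by decide +kernel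
theorem wu1048 : ∀ i, i < 24127 → fw i = true := below_step fw 24104 23 24127 wu1047 wc1048 rfl
theorem wc1049 : allBelow (fun k => fw (Nat.add 24127 k)) 23 = true := by decide +kernel
theorem wu1049 : ∀ i, i < 24150 → fw i = true := below_step fw 24127 23 24150 wu1048 wc1049 rfl
theorem wc1050 : allBelow (fun k => fw (Nat.add 24150 k)) 23 = true := by decide +kernel
theorem wu1050 : ∀ i, i < 24173 → fw i = true := below_step fw 24150 23 24173 wu1049 wc1050 rfl
theorem wc1051 : allBelow (fun k => fw (Nat.add 24173 k)) 23 = true := by decide +kernel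
theorem wu1051 : ∀ i, i < 24196 → fw i = true := below_step fw 24173 23 24196 wu1050 wc1051 rfl
theorem wc1052 : allBelow (fun k => fw (Nat.add 24196 k)) 23 = true := by decide +kernel
theorem wu1052 : ∀ i, i < 24219 → fw i = true := below_step fw 24196 23 24219 wu1051 wc1052 rfl
theorem wc1053 : allBelow (fun k => fw (Nat.add 24219 k)) 23 = true := by decide +kernel
theorem wu1053 : ∀ i, i < 24242 → fw i = true := below_step fw 24219 23 24242 wu1052 wc1053 rfl
theorem wc1054 : allBelow (fun k => fw (Nat.add 24242 k)) 23 = true := by decide +kernel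
theorem wu1054 : ∀ i, i < 24265 → fw i = true := below_step fw 24242 23 24265 wu1053 wc1054 rfl
theorem wc1055 : allBelow (fun k => fw (Nat.add 24265 k)) 23 = true := by decide +kernel
theorem wu1055 : ∀ i, i < 24288 → fw i = true := below_step fw 24265 23 24288 wu1054 wc1055 rfl
theorem wc1056 : allBelow (fun k => fw (Nat.add 24288 k)) 23 = true := by decide +kernel
theorem wu1056 : ∀ i, i < 24311 → fw i = true := below_step fw 24288 23 24311 wu1055 wc1056 rfl
theorem wc1057 : allBelow (fun k => fw (Nat.add 24311 k)) 23 = true := by decide +kernel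
theorem wu1057 : ∀ i, i < 24334 → fw i = true := below_step fw 24311 23 24334 wu1056 wc1057 rfl
theorem wc1058 : allBelow (fun k => fw (Nat.add 24334 k)) 23 = true := by decide +kernel
theorem wu1058 : ∀ i, i < 24357 → fw i = true := below_step fw 24334 23 24357 wu1057 wc1058 rfl
theorem wc1059 : allBelow (fun k => fw (Nat.add 24357 k)) 23 = true := by decide +kernel
theorem wu1059 : ∀ i, i < 24380 → fw i = true := below_step fw 24357 23 24380 wu1058 wc1059 rfl
theorem wc1060 : allBelow (fun k => fw (Nat.add 24380 k)) 23 = true := by decide +kernel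
theorem wu1060 : ∀ i, i < 24403 → fw i = true := below_step fw 24380 23 24403 wu1059 wc1060 rfl
theorem wc1061 : allBelow (fun k => fw (Nat.add 24403 k)) 23 = true := by decide +kernel
theorem wu1061 : ∀ i, i < 24426 → fw i = true := below_step fw 24403 23 24426 wu1060 wc1061 rfl
theorem wc1062 : allBelow (fun k => fw (Nat.add 24426 k)) 23 = true := by decide +kernel
theorem wu1062 : ∀ i, i < 24449 → fw i = true := below_step fw 24426 23 24449 wu1061 wc1062 rfl
theorem wc1063 : allBelow (fun k => fw (Nat.add 24449 k)) 23 = true := by decide +kernel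
theorem wu1063 : ∀ i, i < 24472 → fw i = true := below_step fw 24449 23 24472 wu1062 wc1063 rfl
theorem wc1064 : allBelow (fun k => fw (Nat.add 24472 k)) 23 = true := by decide +kernel
theorem wu1064 : ∀ i, i < 24495 → fw i = true := below_step fw 24472 23 24495 wu1063 wc1064 rfl
theorem wc1065 : allBelow (fun k => fw (Nat.add 24495 k)) 23 = true := by decide +kernel
theorem wu1065 : ∀ i, i < 24518 → fw i = true := below_step fw 24495 23 24518 wu1064 wc1065 rfl
theorem wc1066 : allBelow (fun k => fw (Nat.add 24518 k)) 23 = true := by decide +kernel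
theorem wu1066 : ∀ i, i < 24541 → fw i = true := below_step fw 24518 23 24541 wu1065 wc1066 rfl
theorem wc1067 : allBelow (fun k => fw (Nat.add 24541 k)) 23 = true := by decide +kernel
theorem wu1067 : ∀ i, i < 24564 → fw i = true := below_step fw 24541 23 24564 wu1066 wc1067 rfl
theorem wc1068 : allBelow (fun k => fw (Nat.add 24564 k)) 23 = true := by decide +kernel
theorem wu1068 : ∀ i, i < 24587 → fw i = true := below_step fw 24564 23 24587 wu1067 wc1068 rfl
theorem wc1069 : allBelow (fun k => fw (Nat.add 24587 k)) 23 = true := by decide +kernel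
theorem wu1069 : ∀ i, i < 24610 → fw i = true := below_step fw 24587 23 24610 wu1068 wc1069 rfl
theorem wc1070 : allBelow (fun k => fw (Nat.add 24610 k)) 23 = true := by decide +kernel
theorem wu1070 : ∀ i, i < 24633 → fw i = true := below_step fw 24610 23 24633 wu1069 wc1070 rfl
theorem wc1071 : allBelow (fun k => fw (Nat.add 24633 k)) 23 = true := by decide +kernel
theorem wu1071 : ∀ i, i < 24656 → fw i = true := below_step fw 24633 23 24656 wu1070 wc1071 rfl
theorem wc1072 : allBelow (fun k => fw (Nat.add 24656 k)) 23 = true := by decide +kernel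
theorem wu1072 : ∀ i, i < 24679 → fw i = true := below_step fw 24656 23 24679 wu1071 wc1072 rfl
theorem wc1073 : allBelow (fun k => fw (Nat.add 24679 k)) 23 = true := by decide +kernel
theorem wu1073 : ∀ i, i < 24702 → fw i = true := below_step fw 24679 23 24702 wu1072 wc1073 rfl
theorem wc1074 : allBelow (fun k => fw (Nat.add 24702 k)) 23 = true := by decide +kernel
theorem wu1074 : ∀ i, i < 24725 → fw i = true := below_step fw 24702 23 24725 wu1073 wc1074 rfl
theorem wc1075 : allBelow (fun k => fw (Nat.add 24725 k)) 23 = true := by decide +kernel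
theorem wu1075 : ∀ i, i < 24748 → fw i = true := below_step fw 24725 23 24748 wu1074 wc1075 rfl
theorem wc1076 : allBelow (fun k => fw (Nat.add 24748 k)) 23 = true := by decide +kernel
theorem wu1076 : ∀ i, i < 24771 → fw i = true := below_step fw 24748 23 24771 wu1075 wc1076 rfl
theorem wc1077 : allBelow (fun k => fw (Nat.add 24771 k)) 23 = true := by decide +kernel
theorem wu1077 : ∀ i, i < 24794 → fw i = true := below_step fw 24771 23 24794 wu1076 wc1077 rfl
theorem wc1078 : allBelow (fun k => fw (Nat.add 24794 k)) 23 = true := by decide +kernel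
theorem wu1078 : ∀ i, i < 24817 → fw i = true := below_step fw 24794 23 24817 wu1077 wc1078 rfl
theorem wc1079 : allBelow (fun k => fw (Nat.add 24817 k)) 23 = true := by decide +kernel
theorem wu1079 : ∀ i, i < 24840 → fw i = true := below_step fw 24817 23 24840 wu1078 wc1079 rfl
theorem wc1080 : allBelow (fun k => fw (Nat.add 24840 k)) 23 = true := by decide +kernel
theorem wu1080 : ∀ i, i < 24863 → fw i = true := below_step fw 24840 23 24863 wu1079 wc1080 rfl
theorem wc1081 : allBelow (fun k => fw (Nat.add 24863 k)) 23 = true := by decide +kernel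
theorem wu1081 : ∀ i, i < 24886 → fw i = true := below_step fw 24863 23 24886 wu1080 wc1081 rfl
theorem wc1082 : allBelow (fun k => fw (Nat.add 24886 k)) 23 = true := by decide +kernel
theorem wu1082 : ∀ i, i < 24909 → fw i = true := below_step fw 24886 23 24909 wu1081 wc1082 rfl
theorem wc1083 : allBelow (fun k => fw (Nat.add 24909 k)) 23 = true := by decide +kernel
theorem wu1083 : ∀ i, i < 24932 → fw i = true := below_step fw 24909 23 24932 wu1082 wc1083 rfl
theorem wc1084 : allBelow (fun k => fw (Nat.add 24932 k)) 23 = true := by decide +kernel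
theorem wu1084 : ∀ i, i < 24955 → fw i = true := below_step fw 24932 23 24955 wu1083 wc1084 rfl
theorem wc1085 : allBelow (fun k => fw (Nat.add 24955 k)) 23 = true := by decide +kernel
theorem wu1085 : ∀ i, i < 24978 → fw i = true := below_step fw 24955 23 24978 wu1084 wc1085 rfl
theorem wc1086 : allBelow (fun k => fw (Nat.add 24978 k)) 23 = true := by decide +kernel
theorem wu1086 : ∀ i, i < 25001 → fw i = true := below_step fw 24978 23 25001 wu1085 wc1086 rfl
theorem wc1087 : allBelow (fun k => fw (Nat.add 25001 k)) 23 = true := by decide +kernel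
theorem wu1087 : ∀ i, i < 25024 → fw i = true := below_step fw 25001 23 25024 wu1086 wc1087 rfl
theorem wc1088 : allBelow (fun k => fw (Nat.add 25024 k)) 23 = true := by decide +kernel
theorem wu1088 : ∀ i, i < 25047 → fw i = true := below_step fw 25024 23 25047 wu1087 wc1088 rfl
theorem wc1089 : allBelow (fun k => fw (Nat.add 25047 k)) 23 = true := by decide +kernel
theorem wu1089 : ∀ i, i < 25070 → fw i = true := below_step fw 25047 23 25070 wu1088 wc1089 rfl
theorem wc1090 : allBelow (fun k => fw (Nat.add 25070 k)) 23 = true := by decide +kernel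
theorem wu1090 : ∀ i, i < 25093 → fw i = true := below_step fw 25070 23 25093 wu1089 wc1090 rfl
theorem wc1091 : allBelow (fun k => fw (Nat.add 25093 k)) 23 = true := by decide +kernel
theorem wu1091 : ∀ i, i < 25116 → fw i = true := below_step fw 25093 23 25116 wu1090 wc1091 rfl
theorem wc1092 : allBelow (fun k => fw (Nat.add 25116 k)) 23 = true := by decide +kernel
theorem wu1092 : ∀ i, i < 25139 → fw i = true := below_step fw 25116 23 25139 wu1091 wc1092 rfl
theorem wc1093 : allBelow (fun k => fw (Nat.add 25139 k)) 23 = true := by decide +kernel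
theorem wu1093 : ∀ i, i < 25162 → fw i = true := below_step fw 25139 23 25162 wu1092 wc1093 rfl
theorem wc1094 : allBelow (fun k => fw (Nat.add 25162 k)) 23 = true := by decide +kernel
theorem wu1094 : ∀ i, i < 25185 → fw i = true := below_step fw 25162 23 25185 wu1093 wc1094 rfl
theorem wc1095 : allBelow (fun k => fw (Nat.add 25185 k)) 23 = true := by decide +kernel
theorem wu1095 : ∀ i, i < 25208 → fw i = true := below_step fw 25185 23 25208 wu1094 wc1095 rfl
theorem wc1096 : allBelow (fun k => fw (Nat.add 25208 k)) 23 = true := by decide +kernel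
theorem wu1096 : ∀ i, i < 25231 → fw i = true := below_step fw 25208 23 25231 wu1095 wc1096 rfl
theorem wc1097 : allBelow (fun k => fw (Nat.add 25231 k)) 23 = true := by decide +kernel
theorem wu1097 : ∀ i, i < 25254 → fw i = true := below_step fw 25231 23 25254 wu1096 wc1097 rfl
theorem wc1098 : allBelow (fun k => fw (Nat.add 25254 k)) 23 = true := by decide +kernel
theorem wu1098 : ∀ i, i < 25277 → fw i = true := below_step fw 25254 23 25277 wu1097 wc1098 rfl
theorem wc1099 : allBelow (fun k => fw (Nat.add 25277 k)) 23 = true := by decide +kernel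
theorem wu1099 : ∀ i, i < 25300 → fw i = true := below_step fw 25277 23 25300 wu1098 wc1099 rfl
theorem wc1100 : allBelow (fun k => fw (Nat.add 25300 k)) 23 = true := by decide +kernel
theorem wu1100 : ∀ i, i < 25323 → fw i = true := below_step fw 25300 23 25323 wu1099 wc1100 rfl
theorem wc1101 : allBelow (fun k => fw (Nat.add 25323 k)) 23 = true := by decide +kernel
theorem wu1101 : ∀ i, i < 25346 → fw i = true := below_step fw 25323 23 25346 wu1100 wc1101 rfl
theorem wc1102 : allBelow (fun k => fw (Nat.add 25346 k)) 23 = true := by decide +kernel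
theorem wu1102 : ∀ i, i < 25369 → fw i = true := below_step fw 25346 23 25369 wu1101 wc1102 rfl
theorem wc1103 : allBelow (fun k => fw (Nat.add 25369 k)) 23 = true := by decide +kernel
theorem wu1103 : ∀ i, i < 25392 → fw i = true := below_step fw 25369 23 25392 wu1102 wc1103 rfl
theorem wc1104 : allBelow (fun k => fw (Nat.add 25392 k)) 23 = true := by decide +kernel
theorem wu1104 : ∀ i, i < 25415 → fw i = true := below_step fw 25392 23 25415 wu1103 wc1104 rfl
theorem wc1105 : allBelow (fun k => fw (Nat.add 25415 k)) 23 = true := by decide +kernel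
theorem wu1105 : ∀ i, i < 25438 → fw i = true := below_step fw 25415 23 25438 wu1104 wc1105 rfl
theorem wc1106 : allBelow (fun k => fw (Nat.add 25438 k)) 23 = true := by decide +kernel
theorem wu1106 : ∀ i, i < 25461 → fw i = true := below_step fw 25438 23 25461 wu1105 wc1106 rfl
theorem wc1107 : allBelow (fun k => fw (Nat.add 25461 k)) 23 = true := by decide +kernel
theorem wu1107 : ∀ i, i < 25484 → fw i = true := below_step fw 25461 23 25484 wu1106 wc1107 rfl
theorem wc1108 : allBelow (fun k => fw (Nat.add 25484 k)) 23 = true := by decide +kernel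
theorem wu1108 : ∀ i, i < 25507 → fw i = true := below_step fw 25484 23 25507 wu1107 wc1108 rfl
theorem wc1109 : allBelow (fun k => fw (Nat.add 25507 k)) 23 = true := by decide +kernel
theorem wu1109 : ∀ i, i < 25530 → fw i = true := below_step fw 25507 23 25530 wu1108 wc1109 rfl
theorem wc1110 : allBelow (fun k => fw (Nat.add 25530 k)) 23 = true := by decide +kernel
theorem wu1110 : ∀ i, i < 25553 → fw i = true := below_step fw 25530 23 25553 wu1109 wc1110 rfl
theorem wc1111 : allBelow (fun k => fw (Nat.add 25553 k)) 23 = true := by decide +kernel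
theorem wu1111 : ∀ i, i < 25576 → fw i = true := below_step fw 25553 23 25576 wu1110 wc1111 rfl
theorem wc1112 : allBelow (fun k => fw (Nat.add 25576 k)) 23 = true := by decide +kernel
theorem wu1112 : ∀ i, i < 25599 → fw i = true := below_step fw 25576 23 25599 wu1111 wc1112 rfl
theorem wc1113 : allBelow (fun k => fw (Nat.add 25599 k)) 23 = true := by decide +kernel
theorem wu1113 : ∀ i, i < 25622 → fw i = true := below_step fw 25599 23 25622 wu1112 wc1113 rfl
theorem wc1114 : allBelow (fun k => fw (Nat.add 25622 k)) 23 = true := by decide +kernel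
theorem wu1114 : ∀ i, i < 25645 → fw i = true := below_step fw 25622 23 25645 wu1113 wc1114 rfl
theorem wc1115 : allBelow (fun k => fw (Nat.add 25645 k)) 23 = true := by decide +kernel
theorem wu1115 : ∀ i, i < 25668 → fw i = true := below_step fw 25645 23 25668 wu1114 wc1115 rfl
theorem wc1116 : allBelow (fun k => fw (Nat.add 25668 k)) 23 = true := by decide +kernel
theorem wu1116 : ∀ i, i < 25691 → fw i = true := below_step fw 25668 23 25691 wu1115 wc1116 rfl
theorem wc1117 : allBelow (fun k => fw (Nat.add 25691 k)) 23 = true := by decide +kernel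
theorem wu1117 : ∀ i, i < 25714 → fw i = true := below_step fw 25691 23 25714 wu1116 wc1117 rfl
theorem wc1118 : allBelow (fun k => fw (Nat.add 25714 k)) 23 = true := by decide +kernel
theorem wu1118 : ∀ i, i < 25737 → fw i = true := below_step fw 25714 23 25737 wu1117 wc1118 rfl
theorem wc1119 : allBelow (fun k => fw (Nat.add 25737 k)) 23 = true := by decide +kernel
theorem wu1119 : ∀ i, i < 25760 → fw i = true := below_step fw 25737 23 25760 wu1118 wc1119 rfl
theorem wc1120 : allBelow (fun k => fw (Nat.add 25760 k)) 23 = true := by decide +kernel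
theorem wu1120 : ∀ i, i < 25783 → fw i = true := below_step fw 25760 23 25783 wu1119 wc1120 rfl
theorem wc1121 : allBelow (fun k => fw (Nat.add 25783 k)) 23 = true := by decide +kernel
theorem wu1121 : ∀ i, i < 25806 → fw i = true := below_step fw 25783 23 25806 wu1120 wc1121 rfl
theorem wc1122 : allBelow (fun k => fw (Nat.add 25806 k)) 23 = true := by decide +kernel
theorem wu1122 : ∀ i, i < 25829 → fw i = true := below_step fw 25806 23 25829 wu1121 wc1122 rfl
theorem wc1123 : allBelow (fun k => fw (Nat.add 25829 k)) 23 = true := by decide +kernel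
theorem wu1123 : ∀ i, i < 25852 → fw i = true := below_step fw 25829 23 25852 wu1122 wc1123 rfl
theorem wc1124 : allBelow (fun k => fw (Nat.add 25852 k)) 23 = true := by decide +kernel
theorem wu1124 : ∀ i, i < 25875 → fw i = true := below_step fw 25852 23 25875 wu1123 wc1124 rfl
theorem wc1125 : allBelow (fun k => fw (Nat.add 25875 k)) 23 = true := by decide +kernel
theorem wu1125 : ∀ i, i < 25898 → fw i = true := below_step fw 25875 23 25898 wu1124 wc1125 rfl
theorem wc1126 : allBelow (fun k => fw (Nat.add 25898 k)) 23 = true := by decide +kernel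
theorem wu1126 : ∀ i, i < 25921 → fw i = true := below_step fw 25898 23 25921 wu1125 wc1126 rfl
theorem wc1127 : allBelow (fun k => fw (Nat.add 25921 k)) 23 = true := by decide +kernel
theorem wu1127 : ∀ i, i < 25944 → fw i = true := below_step fw 25921 23 25944 wu1126 wc1127 rfl
theorem wc1128 : allBelow (fun k => fw (Nat.add 25944 k)) 23 = true := by decide +kernel
theorem wu1128 : ∀ i, i < 25967 → fw i = true := below_step fw 25944 23 25967 wu1127 wc1128 rfl
theorem wc1129 : allBelow (fun k => fw (Nat.add 25967 k)) 23 = true := by decide +kernel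
theorem wu1129 : ∀ i, i < 25990 → fw i = true := below_step fw 25967 23 25990 wu1128 wc1129 rfl
theorem wc1130 : allBelow (fun k => fw (Nat.add 25990 k)) 23 = true := by decide +kernel
theorem wu1130 : ∀ i, i < 26013 → fw i = true := below_step fw 25990 23 26013 wu1129 wc1130 rfl
theorem wc1131 : allBelow (fun k => fw (Nat.add 26013 k)) 23 = true := by decide +kernel
theorem wu1131 : ∀ i, i < 26036 → fw i = true := below_step fw 26013 23 26036 wu1130 wc1131 rfl
theorem wc1132 : allBelow (fun k => fw (Nat.add 26036 k)) 23 = true := by decide +kernel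
theorem wu1132 : ∀ i, i < 26059 → fw i = true := below_step fw 26036 23 26059 wu1131 wc1132 rfl
theorem wc1133 : allBelow (fun k => fw (Nat.add 26059 k)) 23 = true := by decide +kernel
theorem wu1133 : ∀ i, i < 26082 → fw i = true := below_step fw 26059 23 26082 wu1132 wc1133 rfl
theorem wc1134 : allBelow (fun k => fw (Nat.add 26082 k)) 23 = true := by decide +kernel
theorem wu1134 : ∀ i, i < 26105 → fw i = true := below_step fw 26082 23 26105 wu1133 wc1134 rfl
theorem wc1135 : allBelow (fun k => fw (Nat.add 26105 k)) 23 = true := by decide +kernel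
theorem wu1135 : ∀ i, i < 26128 → fw i = true := below_step fw 26105 23 26128 wu1134 wc1135 rfl
theorem wc1136 : allBelow (fun k => fw (Nat.add 26128 k)) 23 = true := by decide +kernel
theorem wu1136 : ∀ i, i < 26151 → fw i = true := below_step fw 26128 23 26151 wu1135 wc1136 rfl
theorem wc1137 : allBelow (fun k => fw (Nat.add 26151 k)) 23 = true := by decide +kernel
theorem wu1137 : ∀ i, i < 26174 → fw i = true := below_step fw 26151 23 26174 wu1136 wc1137 rfl
theorem wc1138 : allBelow (fun k => fw (Nat.add 26174 k)) 23 = true := by decide +kernel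
theorem wu1138 : ∀ i, i < 26197 → fw i = true := below_step fw 26174 23 26197 wu1137 wc1138 rfl
theorem wc1139 : allBelow (fun k => fw (Nat.add 26197 k)) 23 = true := by decide +kernel
theorem wu1139 : ∀ i, i < 26220 → fw i = true := below_step fw 26197 23 26220 wu1138 wc1139 rfl
theorem wc1140 : allBelow (fun k => fw (Nat.add 26220 k)) 23 = true := by decide +kernel
theorem wu1140 : ∀ i, i < 26243 → fw i = true := below_step fw 26220 23 26243 wu1139 wc1140 rfl
theorem wc1141 : allBelow (fun k => fw (Nat.add 26243 k)) 23 = true := by decide +kernel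
theorem wu1141 : ∀ i, i < 26266 → fw i = true := below_step fw 26243 23 26266 wu1140 wc1141 rfl
theorem wc1142 : allBelow (fun k => fw (Nat.add 26266 k)) 23 = true := by decide +kernel
theorem wu1142 : ∀ i, i < 26289 → fw i = true := below_step fw 26266 23 26289 wu1141 wc1142 rfl
theorem wc1143 : allBelow (fun k => fw (Nat.add 26289 k)) 23 = true := by decide +kernel
theorem wu1143 : ∀ i, i < 26312 → fw i = true := below_step fw 26289 23 26312 wu1142 wc1143 rfl
theorem wc1144 : allBelow (fun k => fw (Nat.add 26312 k)) 23 = true := by decide +kernel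
theorem wu1144 : ∀ i, i < 26335 → fw i = true := below_step fw 26312 23 26335 wu1143 wc1144 rfl
theorem wc1145 : allBelow (fun k => fw (Nat.add 26335 k)) 23 = true := by decide +kernel
theorem wu1145 : ∀ i, i < 26358 → fw i = true := below_step fw 26335 23 26358 wu1144 wc1145 rfl
theorem wc1146 : allBelow (fun k => fw (Nat.add 26358 k)) 23 = true := by decide +kernel
theorem wu1146 : ∀ i, i < 26381 → fw i = true := below_step fw 26358 23 26381 wu1145 wc1146 rfl
theorem wc1147 : allBelow (fun k => fw (Nat.add 26381 k)) 23 = true := by decide +kernel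
theorem wu1147 : ∀ i, i < 26404 → fw i = true := below_step fw 26381 23 26404 wu1146 wc1147 rfl
theorem wc1148 : allBelow (fun k => fw (Nat.add 26404 k)) 23 = true := by decide +kernel
theorem wu1148 : ∀ i, i < 26427 → fw i = true := below_step fw 26404 23 26427 wu1147 wc1148 rfl
theorem wc1149 : allBelow (fun k => fw (Nat.add 26427 k)) 23 = true := by decide +kernel
theorem wu1149 : ∀ i, i < 26450 → fw i = true := below_step fw 26427 23 26450 wu1148 wc1149 rfl
theorem wc1150 : allBelow (fun k => fw (Nat.add 26450 k)) 23 = true := by decide +kernel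
theorem wu1150 : ∀ i, i < 26473 → fw i = true := below_step fw 26450 23 26473 wu1149 wc1150 rfl
theorem wc1151 : allBelow (fun k => fw (Nat.add 26473 k)) 23 = true := by decide +kernel
theorem wu1151 : ∀ i, i < 26496 → fw i = true := below_step fw 26473 23 26496 wu1150 wc1151 rfl
theorem wc1152 : allBelow (fun k => fw (Nat.add 26496 k)) 23 = true := by decide +kernel
theorem wu1152 : ∀ i, i < 26519 → fw i = true := below_step fw 26496 23 26519 wu1151 wc1152 rfl
theorem wc1153 : allBelow (fun k => fw (Nat.add 26519 k)) 23 = true := by decide +kernel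
theorem wu1153 : ∀ i, i < 26542 → fw i = true := below_step fw 26519 23 26542 wu1152 wc1153 rfl
theorem wc1154 : allBelow (fun k => fw (Nat.add 26542 k)) 23 = true := by decide +kernel
theorem wu1154 : ∀ i, i < 26565 → fw i = true := below_step fw 26542 23 26565 wu1153 wc1154 rfl
theorem wc1155 : allBelow (fun k => fw (Nat.add 26565 k)) 23 = true := by decide +kernel
theorem wu1155 : ∀ i, i < 26588 → fw i = true := below_step fw 26565 23 26588 wu1154 wc1155 rfl
theorem wc1156 : allBelow (fun k => fw (Nat.add 26588 k)) 23 = true := by decide +kernel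
theorem wu1156 : ∀ i, i < 26611 → fw i = true := below_step fw 26588 23 26611 wu1155 wc1156 rfl
theorem wc1157 : allBelow (fun k => fw (Nat.add 26611 k)) 23 = true := by decide +kernel
theorem wu1157 : ∀ i, i < 26634 → fw i = true := below_step fw 26611 23 26634 wu1156 wc1157 rfl
theorem wc1158 : allBelow (fun k => fw (Nat.add 26634 k)) 23 = true := by decide +kernel
theorem wu1158 : ∀ i, i < 26657 → fw i = true := below_step fw 26634 23 26657 wu1157 wc1158 rfl
theorem wc1159 : allBelow (fun k => fw (Nat.add 26657 k)) 23 = true := by decide +kernel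
theorem wu1159 : ∀ i, i < 26680 → fw i = true := below_step fw 26657 23 26680 wu1158 wc1159 rfl
theorem wc1160 : allBelow (fun k => fw (Nat.add 26680 k)) 23 = true := by decide +kernel
theorem wu1160 : ∀ i, i < 26703 → fw i = true := below_step fw 26680 23 26703 wu1159 wc1160 rfl
theorem wc1161 : allBelow (fun k => fw (Nat.add 26703 k)) 23 = true := by decide +kernel
theorem wu1161 : ∀ i, i < 26726 → fw i = true := below_step fw 26703 23 26726 wu1160 wc1161 rfl
theorem wc1162 : allBelow (fun k => fw (Nat.add 26726 k)) 23 = true := by decide +kernel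
theorem wu1162 : ∀ i, i < 26749 → fw i = true := below_step fw 26726 23 26749 wu1161 wc1162 rfl
theorem wc1163 : allBelow (fun k => fw (Nat.add 26749 k)) 23 = true := by decide +kernel
theorem wu1163 : ∀ i, i < 26772 → fw i = true := below_step fw 26749 23 26772 wu1162 wc1163 rfl
theorem wc1164 : allBelow (fun k => fw (Nat.add 26772 k)) 23 = true := by decide +kernel
theorem wu1164 : ∀ i, i < 26795 → fw i = true := below_step fw 26772 23 26795 wu1163 wc1164 rfl
theorem wc1165 : allBelow (fun k => fw (Nat.add 26795 k)) 23 = true := by decide +kernel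
theorem wu1165 : ∀ i, i < 26818 → fw i = true := below_step fw 26795 23 26818 wu1164 wc1165 rfl
theorem wc1166 : allBelow (fun k => fw (Nat.add 26818 k)) 23 = true := by decide +kernel
theorem wu1166 : ∀ i, i < 26841 → fw i = true := below_step fw 26818 23 26841 wu1165 wc1166 rfl
theorem wc1167 : allBelow (fun k => fw (Nat.add 26841 k)) 23 = true := by decide +kernel
theorem wu1167 : ∀ i, i < 26864 → fw i = true := below_step fw 26841 23 26864 wu1166 wc1167 rfl
theorem wc1168 : allBelow (fun k => fw (Nat.add 26864 k)) 23 = true := by decide +kernel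
theorem wu1168 : ∀ i, i < 26887 → fw i = true := below_step fw 26864 23 26887 wu1167 wc1168 rfl
theorem wc1169 : allBelow (fun k => fw (Nat.add 26887 k)) 23 = true := by decide +kernel
theorem wu1169 : ∀ i, i < 26910 → fw i = true := below_step fw 26887 23 26910 wu1168 wc1169 rfl
theorem wc1170 : allBelow (fun k => fw (Nat.add 26910 k)) 23 = true := by decide +kernel
theorem wu1170 : ∀ i, i < 26933 → fw i = true := below_step fw 26910 23 26933 wu1169 wc1170 rfl
theorem wc1171 : allBelow (fun k => fw (Nat.add 26933 k)) 23 = true := by decide +kernel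
theorem wu1171 : ∀ i, i < 26956 → fw i = true := below_step fw 26933 23 26956 wu1170 wc1171 rfl
theorem wc1172 : allBelow (fun k => fw (Nat.add 26956 k)) 23 = true := by decide +kernel
theorem wu1172 : ∀ i, i < 26979 → fw i = true := below_step fw 26956 23 26979 wu1171 wc1172 rfl
theorem wc1173 : allBelow (fun k => fw (Nat.add 26979 k)) 23 = true := by decide +kernel
theorem wu1173 : ∀ i, i < 27002 → fw i = true := below_step fw 26979 23 27002 wu1172 wc1173 rfl
theorem wc1174 : allBelow (fun k => fw (Nat.add 27002 k)) 23 = true := by decide +kernel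
theorem wu1174 : ∀ i, i < 27025 → fw i = true := below_step fw 27002 23 27025 wu1173 wc1174 rfl
theorem wc1175 : allBelow (fun k => fw (Nat.add 27025 k)) 23 = true := by decide +kernel
theorem wu1175 : ∀ i, i < 27048 → fw i = true := below_step fw 27025 23 27048 wu1174 wc1175 rfl
theorem wc1176 : allBelow (fun k => fw (Nat.add 27048 k)) 23 = true := by decide +kernel
theorem wu1176 : ∀ i, i < 27071 → fw i = true := below_step fw 27048 23 27071 wu1175 wc1176 rfl
theorem wc1177 : allBelow (fun k => fw (Nat.add 27071 k)) 23 = true := by decide +kernel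
theorem wu1177 : ∀ i, i < 27094 → fw i = true := below_step fw 27071 23 27094 wu1176 wc1177 rfl
theorem wc1178 : allBelow (fun k => fw (Nat.add 27094 k)) 23 = true := by decide +kernel
theorem wu1178 : ∀ i, i < 27117 → fw i = true := below_step fw 27094 23 27117 wu1177 wc1178 rfl
theorem wc1179 : allBelow (fun k => fw (Nat.add 27117 k)) 23 = true := by decide +kernel
theorem wu1179 : ∀ i, i < 27140 → fw i = true := below_step fw 27117 23 27140 wu1178 wc1179 rfl
theorem wc1180 : allBelow (fun k => fw (Nat.add 27140 k)) 23 = true := by decide +kernel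
theorem wu1180 : ∀ i, i < 27163 → fw i = true := below_step fw 27140 23 27163 wu1179 wc1180 rfl
theorem wc1181 : allBelow (fun k => fw (Nat.add 27163 k)) 23 = true := by decide +kernel
theorem wu1181 : ∀ i, i < 27186 → fw i = true := below_step fw 27163 23 27186 wu1180 wc1181 rfl
theorem wc1182 : allBelow (fun k => fw (Nat.add 27186 k)) 23 = true := by decide +kernel
theorem wu1182 : ∀ i, i < 27209 → fw i = true := below_step fw 27186 23 27209 wu1181 wc1182 rfl
theorem wc1183 : allBelow (fun k => fw (Nat.add 27209 k)) 23 = true := by decide +kernel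
theorem wu1183 : ∀ i, i < 27232 → fw i = true := below_step fw 27209 23 27232 wu1182 wc1183 rfl
theorem wc1184 : allBelow (fun k => fw (Nat.add 27232 k)) 23 = true := by decide +kernel
theorem wu1184 : ∀ i, i < 27255 → fw i = true := below_step fw 27232 23 27255 wu1183 wc1184 rfl
theorem wc1185 : allBelow (fun k => fw (Nat.add 27255 k)) 23 = true := by decide +kernel
theorem wu1185 : ∀ i, i < 27278 → fw i = true := below_step fw 27255 23 27278 wu1184 wc1185 rfl
theorem wc1186 : allBelow (fun k => fw (Nat.add 27278 k)) 23 = true := by decide +kernel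
theorem wu1186 : ∀ i, i < 27301 → fw i = true := below_step fw 27278 23 27301 wu1185 wc1186 rfl
theorem wc1187 : allBelow (fun k => fw (Nat.add 27301 k)) 23 = true := by decide +kernel
theorem wu1187 : ∀ i, i < 27324 → fw i = true := below_step fw 27301 23 27324 wu1186 wc1187 rfl
theorem wc1188 : allBelow (fun k => fw (Nat.add 27324 k)) 23 = true := by decide +kernel
theorem wu1188 : ∀ i, i < 27347 → fw i = true := below_step fw 27324 23 27347 wu1187 wc1188 rfl
theorem wc1189 : allBelow (fun k => fw (Nat.add 27347 k)) 23 = true := by decide +kernel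
theorem wu1189 : ∀ i, i < 27370 → fw i = true := below_step fw 27347 23 27370 wu1188 wc1189 rfl
theorem wc1190 : allBelow (fun k => fw (Nat.add 27370 k)) 23 = true := by decide +kernel
theorem wu1190 : ∀ i, i < 27393 → fw i = true := below_step fw 27370 23 27393 wu1189 wc1190 rfl
theorem wc1191 : allBelow (fun k => fw (Nat.add 27393 k)) 23 = true := by decide +kernel
theorem wu1191 : ∀ i, i < 27416 → fw i = true := below_step fw 27393 23 27416 wu1190 wc1191 rfl
theorem wc1192 : allBelow (fun k => fw (Nat.add 27416 k)) 23 = true := by decide +kernel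
theorem wu1192 : ∀ i, i < 27439 → fw i = true := below_step fw 27416 23 27439 wu1191 wc1192 rfl
theorem wc1193 : allBelow (fun k => fw (Nat.add 27439 k)) 23 = true := by decide +kernel
theorem wu1193 : ∀ i, i < 27462 → fw i = true := below_step fw 27439 23 27462 wu1192 wc1193 rfl
theorem wc1194 : allBelow (fun k => fw (Nat.add 27462 k)) 23 = true := by decide +kernel
theorem wu1194 : ∀ i, i < 27485 → fw i = true := below_step fw 27462 23 27485 wu1193 wc1194 rfl
theorem wc1195 : allBelow (fun k => fw (Nat.add 27485 k)) 23 = true := by decide +kernel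
theorem wu1195 : ∀ i, i < 27508 → fw i = true := below_step fw 27485 23 27508 wu1194 wc1195 rfl
theorem wc1196 : allBelow (fun k => fw (Nat.add 27508 k)) 23 = true := by decide +kernel
theorem wu1196 : ∀ i, i < 27531 → fw i = true := below_step fw 27508 23 27531 wu1195 wc1196 rfl
theorem wc1197 : allBelow (fun k => fw (Nat.add 27531 k)) 23 = true := by decide +kernel
theorem wu1197 : ∀ i, i < 27554 → fw i = true := below_step fw 27531 23 27554 wu1196 wc1197 rfl
theorem wc1198 : allBelow (fun k => fw (Nat.add 27554 k)) 23 = true := by decide +kernel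
theorem wu1198 : ∀ i, i < 27577 → fw i = true := below_step fw 27554 23 27577 wu1197 wc1198 rfl
theorem wc1199 : allBelow (fun k => fw (Nat.add 27577 k)) 23 = true := by decide +kernel
theorem wu1199 : ∀ i, i < 27600 → fw i = true := below_step fw 27577 23 27600 wu1198 wc1199 rfl
theorem wc1200 : allBelow (fun k => fw (Nat.add 27600 k)) 23 = true := by decide +kernel
theorem wu1200 : ∀ i, i < 27623 → fw i = true := below_step fw 27600 23 27623 wu1199 wc1200 rfl
theorem wc1201 : allBelow (fun k => fw (Nat.add 27623 k)) 23 = true := by decide +kernel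
theorem wu1201 : ∀ i, i < 27646 → fw i = true := below_step fw 27623 23 27646 wu1200 wc1201 rfl
theorem wc1202 : allBelow (fun k => fw (Nat.add 27646 k)) 23 = true := by decide +kernel
theorem wu1202 : ∀ i, i < 27669 → fw i = true := below_step fw 27646 23 27669 wu1201 wc1202 rfl
theorem wc1203 : allBelow (fun k => fw (Nat.add 27669 k)) 23 = true := by decide +kernel
theorem wu1203 : ∀ i, i < 27692 → fw i = true := below_step fw 27669 23 27692 wu1202 wc1203 rfl
theorem wc1204 : allBelow (fun k => fw (Nat.add 27692 k)) 23 = true := by decide +kernel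
theorem wu1204 : ∀ i, i < 27715 → fw i = true := below_step fw 27692 23 27715 wu1203 wc1204 rfl
theorem wc1205 : allBelow (fun k => fw (Nat.add 27715 k)) 23 = true := by decide +kernel
theorem wu1205 : ∀ i, i < 27738 → fw i = true := below_step fw 27715 23 27738 wu1204 wc1205 rfl
theorem wc1206 : allBelow (fun k => fw (Nat.add 27738 k)) 23 = true := by decide +kernel
theorem wu1206 : ∀ i, i < 27761 → fw i = true := below_step fw 27738 23 27761 wu1205 wc1206 rfl
theorem wc1207 : allBelow (fun k => fw (Nat.add 27761 k)) 23 = true := by decide +kernel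
theorem wu1207 : ∀ i, i < 27784 → fw i = true := below_step fw 27761 23 27784 wu1206 wc1207 rfl
theorem wc1208 : allBelow (fun k => fw (Nat.add 27784 k)) 23 = true := by decide +kernel
theorem wu1208 : ∀ i, i < 27807 → fw i = true := below_step fw 27784 23 27807 wu1207 wc1208 rfl
theorem wc1209 : allBelow (fun k => fw (Nat.add 27807 k)) 23 = true := by decide +kernel
theorem wu1209 : ∀ i, i < 27830 → fw i = true := below_step fw 27807 23 27830 wu1208 wc1209 rfl
theorem wc1210 : allBelow (fun k => fw (Nat.add 27830 k)) 23 = true := by decide +kernel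
theorem wu1210 : ∀ i, i < 27853 → fw i = true := below_step fw 27830 23 27853 wu1209 wc1210 rfl
theorem wc1211 : allBelow (fun k => fw (Nat.add 27853 k)) 23 = true := by decide +kernel
theorem wu1211 : ∀ i, i < 27876 → fw i = true := below_step fw 27853 23 27876 wu1210 wc1211 rfl
theorem wc1212 : allBelow (fun k => fw (Nat.add 27876 k)) 23 = true := by decide +kernel
theorem wu1212 : ∀ i, i < 27899 → fw i = true := below_step fw 27876 23 27899 wu1211 wc1212 rfl
theorem wc1213 : allBelow (fun k => fw (Nat.add 27899 k)) 23 = true := by decide +kernel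
theorem wu1213 : ∀ i, i < 27922 → fw i = true := below_step fw 27899 23 27922 wu1212 wc1213 rfl
theorem wc1214 : allBelow (fun k => fw (Nat.add 27922 k)) 23 = true := by decide +kernel
theorem wu1214 : ∀ i, i < 27945 → fw i = true := below_step fw 27922 23 27945 wu1213 wc1214 rfl
theorem wc1215 : allBelow (fun k => fw (Nat.add 27945 k)) 23 = true := by decide +kernel
theorem wu1215 : ∀ i, i < 27968 → fw i = true := below_step fw 27945 23 27968 wu1214 wc1215 rfl
theorem wc1216 : allBelow (fun k => fw (Nat.add 27968 k)) 23 = true := by decide +kernel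
theorem wu1216 : ∀ i, i < 27991 → fw i = true := below_step fw 27968 23 27991 wu1215 wc1216 rfl
theorem wc1217 : allBelow (fun k => fw (Nat.add 27991 k)) 23 = true := by decide +kernel
theorem wu1217 : ∀ i, i < 28014 → fw i = true := below_step fw 27991 23 28014 wu1216 wc1217 rfl
theorem wc1218 : allBelow (fun k => fw (Nat.add 28014 k)) 23 = true := by decide +kernel
theorem wu1218 : ∀ i, i < 28037 → fw i = true := below_step fw 28014 23 28037 wu1217 wc1218 rfl
theorem wc1219 : allBelow (fun k => fw (Nat.add 28037 k)) 23 = true := by decide +kernel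
theorem wu1219 : ∀ i, i < 28060 → fw i = true := below_step fw 28037 23 28060 wu1218 wc1219 rfl
theorem wc1220 : allBelow (fun k => fw (Nat.add 28060 k)) 23 = true := by decide +kernel
theorem wu1220 : ∀ i, i < 28083 → fw i = true := below_step fw 28060 23 28083 wu1219 wc1220 rfl
theorem wc1221 : allBelow (fun k => fw (Nat.add 28083 k)) 23 = true := by decide +kernel
theorem wu1221 : ∀ i, i < 28106 → fw i = true := below_step fw 28083 23 28106 wu1220 wc1221 rfl
theorem wc1222 : allBelow (fun k => fw (Nat.add 28106 k)) 23 = true := by decide +kernel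
theorem wu1222 : ∀ i, i < 28129 → fw i = true := below_step fw 28106 23 28129 wu1221 wc1222 rfl
theorem wc1223 : allBelow (fun k => fw (Nat.add 28129 k)) 23 = true := by decide +kernel
theorem wu1223 : ∀ i, i < 28152 → fw i = true := below_step fw 28129 23 28152 wu1222 wc1223 rfl
theorem wc1224 : allBelow (fun k => fw (Nat.add 28152 k)) 23 = true := by decide +kernel
theorem wu1224 : ∀ i, i < 28175 → fw i = true := below_step fw 28152 23 28175 wu1223 wc1224 rfl

end Cfsg.Agent.Lib.Helper35.Fi23Tr.X
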