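import Cfsg.Agent.Lib.Helper35.Fi23Tr.X.Chk4

set_option Elab.async false

namespace Cfsg.Agent.Lib.Helper35.Fi23Tr.X

open Cfsg.Agent.Lib.Helper35

theorem wc1225 : allBelow (fun k => fw (Nat.add 28175 k)) 23 = true := by decide +kernel
theorem wu1225 : ∀ i, i < 28198 → fw i = true := below_step fw 28175 23 28198 wu1224 wc1225 rfl
theorem wc1226 : allBelow (fun k => fw (Nat.add 28198 k)) 23 = true := by decide +kernel
theorem wu1226 : ∀ i, i < 28221 → fw i = true := below_step fw 28198 23 28221 wu1225 wc1226 rfl
theorem wc1227 : allBelow (fun k => fw (Nat.add 28221 k)) 23 = true := by decide +kernel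
theorem wu1227 : ∀ i, i < 28244 → fw i = true := below_step fw 28221 23 28244 wu1226 wc1227 rfl
theorem wc1228 : allBelow (fun k => fw (Nat.add 28244 k)) 23 = true := by decide +kernel
theorem wu1228 : ∀ i, i < 28267 → fw i = true := below_step fw 28244 23 28267 wu1227 wc1228 rfl
theorem wc1229 : allBelow (fun k => fw (Nat.add 28267 k)) 23 = true := by decide +kernel
theorem wu1229 : ∀ i, i < 28290 → fw i = true := below_step fw 28267 23 28290 wu1228 wc1229 rfl
theorem wc1230 : allBelow (fun k => fw (Nat.add 28290 k)) 23 = true := by decide +kernel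
theorem wu1230 : ∀ i, i < 28313 → fw i = true := below_step fw 28290 23 28313 wu1229 wc1230 rfl
theorem wc1231 : allBelow (fun k => fw (Nat.add 28313 k)) 23 = true := by decide +kernel
theorem wu1231 : ∀ i, i < 28336 → fw i = true := below_step fw 28313 23 28336 wu1230 wc1231 rfl
theorem wc1232 : allBelow (fun k => fw (Nat.add 28336 k)) 23 = true := by decide +kernel
theorem wu1232 : ∀ i, i < 28359 → fw i = true := below_step fw 28336 23 28359 wu1231 wc1232 rfl
theorem wc1233 : allBelow (fun k => fw (Nat.add 28359 k)) 23 = true := by decide +kernel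
theorem wu1233 : ∀ i, i < 28382 → fw i = true := below_step fw 28359 23 28382 wu1232 wc1233 rfl
theorem wc1234 : allBelow (fun k => fw (Nat.add 28382 k)) 23 = true := by decide +kernel
theorem wu1234 : ∀ i, i < 28405 → fw i = true := below_step fw 28382 23 28405 wu1233 wc1234 rfl
theorem wc1235 : allBelow (fun k => fw (Nat.add 28405 k)) 23 = true := by decide +kernel
theorem wu1235 : ∀ i, i < 28428 → fw i = true := below_step fw 28405 23 28428 wu1234 wc1235 rfl
theorem wc1236 : allBelow (fun k => fw (Nat.add 28428 k)) 23 = true := by decide +kernel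
theorem wu1236 : ∀ i, i < 28451 → fw i = true := below_step fw 28428 23 28451 wu1235 wc1236 rfl
theorem wc1237 : allBelow (fun k => fw (Nat.add 28451 k)) 23 = true := by decide +kernel
theorem wu1237 : ∀ i, i < 28474 → fw i = true := below_step fw 28451 23 28474 wu1236 wc1237 rfl
theorem wc1238 : allBelow (fun k => fw (Nat.add 28474 k)) 23 = true := by decide +kernel
theorem wu1238 : ∀ i, i < 28497 → fw i = true := below_step fw 28474 23 28497 wu1237 wc1238 rfl
theorem wc1239 : allBelow (fun k => fw (Nat.add 28497 k)) 23 = true := by decide +kernel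
theorem wu1239 : ∀ i, i < 28520 → fw i = true := below_step fw 28497 23 28520 wu1238 wc1239 rfl
theorem wc1240 : allBelow (fun k => fw (Nat.add 28520 k)) 23 = true := by decide +kernel
theorem wu1240 : ∀ i, i < 28543 → fw i = true := below_step fw 28520 23 28543 wu1239 wc1240 rfl
theorem wc1241 : allBelow (fun k => fw (Nat.add 28543 k)) 23 = true := by decide +kernel
theorem wu1241 : ∀ i, i < 28566 → fw i = true := below_step fw 28543 23 28566 wu1240 wc1241 rfl
theorem wc1242 : allBelow (fun k => fw (Nat.add 28566 k)) 23 = true := by decide +kernel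
theorem wu1242 : ∀ i, i < 28589 → fw i = true := below_step fw 28566 23 28589 wu1241 wc1242 rfl
theorem wc1243 : allBelow (fun k => fw (Nat.add 28589 k)) 23 = true := by decide +kernel
theorem wu1243 : ∀ i, i < 28612 → fw i = true := below_step fw 28589 23 28612 wu1242 wc1243 rfl
theorem wc1244 : allBelow (fun k => fw (Nat.add 28612 k)) 23 = true := by decide +kernel
theorem wu1244 : ∀ i, i < 28635 → fw i = true := below_step fw 28612 23 28635 wu1243 wc1244 rfl
theorem wc1245 : allBelow (fun k => fw (Nat.add 28635 k)) 23 = true := by decide +kernel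
theorem wu1245 : ∀ i, i < 28658 → fw i = true := below_step fw 28635 23 28658 wu1244 wc1245 rfl
theorem wc1246 : allBelow (fun k => fw (Nat.add 28658 k)) 23 = true := by decide +kernel
theorem wu1246 : ∀ i, i < 28681 → fw i = true := below_step fw 28658 23 28681 wu1245 wc1246 rfl
theorem wc1247 : allBelow (fun k => fw (Nat.add 28681 k)) 23 = true := by decide +kernel
theorem wu1247 : ∀ i, i < 28704 → fw i = true := below_step fw 28681 23 28704 wu1246 wc1247 rfl
theorem wc1248 : allBelow (fun k => fw (Nat.add 28704 k)) 23 = true := by decide +kernel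
theorem wu1248 : ∀ i, i < 28727 → fw i = true := below_step fw 28704 23 28727 wu1247 wc1248 rfl
theorem wc1249 : allBelow (fun k => fw (Nat.add 28727 k)) 23 = true := by decide +kernel
theorem wu1249 : ∀ i, i < 28750 → fw i = true := below_step fw 28727 23 28750 wu1248 wc1249 rfl
theorem wc1250 : allBelow (fun k => fw (Nat.add 28750 k)) 23 = true := by decide +kernel
theorem wu1250 : ∀ i, i < 28773 → fw i = true := below_step fw 28750 23 28773 wu1249 wc1250 rfl
theorem wc1251 : allBelow (fun k => fw (Nat.add 28773 k)) 23 = true := by decide +kernel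
theorem wu1251 : ∀ i, i < 28796 → fw i = true := below_step fw 28773 23 28796 wu1250 wc1251 rfl
theorem wc1252 : allBelow (fun k => fw (Nat.add 28796 k)) 23 = true := by decide +kernel
theorem wu1252 : ∀ i, i < 28819 → fw i = true := below_step fw 28796 23 28819 wu1251 wc1252 rfl
theorem wc1253 : allBelow (fun k => fw (Nat.add 28819 k)) 23 = true := by decide +kernel
theorem wu1253 : ∀ i, i < 28842 → fw i = true := below_step fw 28819 23 28842 wu1252 wc1253 rfl
theorem wc1254 : allBelow (fun k => fw (Nat.add 28842 k)) 23 = true := by decide +kernel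
theorem wu1254 : ∀ i, i < 28865 → fw i = true := below_step fw 28842 23 28865 wu1253 wc1254 rfl
theorem wc1255 : allBelow (fun k => fw (Nat.add 28865 k)) 23 = true := by decide +kernel
theorem wu1255 : ∀ i, i < 28888 → fw i = true := below_step fw 28865 23 28888 wu1254 wc1255 rfl
theorem wc1256 : allBelow (fun k => fw (Nat.add 28888 k)) 23 = true := by decide +kernel
theorem wu1256 : ∀ i, i < 28911 → fw i = true := below_step fw 28888 23 28911 wu1255 wc1256 rfl
theorem wc1257 : allBelow (fun k => fw (Nat.add 28911 k)) 23 = true := by decide +kernel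
theorem wu1257 : ∀ i, i < 28934 → fw i = true := below_step fw 28911 23 28934 wu1256 wc1257 rfl
theorem wc1258 : allBelow (fun k => fw (Nat.add 28934 k)) 23 = true := by decide +kernel
theorem wu1258 : ∀ i, i < 28957 → fw i = true := below_step fw 28934 23 28957 wu1257 wc1258 rfl
theorem wc1259 : allBelow (fun k => fw (Nat.add 28957 k)) 23 = true := by decide +kernel
theorem wu1259 : ∀ i, i < 28980 → fw i = true := below_step fw 28957 23 28980 wu1258 wc1259 rfl
theorem wc1260 : allBelow (fun k => fw (Nat.add 28980 k)) 23 = true := by decide +kernel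
theorem wu1260 : ∀ i, i < 29003 → fw i = true := below_step fw 28980 23 29003 wu1259 wc1260 rfl
theorem wc1261 : allBelow (fun k => fw (Nat.add 29003 k)) 23 = true := by decide +kernel
theorem wu1261 : ∀ i, i < 29026 → fw i = true := below_step fw 29003 23 29026 wu1260 wc1261 rfl
theorem wc1262 : allBelow (fun k => fw (Nat.add 29026 k)) 23 = true := by decide +kernel
theorem wu1262 : ∀ i, i < 29049 → fw i = true := below_step fw 29026 23 29049 wu1261 wc1262 rfl
theorem wc1263 : allBelow (fun k => fw (Nat.add 29049 k)) 23 = true := by decide +kernel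
theorem wu1263 : ∀ i, i < 29072 → fw i = true := below_step fw 29049 23 29072 wu1262 wc1263 rfl
theorem wc1264 : allBelow (fun k => fw (Nat.add 29072 k)) 23 = true := by decide +kernel
theorem wu1264 : ∀ i, i < 29095 → fw i = true := below_step fw 29072 23 29095 wu1263 wc1264 rfl
theorem wc1265 : allBelow (fun k => fw (Nat.add 29095 k)) 23 = true := by decide +kernel
theorem wu1265 : ∀ i, i < 29118 → fw i = true := below_step fw 29095 23 29118 wu1264 wc1265 rfl
theorem wc1266 : allBelow (fun k => fw (Nat.add 29118 k)) 23 = true := by decide +kernel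
theorem wu1266 : ∀ i, i < 29141 → fw i = true := below_step fw 29118 23 29141 wu1265 wc1266 rfl
theorem wc1267 : allBelow (fun k => fw (Nat.add 29141 k)) 23 = true := by decide +kernel
theorem wu1267 : ∀ i, i < 29164 → fw i = true := below_step fw 29141 23 29164 wu1266 wc1267 rfl
theorem wc1268 : allBelow (fun k => fw (Nat.add 29164 k)) 23 = true := by decide +kernel
theorem wu1268 : ∀ i, i < 29187 → fw i = true := below_step fw 29164 23 29187 wu1267 wc1268 rfl
theorem wc1269 : allBelow (fun k => fw (Nat.add 29187 k)) 23 = true := by decide +kernel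
theorem wu1269 : ∀ i, i < 29210 → fw i = true := below_step fw 29187 23 29210 wu1268 wc1269 rfl
theorem wc1270 : allBelow (fun k => fw (Nat.add 29210 k)) 23 = true := by decide +kernel
theorem wu1270 : ∀ i, i < 29233 → fw i = true := below_step fw 29210 23 29233 wu1269 wc1270 rfl
theorem wc1271 : allBelow (fun k => fw (Nat.add 29233 k)) 23 = true := by decide +kernel
theorem wu1271 : ∀ i, i < 29256 → fw i = true := below_step fw 29233 23 29256 wu1270 wc1271 rfl
theorem wc1272 : allBelow (fun k => fw (Nat.add 29256 k)) 23 = true := by decide +kernel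
theorem wu1272 : ∀ i, i < 29279 → fw i = true := below_step fw 29256 23 29279 wu1271 wc1272 rfl
theorem wc1273 : allBelow (fun k => fw (Nat.add 29279 k)) 23 = true := by decide +kernel
theorem wu1273 : ∀ i, i < 29302 → fw i = true := below_step fw 29279 23 29302 wu1272 wc1273 rfl
theorem wc1274 : allBelow (fun k => fw (Nat.add 29302 k)) 23 = true := by decide +kernel
theorem wu1274 : ∀ i, i < 29325 → fw i = true := below_step fw 29302 23 29325 wu1273 wc1274 rfl
theorem wc1275 : allBelow (fun k => fw (Nat.add 29325 k)) 23 = true := by decide +kernel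
theorem wu1275 : ∀ i, i < 29348 → fw i = true := below_step fw 29325 23 29348 wu1274 wc1275 rfl
theorem wc1276 : allBelow (fun k => fw (Nat.add 29348 k)) 23 = true := by decide +kernel
theorem wu1276 : ∀ i, i < 29371 → fw i = true := below_step fw 29348 23 29371 wu1275 wc1276 rfl
theorem wc1277 : allBelow (fun k => fw (Nat.add 29371 k)) 23 = true := by decide +kernel
theorem wu1277 : ∀ i, i < 29394 → fw i = true := below_step fw 29371 23 29394 wu1276 wc1277 rfl
theorem wc1278 : allBelow (fun k => fw (Nat.add 29394 k)) 23 = true := by decide +kernel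
theorem wu1278 : ∀ i, i < 29417 → fw i = true := below_step fw 29394 23 29417 wu1277 wc1278 rfl
theorem wc1279 : allBelow (fun k => fw (Nat.add 29417 k)) 23 = true := by decide +kernel
theorem wu1279 : ∀ i, i < 29440 → fw i = true := below_step fw 29417 23 29440 wu1278 wc1279 rfl
theorem wc1280 : allBelow (fun k => fw (Nat.add 29440 k)) 23 = true := by decide +kernel
theorem wu1280 : ∀ i, i < 29463 → fw i = true := below_step fw 29440 23 29463 wu1279 wc1280 rfl
theorem wc1281 : allBelow (fun k => fw (Nat.add 29463 k)) 23 = true := by decide +kernel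
theorem wu1281 : ∀ i, i < 29486 → fw i = true := below_step fw 29463 23 29486 wu1280 wc1281 rfl
theorem wc1282 : allBelow (fun k => fw (Nat.add 29486 k)) 23 = true := by decide +kernel
theorem wu1282 : ∀ i, i < 29509 → fw i = true := below_step fw 29486 23 29509 wu1281 wc1282 rfl
theorem wc1283 : allBelow (fun k => fw (Nat.add 29509 k)) 23 = true := by decide +kernel
theorem wu1283 : ∀ i, i < 29532 → fw i = true := below_step fw 29509 23 29532 wu1282 wc1283 rfl
theorem wc1284 : allBelow (fun k => fw (Nat.add 29532 k)) 23 = true := by decide +kernel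
theorem wu1284 : ∀ i, i < 29555 → fw i = true := below_step fw 29532 23 29555 wu1283 wc1284 rfl
theorem wc1285 : allBelow (fun k => fw (Nat.add 29555 k)) 23 = true := by decide +kernel
theorem wu1285 : ∀ i, i < 29578 → fw i = true := below_step fw 29555 23 29578 wu1284 wc1285 rfl
theorem wc1286 : allBelow (fun k => fw (Nat.add 29578 k)) 23 = true := by decide +kernel
theorem wu1286 : ∀ i, i < 29601 → fw i = true := below_step fw 29578 23 29601 wu1285 wc1286 rfl
theorem wc1287 : allBelow (fun k => fw (Nat.add 29601 k)) 23 = true := by decide +kernel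
theorem wu1287 : ∀ i, i < 29624 → fw i = true := below_step fw 29601 23 29624 wu1286 wc1287 rfl
theorem wc1288 : allBelow (fun k => fw (Nat.add 29624 k)) 23 = true := by decide +kernel
theorem wu1288 : ∀ i, i < 29647 → fw i = true := below_step fw 29624 23 29647 wu1287 wc1288 rfl
theorem wc1289 : allBelow (fun k => fw (Nat.add 29647 k)) 23 = true := by decide +kernel
theorem wu1289 : ∀ i, i < 29670 → fw i = true := below_step fw 29647 23 29670 wu1288 wc1289 rfl
theorem wc1290 : allBelow (fun k => fw (Nat.add 29670 k)) 23 = true := by decide +kernel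
theorem wu1290 : ∀ i, i < 29693 → fw i = true := below_step fw 29670 23 29693 wu1289 wc1290 rfl
theorem wc1291 : allBelow (fun k => fw (Nat.add 29693 k)) 23 = true := by decide +kernel
theorem wu1291 : ∀ i, i < 29716 → fw i = true := below_step fw 29693 23 29716 wu1290 wc1291 rfl
theorem wc1292 : allBelow (fun k => fw (Nat.add 29716 k)) 23 = true := by decide +kernel
theorem wu1292 : ∀ i, i < 29739 → fw i = true := below_step fw 29716 23 29739 wu1291 wc1292 rfl
theorem wc1293 : allBelow (fun k => fw (Nat.add 29739 k)) 23 = true := by decide +kernel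
theorem wu1293 : ∀ i, i < 29762 → fw i = true := below_step fw 29739 23 29762 wu1292 wc1293 rfl
theorem wc1294 : allBelow (fun k => fw (Nat.add 29762 k)) 23 = true := by decide +kernel
theorem wu1294 : ∀ i, i < 29785 → fw i = true := below_step fw 29762 23 29785 wu1293 wc1294 rfl
theorem wc1295 : allBelow (fun k => fw (Nat.add 29785 k)) 23 = true := by decide +kernel
theorem wu1295 : ∀ i, i < 29808 → fw i = true := below_step fw 29785 23 29808 wu1294 wc1295 rfl
theorem wc1296 : allBelow (fun k => fw (Nat.add 29808 k)) 23 = true := by decide +kernel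
theorem wu1296 : ∀ i, i < 29831 → fw i = true := below_step fw 29808 23 29831 wu1295 wc1296 rfl
theorem wc1297 : allBelow (fun k => fw (Nat.add 29831 k)) 23 = true := by decide +kernel
theorem wu1297 : ∀ i, i < 29854 → fw i = true := below_step fw 29831 23 29854 wu1296 wc1297 rfl
theorem wc1298 : allBelow (fun k => fw (Nat.add 29854 k)) 23 = true := by decide +kernel
theorem wu1298 : ∀ i, i < 29877 → fw i = true := below_step fw 29854 23 29877 wu1297 wc1298 rfl
theorem wc1299 : allBelow (fun k => fw (Nat.add 29877 k)) 23 = true := by decide +kernel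
theorem wu1299 : ∀ i, i < 29900 → fw i = true := below_step fw 29877 23 29900 wu1298 wc1299 rfl
theorem wc1300 : allBelow (fun k => fw (Nat.add 29900 k)) 23 = true := by decide +kernel
theorem wu1300 : ∀ i, i < 29923 → fw i = true := below_step fw 29900 23 29923 wu1299 wc1300 rfl
theorem wc1301 : allBelow (fun k => fw (Nat.add 29923 k)) 23 = true := by decide +kernel
theorem wu1301 : ∀ i, i < 29946 → fw i = true := below_step fw 29923 23 29946 wu1300 wc1301 rfl
theorem wc1302 : allBelow (fun k => fw (Nat.add 29946 k)) 23 = true := by decide +kernel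
theorem wu1302 : ∀ i, i < 29969 → fw i = true := below_step fw 29946 23 29969 wu1301 wc1302 rfl
theorem wc1303 : allBelow (fun k => fw (Nat.add 29969 k)) 23 = true := by decide +kernel
theorem wu1303 : ∀ i, i < 29992 → fw i = true := below_step fw 29969 23 29992 wu1302 wc1303 rfl
theorem wc1304 : allBelow (fun k => fw (Nat.add 29992 k)) 23 = true := by decide +kernel
theorem wu1304 : ∀ i, i < 30015 → fw i = true := below_step fw 29992 23 30015 wu1303 wc1304 rfl
theorem wc1305 : allBelow (fun k => fw (Nat.add 30015 k)) 23 = true := by decide +kernel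
theorem wu1305 : ∀ i, i < 30038 → fw i = true := below_step fw 30015 23 30038 wu1304 wc1305 rfl
theorem wc1306 : allBelow (fun k => fw (Nat.add 30038 k)) 23 = true := by decide +kernel
theorem wu1306 : ∀ i, i < 30061 → fw i = true := below_step fw 30038 23 30061 wu1305 wc1306 rfl
theorem wc1307 : allBelow (fun k => fw (Nat.add 30061 k)) 23 = true := by decide +kernel
theorem wu1307 : ∀ i, i < 30084 → fw i = true := below_step fw 30061 23 30084 wu1306 wc1307 rfl
theorem wc1308 : allBelow (fun k => fw (Nat.add 30084 k)) 23 = true := by decide +kernel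
theorem wu1308 : ∀ i, i < 30107 → fw i = true := below_step fw 30084 23 30107 wu1307 wc1308 rfl
theorem wc1309 : allBelow (fun k => fw (Nat.add 30107 k)) 23 = true := by decide +kernel
theorem wu1309 : ∀ i, i < 30130 → fw i = true := below_step fw 30107 23 30130 wu1308 wc1309 rfl
theorem wc1310 : allBelow (fun k => fw (Nat.add 30130 k)) 23 = true := by decide +kernel
theorem wu1310 : ∀ i, i < 30153 → fw i = true := below_step fw 30130 23 30153 wu1309 wc1310 rfl
theorem wc1311 : allBelow (fun k => fw (Nat.add 30153 k)) 23 = true := by decide +kernel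
theorem wu1311 : ∀ i, i < 30176 → fw i = true := below_step fw 30153 23 30176 wu1310 wc1311 rfl
theorem wc1312 : allBelow (fun k => fw (Nat.add 30176 k)) 23 = true := by decide +kernel
theorem wu1312 : ∀ i, i < 30199 → fw i = true := below_step fw 30176 23 30199 wu1311 wc1312 rfl
theorem wc1313 : allBelow (fun k => fw (Nat.add 30199 k)) 23 = true := by decide +kernel
theorem wu1313 : ∀ i, i < 30222 → fw i = true := below_step fw 30199 23 30222 wu1312 wc1313 rfl
theorem wc1314 : allBelow (fun k => fw (Nat.add 30222 k)) 23 = true := by decide +kernel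
theorem wu1314 : ∀ i, i < 30245 → fw i = true := below_step fw 30222 23 30245 wu1313 wc1314 rfl
theorem wc1315 : allBelow (fun k => fw (Nat.add 30245 k)) 23 = true := by decide +kernel
theorem wu1315 : ∀ i, i < 30268 → fw i = true := below_step fw 30245 23 30268 wu1314 wc1315 rfl
theorem wc1316 : allBelow (fun k => fw (Nat.add 30268 k)) 23 = true := by decide +kernel
theorem wu1316 : ∀ i, i < 30291 → fw i = true := below_step fw 30268 23 30291 wu1315 wc1316 rfl
theorem wc1317 : allBelow (fun k => fw (Nat.add 30291 k)) 23 = true := by decide +kernel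
theorem wu1317 : ∀ i, i < 30314 → fw i = true := below_step fw 30291 23 30314 wu1316 wc1317 rfl
theorem wc1318 : allBelow (fun k => fw (Nat.add 30314 k)) 23 = true := by decide +kernel
theorem wu1318 : ∀ i, i < 30337 → fw i = true := below_step fw 30314 23 30337 wu1317 wc1318 rfl
theorem wc1319 : allBelow (fun k => fw (Nat.add 30337 k)) 23 = true := by decide +kernel
theorem wu1319 : ∀ i, i < 30360 → fw i = true := below_step fw 30337 23 30360 wu1318 wc1319 rfl
theorem wc1320 : allBelow (fun k => fw (Nat.add 30360 k)) 23 = true := by decide +kernel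
theorem wu1320 : ∀ i, i < 30383 → fw i = true := below_step fw 30360 23 30383 wu1319 wc1320 rfl
theorem wc1321 : allBelow (fun k => fw (Nat.add 30383 k)) 23 = true := by decide +kernel
theorem wu1321 : ∀ i, i < 30406 → fw i = true := below_step fw 30383 23 30406 wu1320 wc1321 rfl
theorem wc1322 : allBelow (fun k => fw (Nat.add 30406 k)) 23 = true := by decide +kernel
theorem wu1322 : ∀ i, i < 30429 → fw i = true := below_step fw 30406 23 30429 wu1321 wc1322 rfl
theorem wc1323 : allBelow (fun k => fw (Nat.add 30429 k)) 23 = true := by decide +kernel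
theorem wu1323 : ∀ i, i < 30452 → fw i = true := below_step fw 30429 23 30452 wu1322 wc1323 rfl
theorem wc1324 : allBelow (fun k => fw (Nat.add 30452 k)) 23 = true := by decide +kernel
theorem wu1324 : ∀ i, i < 30475 → fw i = true := below_step fw 30452 23 30475 wu1323 wc1324 rfl
theorem wc1325 : allBelow (fun k => fw (Nat.add 30475 k)) 23 = true := by decide +kernel
theorem wu1325 : ∀ i, i < 30498 → fw i = true := below_step fw 30475 23 30498 wu1324 wc1325 rfl
theorem wc1326 : allBelow (fun k => fw (Nat.add 30498 k)) 23 = true := by decide +kernel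
theorem wu1326 : ∀ i, i < 30521 → fw i = true := below_step fw 30498 23 30521 wu1325 wc1326 rfl
theorem wc1327 : allBelow (fun k => fw (Nat.add 30521 k)) 23 = true := by decide +kernel
theorem wu1327 : ∀ i, i < 30544 → fw i = true := below_step fw 30521 23 30544 wu1326 wc1327 rfl
theorem wc1328 : allBelow (fun k => fw (Nat.add 30544 k)) 23 = true := by decide +kernel
theorem wu1328 : ∀ i, i < 30567 → fw i = true := below_step fw 30544 23 30567 wu1327 wc1328 rfl
theorem wc1329 : allBelow (fun k => fw (Nat.add 30567 k)) 23 = true := by decide +kernel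
theorem wu1329 : ∀ i, i < 30590 → fw i = true := below_step fw 30567 23 30590 wu1328 wc1329 rfl
theorem wc1330 : allBelow (fun k => fw (Nat.add 30590 k)) 23 = true := by decide +kernel
theorem wu1330 : ∀ i, i < 30613 → fw i = true := below_step fw 30590 23 30613 wu1329 wc1330 rfl
theorem wc1331 : allBelow (fun k => fw (Nat.add 30613 k)) 23 = true := by decide +kernel
theorem wu1331 : ∀ i, i < 30636 → fw i = true := below_step fw 30613 23 30636 wu1330 wc1331 rfl
theorem wc1332 : allBelow (fun k => fw (Nat.add 30636 k)) 23 = true := by decide +kernel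
theorem wu1332 : ∀ i, i < 30659 → fw i = true := below_step fw 30636 23 30659 wu1331 wc1332 rfl
theorem wc1333 : allBelow (fun k => fw (Nat.add 30659 k)) 23 = true := by decide +kernel
theorem wu1333 : ∀ i, i < 30682 → fw i = true := below_step fw 30659 23 30682 wu1332 wc1333 rfl
theorem wc1334 : allBelow (fun k => fw (Nat.add 30682 k)) 23 = true := by decide +kernel
theorem wu1334 : ∀ i, i < 30705 → fw i = true := below_step fw 30682 23 30705 wu1333 wc1334 rfl
theorem wc1335 : allBelow (fun k => fw (Nat.add 30705 k)) 23 = true := by decide +kernel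
theorem wu1335 : ∀ i, i < 30728 → fw i = true := below_step fw 30705 23 30728 wu1334 wc1335 rfl
theorem wc1336 : allBelow (fun k => fw (Nat.add 30728 k)) 23 = true := by decide +kernel
theorem wu1336 : ∀ i, i < 30751 → fw i = true := below_step fw 30728 23 30751 wu1335 wc1336 rfl
theorem wc1337 : allBelow (fun k => fw (Nat.add 30751 k)) 23 = true := by decide +kernel
theorem wu1337 : ∀ i, i < 30774 → fw i = true := below_step fw 30751 23 30774 wu1336 wc1337 rfl
theorem wc1338 : allBelow (fun k => fw (Nat.add 30774 k)) 23 = true := by decide +kernel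
theorem wu1338 : ∀ i, i < 30797 → fw i = true := below_step fw 30774 23 30797 wu1337 wc1338 rfl
theorem wc1339 : allBelow (fun k => fw (Nat.add 30797 k)) 23 = true := by decide +kernel
theorem wu1339 : ∀ i, i < 30820 → fw i = true := below_step fw 30797 23 30820 wu1338 wc1339 rfl
theorem wc1340 : allBelow (fun k => fw (Nat.add 30820 k)) 23 = true := by decide +kernel
theorem wu1340 : ∀ i, i < 30843 → fw i = true := below_step fw 30820 23 30843 wu1339 wc1340 rfl
theorem wc1341 : allBelow (fun k => fw (Nat.add 30843 k)) 23 = true := by decide +kernel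
theorem wu1341 : ∀ i, i < 30866 → fw i = true := below_step fw 30843 23 30866 wu1340 wc1341 rfl
theorem wc1342 : allBelow (fun k => fw (Nat.add 30866 k)) 23 = true := by decide +kernel
theorem wu1342 : ∀ i, i < 30889 → fw i = true := below_step fw 30866 23 30889 wu1341 wc1342 rfl
theorem wc1343 : allBelow (fun k => fw (Nat.add 30889 k)) 23 = true := by decide +kernel
theorem wu1343 : ∀ i, i < 30912 → fw i = true := below_step fw 30889 23 30912 wu1342 wc1343 rfl
theorem wc1344 : allBelow (fun k => fw (Nat.add 30912 k)) 23 = true := by decide +kernel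
theorem wu1344 : ∀ i, i < 30935 → fw i = true := below_step fw 30912 23 30935 wu1343 wc1344 rfl
theorem wc1345 : allBelow (fun k => fw (Nat.add 30935 k)) 23 = true := by decide +kernel
theorem wu1345 : ∀ i, i < 30958 → fw i = true := below_step fw 30935 23 30958 wu1344 wc1345 rfl
theorem wc1346 : allBelow (fun k => fw (Nat.add 30958 k)) 23 = true := by decide +kernel
theorem wu1346 : ∀ i, i < 30981 → fw i = true := below_step fw 30958 23 30981 wu1345 wc1346 rfl
theorem wc1347 : allBelow (fun k => fw (Nat.add 30981 k)) 23 = true := by decide +kernel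
theorem wu1347 : ∀ i, i < 31004 → fw i = true := below_step fw 30981 23 31004 wu1346 wc1347 rfl
theorem wc1348 : allBelow (fun k => fw (Nat.add 31004 k)) 23 = true := by decide +kernel
theorem wu1348 : ∀ i, i < 31027 → fw i = true := below_step fw 31004 23 31027 wu1347 wc1348 rfl
theorem wc1349 : allBelow (fun k => fw (Nat.add 31027 k)) 23 = true := by decide +kernel
theorem wu1349 : ∀ i, i < 31050 → fw i = true := below_step fw 31027 23 31050 wu1348 wc1349 rfl
theorem wc1350 : allBelow (fun k => fw (Nat.add 31050 k)) 23 = true := by decide +kernel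
theorem wu1350 : ∀ i, i < 31073 → fw i = true := below_step fw 31050 23 31073 wu1349 wc1350 rfl
theorem wc1351 : allBelow (fun k => fw (Nat.add 31073 k)) 23 = true := by decide +kernel
theorem wu1351 : ∀ i, i < 31096 → fw i = true := below_step fw 31073 23 31096 wu1350 wc1351 rfl
theorem wc1352 : allBelow (fun k => fw (Nat.add 31096 k)) 23 = true := by decide +kernel
theorem wu1352 : ∀ i, i < 31119 → fw i = true := below_step fw 31096 23 31119 wu1351 wc1352 rfl
theorem wc1353 : allBelow (fun k => fw (Nat.add 31119 k)) 23 = true := by decide +kernel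
theorem wu1353 : ∀ i, i < 31142 → fw i = true := below_step fw 31119 23 31142 wu1352 wc1353 rfl
theorem wc1354 : allBelow (fun k => fw (Nat.add 31142 k)) 23 = true := by decide +kernel
theorem wu1354 : ∀ i, i < 31165 → fw i = true := below_step fw 31142 23 31165 wu1353 wc1354 rfl
theorem wc1355 : allBelow (fun k => fw (Nat.add 31165 k)) 23 = true := by decide +kernel
theorem wu1355 : ∀ i, i < 31188 → fw i = true := below_step fw 31165 23 31188 wu1354 wc1355 rfl
theorem wc1356 : allBelow (fun k => fw (Nat.add 31188 k)) 23 = true := by decide +kernel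
theorem wu1356 : ∀ i, i < 31211 → fw i = true := below_step fw 31188 23 31211 wu1355 wc1356 rfl
theorem wc1357 : allBelow (fun k => fw (Nat.add 31211 k)) 23 = true := by decide +kernel
theorem wu1357 : ∀ i, i < 31234 → fw i = true := below_step fw 31211 23 31234 wu1356 wc1357 rfl
theorem wc1358 : allBelow (fun k => fw (Nat.add 31234 k)) 23 = true := by decide +kernel
theorem wu1358 : ∀ i, i < 31257 → fw i = true := below_step fw 31234 23 31257 wu1357 wc1358 rfl
theorem wc1359 : allBelow (fun k => fw (Nat.add 31257 k)) 23 = true := by decide +kernel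
theorem wu1359 : ∀ i, i < 31280 → fw i = true := below_step fw 31257 23 31280 wu1358 wc1359 rfl
theorem wc1360 : allBelow (fun k => fw (Nat.add 31280 k)) 23 = true := by decide +kernel
theorem wu1360 : ∀ i, i < 31303 → fw i = true := below_step fw 31280 23 31303 wu1359 wc1360 rfl
theorem wc1361 : allBelow (fun k => fw (Nat.add 31303 k)) 23 = true := by decide +kernel
theorem wu1361 : ∀ i, i < 31326 → fw i = true := below_step fw 31303 23 31326 wu1360 wc1361 rfl
theorem wc1362 : allBelow (fun k => fw (Nat.add 31326 k)) 23 = true := by decide +kernel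
theorem wu1362 : ∀ i, i < 31349 → fw i = true := below_step fw 31326 23 31349 wu1361 wc1362 rfl
theorem wc1363 : allBelow (fun k => fw (Nat.add 31349 k)) 23 = true := by decide +kernel
theorem wu1363 : ∀ i, i < 31372 → fw i = true := below_step fw 31349 23 31372 wu1362 wc1363 rfl
theorem wc1364 : allBelow (fun k => fw (Nat.add 31372 k)) 23 = true := by decide +kernel
theorem wu1364 : ∀ i, i < 31395 → fw i = true := below_step fw 31372 23 31395 wu1363 wc1364 rfl
theorem wc1365 : allBelow (fun k => fw (Nat.add 31395 k)) 23 = true := by decide +kernel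
theorem wu1365 : ∀ i, i < 31418 → fw i = true := below_step fw 31395 23 31418 wu1364 wc1365 rfl
theorem wc1366 : allBelow (fun k => fw (Nat.add 31418 k)) 23 = true := by decide +kernel
theorem wu1366 : ∀ i, i < 31441 → fw i = true := below_step fw 31418 23 31441 wu1365 wc1366 rfl
theorem wc1367 : allBelow (fun k => fw (Nat.add 31441 k)) 23 = true := by decide +kernel
theorem wu1367 : ∀ i, i < 31464 → fw i = true := below_step fw 31441 23 31464 wu1366 wc1367 rfl
theorem wc1368 : allBelow (fun k => fw (Nat.add 31464 k)) 23 = true := by decide +kernel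
theorem wu1368 : ∀ i, i < 31487 → fw i = true := below_step fw 31464 23 31487 wu1367 wc1368 rfl
theorem wc1369 : allBelow (fun k => fw (Nat.add 31487 k)) 23 = true := by decide +kernel
theorem wu1369 : ∀ i, i < 31510 → fw i = true := below_step fw 31487 23 31510 wu1368 wc1369 rfl
theorem wc1370 : allBelow (fun k => fw (Nat.add 31510 k)) 23 = true := by decide +kernel
theorem wu1370 : ∀ i, i < 31533 → fw i = true := below_step fw 31510 23 31533 wu1369 wc1370 rfl
theorem wc1371 : allBelow (fun k => fw (Nat.add 31533 k)) 23 = true := by decide +kernel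
theorem wu1371 : ∀ i, i < 31556 → fw i = true := below_step fw 31533 23 31556 wu1370 wc1371 rfl
theorem wc1372 : allBelow (fun k => fw (Nat.add 31556 k)) 23 = true := by decide +kernel
theorem wu1372 : ∀ i, i < 31579 → fw i = true := below_step fw 31556 23 31579 wu1371 wc1372 rfl
theorem wc1373 : allBelow (fun k => fw (Nat.add 31579 k)) 23 = true := by decide +kernel
theorem wu1373 : ∀ i, i < 31602 → fw i = true := below_step fw 31579 23 31602 wu1372 wc1373 rfl
theorem wc1374 : allBelow (fun k => fw (Nat.add 31602 k)) 23 = true := by decide +kernel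
theorem wu1374 : ∀ i, i < 31625 → fw i = true := below_step fw 31602 23 31625 wu1373 wc1374 rfl
theorem wc1375 : allBelow (fun k => fw (Nat.add 31625 k)) 23 = true := by decide +kernel
theorem wu1375 : ∀ i, i < 31648 → fw i = true := below_step fw 31625 23 31648 wu1374 wc1375 rfl
theorem wc1376 : allBelow (fun k => fw (Nat.add 31648 k)) 23 = true := by decide +kernel
theorem wu1376 : ∀ i, i < 31671 → fw i = true := below_step fw 31648 23 31671 wu1375 wc1376 rfl

end Cfsg.Agent.Lib.Helper35.Fi23Tr.X
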