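import Cfsg.Agent.Lib.Helper35.Fi23a.Perm
import Cfsg.Agent.Lib.Helper35.Simple3

namespace Cfsg.Agent.Lib.Helper35.Fi23Tr.X

open Cfsg.Agent.Lib.Helper35

set_option maxRecDepth 100000
noncomputable section
def wl0 : PLeaf Fi23a.pt := ⟨[7, 7], (fun i => (Fi23a.p7 (Fi23a.p7 i))), fun _ => rfl⟩
def wl1 : PLeaf Fi23a.pt := ⟨[7, 6, 5, 4, 3, 8, 2, 3, 4, 5, 6, 7, 7, 6, 5, 4, 3, 2, 8, 3, 4, 5, 6, 7], (fun i => (Fi23a.p7 (Fi23a.p6 (Fi23a.p5 (Fi23a.p4 (Fi23a.p3 (Fi23a.p8 (Fi23a.p2 (Fi23a.p3 (Fi23a.p4 (Fi23a.p5 (Fi23a.p6 (Fi23a.p7 (Fi23a.p7 (Fi23a.p6 (Fi23a.p5 (Fi23a.p4 (Fi23a.p3 (Fi23a.p2 (Fi23a.p8 (Fi23a.p3 (Fi23a.p4 (Fi23a.p5 (Fi23a.p6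 (Fi23a.p7 i))))))))))))))))))))))))), fun _ => rfl⟩
def wl2 : PLeaf Fi23a.pt := ⟨[1, 2, 3, 4, 5, 6, 8, 1, 2, 3, 4, 5, 6, 8, 1, 2, 3, 4, 5, 6, 8, 1, 2, 3, 4, 5, 6, 8, 1, 2, 3, 4, 5, 6, 8, 1, 2, 3, 4, 5, 6, 8, 1, 2, 3, 4, 5, 6, 8, 1, 2, 3, 4, 5, 6, 8, 1, 2, 3, 4, 5, 6, 8, 7, 1, 2, 3, 4, 5, 6, 8, 1, 2, 3, 4, 5, 6, 8, 1, 2, 3, 4, 5, 6, 8, 1, 2, 3, 4, 5, 6, 8, 1, 2, 3, 4, 5, 6, 8, 1, 2, 3, 4, 5, 6, 8, 1, 2, 3, 4, 5, 6, 8, 1, 2, 3, 4, 5, 6, 8, 1, 2, 3, 4, 5, 6, 8, 7, 1, 2, 3, 4, 5, 6, 8, 1, 2, 3, 4, 5, 6, 8, 1, 2, 3, 4, 5, 6, 8, 1, 2, 3, 4, 5, 6, 8, 1, 2, 3, 4, 5, 6, 8, 1, 2, 3, 4, 5, 6, 8, 1, 2, 3, 4, 5, 6, 8, 1, 2, 3, 4, 5, 6, 8,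 1, 2, 3, 4, 5, 6, 8, 7, 1, 2, 3, 4, 5, 6, 8, 1, 2, 3, 4, 5, 6, 8, 1, 2, 3, 4, 5, 6, 8, 1, 2, 3, 4, 5, 6, 8, 1, 2, 3, 4, 5, 6, 8, 1, 2, 3, 4, 5, 6, 8, 1, 2, 3, 4, 5, 6, 8, 1, 2, 3, 4, 5, 6, 8, 1, 2, 3, 4, 5, 6, 8, 7, 1, 2, 3, 4, 5, 6, 8, 1, 2, 3, 4, 5, 6, 8, 1, 2, 3, 4, 5, 6, 8, 1, 2, 3, 4, 5, 6, 8, 1, 2, 3, 4, 5, 6, 8, 1, 2, 3, 4, 5, 6, 8, 1, 2, 3, 4, 5, 6, 8, 1, 2, 3, 4, 5, 6, 8, 1, 2, 3, 4, 5, 6, 8, 7, 1, 2, 3, 4, 5, 6, 8, 1, 2, 3, 4, 5, 6, 8, 1, 2, 3, 4, 5, 6, 8, 1, 2, 3, 4, 5, 6, 8, 1, 2, 3, 4, 5, 6, 8, 1, 2, 3, 4, 5, 6, 8, 1, 2, 3, 4, 5, 6, 8, 1, 2, 3, 4, 5, 6, 8, 1, 2, 3, 4, 5, 6, 8, 7], (fun i => (Fi23a.p7 (Fi23a.p8 (Fi23a.p6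 (Fi23a.p5 (Fi23a.p4 (Fi23a.p3 (Fi23a.p2 (Fi23a.p1 (Fi23a.p8 (Fi23a.p6 (Fi23a.p5 (Fi23a.p4 (Fi23a.p3 (Fi23a.p2 (Fi23a.p1 (Fi23a.p8 (Fi23a.p6 (Fi23a.p5 (Fi23a.p4 (Fi23a.p3 (Fi23a.p2 (Fi23a.p1 (Fi23a.p8 (Fi23a.p6 (Fi23a.p5 (Fi23a.p4 (Fi23a.p3 (Fi23a.p2 (Fi23a.p1 (Fi23a.p8 (Fi23a.p6 (Fi23a.p5 (Fi23a.p4 (Fi23a.p3 (Fi23a.p2 (Fi23a.p1 (Fi23a.p8 (Fi23a.p6 (Fi23a.p5 (Fi23a.p4 (Fi23a.p3 (Fi23a.p2 (Fi23a.p1 (Fi23a.p8 (Fi23a.p6 (Fi23a.p5 (Fi23a.p4 (Fi23a.p3 (Fi23a.p2 (Fi23a.p1 (Fi23a.p8 (Fi23a.p6 (Fi23a.p5 (Fi23a.p4 (Fi23a.p3 (Fi23a.p2 (Fi23a.p1 (Fi23a.p8 (Fi23a.p6 (Fi23a.p5 (Fi23a.p4 (Fi23a.p3 (Fi23a.p2 (Fi23a.p1 (Fi23a.p7 (Fi23a.p8 (Fi23a.p6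 (Fi23a.p5 (Fi23a.p4 (Fi23a.p3 (Fi23a.p2 (Fi23a.p1 (Fi23a.p8 (Fi23a.p6 (Fi23a.p5 (Fi23a.p4 (Fi23a.p3 (Fi23a.p2 (Fi23a.p1 (Fi23a.p8 (Fi23a.p6 (Fi23a.p5 (Fi23a.p4 (Fi23a.p3 (Fi23a.p2 (Fi23a.p1 (Fi23a.p8 (Fi23a.p6 (Fi23a.p5 (Fi23a.p4 (Fi23a.p3 (Fi23a.p2 (Fi23a.p1 (Fi23a.p8 (Fi23a.p6 (Fi23a.p5 (Fi23a.p4 (Fi23a.p3 (Fi23a.p2 (Fi23a.p1 (Fi23a.p8 (Fi23a.p6 (Fi23a.p5 (Fi23a.p4 (Fi23a.p3 (Fi23a.p2 (Fi23a.p1 (Fi23a.p8 (Fi23a.p6 (Fi23a.p5 (Fi23a.p4 (Fi23a.p3 (Fi23a.p2 (Fi23a.p1 (Fi23a.p8 (Fi23a.p6 (Fi23a.p5 (Fi23a.p4 (Fi23a.p3 (Fi23a.p2 (Fi23a.p1 (Fi23a.p8 (Fi23a.p6 (Fi23a.p5 (Fi23a.p4 (Fi23a.p3 (Fi23a.p2 (Fi23a.p1 (Fi23a.p7 (Fi23a.p8 (Fi23a.p6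 (Fi23a.p5 (Fi23a.p4 (Fi23a.p3 (Fi23a.p2 (Fi23a.p1 (Fi23a.p8 (Fi23a.p6 (Fi23a.p5 (Fi23a.p4 (Fi23a.p3 (Fi23a.p2 (Fi23a.p1 (Fi23a.p8 (Fi23a.p6 (Fi23a.p5 (Fi23a.p4 (Fi23a.p3 (Fi23a.p2 (Fi23a.p1 (Fi23a.p8 (Fi23a.p6 (Fi23a.p5 (Fi23a.p4 (Fi23a.p3 (Fi23a.p2 (Fi23a.p1 (Fi23a.p8 (Fi23a.p6 (Fi23a.p5 (Fi23a.p4 (Fi23a.p3 (Fi23a.p2 (Fi23a.p1 (Fi23a.p8 (Fi23a.p6 (Fi23a.p5 (Fi23a.p4 (Fi23a.p3 (Fi23a.p2 (Fi23a.p1 (Fi23a.p8 (Fi23a.p6 (Fi23a.p5 (Fi23a.p4 (Fi23a.p3 (Fi23a.p2 (Fi23a.p1 (Fi23a.p8 (Fi23a.p6 (Fi23a.p5 (Fi23a.p4 (Fi23a.p3 (Fi23a.p2 (Fi23a.p1 (Fi23a.p8 (Fi23a.p6 (Fi23a.p5 (Fi23a.p4 (Fi23a.p3 (Fi23a.p2 (Fi23a.p1 (Fi23a.p7 (Fi23a.p8 (Fi23a.p6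 (Fi23a.p5 (Fi23a.p4 (Fi23a.p3 (Fi23a.p2 (Fi23a.p1 (Fi23a.p8 (Fi23a.p6 (Fi23a.p5 (Fi23a.p4 (Fi23a.p3 (Fi23a.p2 (Fi23a.p1 (Fi23a.p8 (Fi23a.p6 (Fi23a.p5 (Fi23a.p4 (Fi23a.p3 (Fi23a.p2 (Fi23a.p1 (Fi23a.p8 (Fi23a.p6 (Fi23a.p5 (Fi23a.p4 (Fi23a.p3 (Fi23a.p2 (Fi23a.p1 (Fi23a.p8 (Fi23a.p6 (Fi23a.p5 (Fi23a.p4 (Fi23a.p3 (Fi23a.p2 (Fi23a.p1 (Fi23a.p8 (Fi23a.p6 (Fi23a.p5 (Fi23a.p4 (Fi23a.p3 (Fi23a.p2 (Fi23a.p1 (Fi23a.p8 (Fi23a.p6 (Fi23a.p5 (Fi23a.p4 (Fi23a.p3 (Fi23a.p2 (Fi23a.p1 (Fi23a.p8 (Fi23a.p6 (Fi23a.p5 (Fi23a.p4 (Fi23a.p3 (Fi23a.p2 (Fi23a.p1 (Fi23a.p8 (Fi23a.p6 (Fi23a.p5 (Fi23a.p4 (Fi23a.p3 (Fi23a.p2 (Fi23a.p1 (Fi23a.p7 (Fi23a.p8 (Fi23a.p6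 (Fi23a.p5 (Fi23a.p4 (Fi23a.p3 (Fi23a.p2 (Fi23a.p1 (Fi23a.p8 (Fi23a.p6 (Fi23a.p5 (Fi23a.p4 (Fi23a.p3 (Fi23a.p2 (Fi23a.p1 (Fi23a.p8 (Fi23a.p6 (Fi23a.p5 (Fi23a.p4 (Fi23a.p3 (Fi23a.p2 (Fi23a.p1 (Fi23a.p8 (Fi23a.p6 (Fi23a.p5 (Fi23a.p4 (Fi23a.p3 (Fi23a.p2 (Fi23a.p1 (Fi23a.p8 (Fi23a.p6 (Fi23a.p5 (Fi23a.p4 (Fi23a.p3 (Fi23a.p2 (Fi23a.p1 (Fi23a.p8 (Fi23a.p6 (Fi23a.p5 (Fi23a.p4 (Fi23a.p3 (Fi23a.p2 (Fi23a.p1 (Fi23a.p8 (Fi23a.p6 (Fi23a.p5 (Fi23a.p4 (Fi23a.p3 (Fi23a.p2 (Fi23a.p1 (Fi23a.p8 (Fi23a.p6 (Fi23a.p5 (Fi23a.p4 (Fi23a.p3 (Fi23a.p2 (Fi23a.p1 (Fi23a.p8 (Fi23a.p6 (Fi23a.p5 (Fi23a.p4 (Fi23a.p3 (Fi23a.p2 (Fi23a.p1 (Fi23a.p7 (Fi23a.p8 (Fi23a.p6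 (Fi23a.p5 (Fi23a.p4 (Fi23a.p3 (Fi23a.p2 (Fi23a.p1 (Fi23a.p8 (Fi23a.p6 (Fi23a.p5 (Fi23a.p4 (Fi23a.p3 (Fi23a.p2 (Fi23a.p1 (Fi23a.p8 (Fi23a.p6 (Fi23a.p5 (Fi23a.p4 (Fi23a.p3 (Fi23a.p2 (Fi23a.p1 (Fi23a.p8 (Fi23a.p6 (Fi23a.p5 (Fi23a.p4 (Fi23a.p3 (Fi23a.p2 (Fi23a.p1 (Fi23a.p8 (Fi23a.p6 (Fi23a.p5 (Fi23a.p4 (Fi23a.p3 (Fi23a.p2 (Fi23a.p1 (Fi23a.p8 (Fi23a.p6 (Fi23a.p5 (Fi23a.p4 (Fi23a.p3 (Fi23a.p2 (Fi23a.p1 (Fi23a.p8 (Fi23a.p6 (Fi23a.p5 (Fi23a.p4 (Fi23a.p3 (Fi23a.p2 (Fi23a.p1 (Fi23a.p8 (Fi23a.p6 (Fi23a.p5 (Fi23a.p4 (Fi23a.p3 (Fi23a.p2 (Fi23a.p1 (Fi23a.p8 (Fi23a.p6 (Fi23a.p5 (Fi23a.p4 (Fi23a.p3 (Fi23a.p2 (Fi23a.p1 i))))))))))))))))))))))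))))))))))))))))))))))))))))))))))))))))))))))))))))))))))))))))))))))))))))))))))))))))))))))))))))))))))))))))))))))))))))))))))))))))))))))))))))))))))))))))))))))))))))))))))))))))))))))))))))))))))))))))))))))))))))))))))))))))))))))))))))))))))))))))))))))))))))))))))))))))))))))))))))))))))))))))))))))))))))))))))))))))))))))))))))))))))))))))))))))))))), fun _ => rfl⟩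
def wl3 : PLeaf Fi23a.pt := ⟨[1, 2, 3, 4, 5, 6, 8, 1, 2, 3, 4, 5, 6, 8, 1, 2, 3, 4, 5, 6, 8, 1, 2, 3, 4, 5, 6, 8, 1, 2, 3, 4, 5, 6, 8, 1, 2, 3, 4, 5, 6, 8, 1, 2, 3, 4, 5, 6, 8, 1, 2, 3, 4, 5, 6, 8, 1, 2, 3, 4, 5, 6, 8, 7, 6, 5, 4, 3, 8, 2, 3, 4, 5, 6, 7, 1, 2, 3, 4, 5, 6, 8, 1, 2, 3, 4, 5, 6, 8, 1, 2, 3, 4, 5, 6, 8, 1, 2, 3, 4, 5, 6, 8, 1, 2, 3, 4, 5, 6, 8, 1, 2, 3, 4, 5, 6, 8, 1, 2, 3, 4, 5, 6, 8, 1, 2, 3, 4, 5, 6, 8, 1, 2, 3, 4, 5, 6, 8, 7, 6, 5, 4, 3, 2, 8, 3, 4, 5, 6, 7, 1, 2, 3, 4, 5, 6, 8, 1, 2, 3, 4, 5, 6, 8, 1, 2, 3, 4, 5, 6, 8, 1, 2, 3, 4, 5, 6, 8, 1, 2, 3, 4, 5, 6, 8, 1, 2, 3, 4, 5, 6, 8, 1, 2, 3, 4, 5, 6, 8, 1, 2, 3,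 4, 5, 6, 8, 1, 2, 3, 4, 5, 6, 8, 7, 6, 5, 4, 3, 8, 2, 3, 4, 5, 6, 7, 1, 2, 3, 4, 5, 6, 8, 1, 2, 3, 4, 5, 6, 8, 1, 2, 3, 4, 5, 6, 8, 1, 2, 3, 4, 5, 6, 8, 1, 2, 3, 4, 5, 6, 8, 1, 2, 3, 4, 5, 6, 8, 1, 2, 3, 4, 5, 6, 8, 1, 2, 3, 4, 5, 6, 8, 1, 2, 3, 4, 5, 6, 8, 7, 6, 5, 4, 3, 2, 8, 3, 4, 5, 6, 7], (fun i => (Fi23a.p7 (Fi23a.p6 (Fi23a.p5 (Fi23a.p4 (Fi23a.p3 (Fi23a.p8 (Fi23a.p2 (Fi23a.p3 (Fi23a.p4 (Fi23a.p5 (Fi23a.p6 (Fi23a.p7 (Fi23a.p8 (Fi23a.p6 (Fi23a.p5 (Fi23a.p4 (Fi23a.p3 (Fi23a.p2 (Fi23a.p1 (Fi23a.p8 (Fi23a.p6 (Fi23a.p5 (Fi23a.p4 (Fi23a.p3 (Fi23a.p2 (Fi23a.p1 (Fi23a.p8 (Fi23a.p6 (Fi23a.p5 (Fi23a.p4 (Fi23a.p3 (Fi23a.p2 (Fi23a.p1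 (Fi23a.p8 (Fi23a.p6 (Fi23a.p5 (Fi23a.p4 (Fi23a.p3 (Fi23a.p2 (Fi23a.p1 (Fi23a.p8 (Fi23a.p6 (Fi23a.p5 (Fi23a.p4 (Fi23a.p3 (Fi23a.p2 (Fi23a.p1 (Fi23a.p8 (Fi23a.p6 (Fi23a.p5 (Fi23a.p4 (Fi23a.p3 (Fi23a.p2 (Fi23a.p1 (Fi23a.p8 (Fi23a.p6 (Fi23a.p5 (Fi23a.p4 (Fi23a.p3 (Fi23a.p2 (Fi23a.p1 (Fi23a.p8 (Fi23a.p6 (Fi23a.p5 (Fi23a.p4 (Fi23a.p3 (Fi23a.p2 (Fi23a.p1 (Fi23a.p8 (Fi23a.p6 (Fi23a.p5 (Fi23a.p4 (Fi23a.p3 (Fi23a.p2 (Fi23a.p1 (Fi23a.p7 (Fi23a.p6 (Fi23a.p5 (Fi23a.p4 (Fi23a.p3 (Fi23a.p2 (Fi23a.p8 (Fi23a.p3 (Fi23a.p4 (Fi23a.p5 (Fi23a.p6 (Fi23a.p7 (Fi23a.p8 (Fi23a.p6 (Fi23a.p5 (Fi23a.p4 (Fi23a.p3 (Fi23a.p2 (Fi23a.p1 (Fi23a.p8 (Fi23a.p6 (Fi23a.p5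 (Fi23a.p4 (Fi23a.p3 (Fi23a.p2 (Fi23a.p1 (Fi23a.p8 (Fi23a.p6 (Fi23a.p5 (Fi23a.p4 (Fi23a.p3 (Fi23a.p2 (Fi23a.p1 (Fi23a.p8 (Fi23a.p6 (Fi23a.p5 (Fi23a.p4 (Fi23a.p3 (Fi23a.p2 (Fi23a.p1 (Fi23a.p8 (Fi23a.p6 (Fi23a.p5 (Fi23a.p4 (Fi23a.p3 (Fi23a.p2 (Fi23a.p1 (Fi23a.p8 (Fi23a.p6 (Fi23a.p5 (Fi23a.p4 (Fi23a.p3 (Fi23a.p2 (Fi23a.p1 (Fi23a.p8 (Fi23a.p6 (Fi23a.p5 (Fi23a.p4 (Fi23a.p3 (Fi23a.p2 (Fi23a.p1 (Fi23a.p8 (Fi23a.p6 (Fi23a.p5 (Fi23a.p4 (Fi23a.p3 (Fi23a.p2 (Fi23a.p1 (Fi23a.p8 (Fi23a.p6 (Fi23a.p5 (Fi23a.p4 (Fi23a.p3 (Fi23a.p2 (Fi23a.p1 (Fi23a.p7 (Fi23a.p6 (Fi23a.p5 (Fi23a.p4 (Fi23a.p3 (Fi23a.p8 (Fi23a.p2 (Fi23a.p3 (Fi23a.p4 (Fi23a.p5 (Fi23a.p6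 (Fi23a.p7 (Fi23a.p8 (Fi23a.p6 (Fi23a.p5 (Fi23a.p4 (Fi23a.p3 (Fi23a.p2 (Fi23a.p1 (Fi23a.p8 (Fi23a.p6 (Fi23a.p5 (Fi23a.p4 (Fi23a.p3 (Fi23a.p2 (Fi23a.p1 (Fi23a.p8 (Fi23a.p6 (Fi23a.p5 (Fi23a.p4 (Fi23a.p3 (Fi23a.p2 (Fi23a.p1 (Fi23a.p8 (Fi23a.p6 (Fi23a.p5 (Fi23a.p4 (Fi23a.p3 (Fi23a.p2 (Fi23a.p1 (Fi23a.p8 (Fi23a.p6 (Fi23a.p5 (Fi23a.p4 (Fi23a.p3 (Fi23a.p2 (Fi23a.p1 (Fi23a.p8 (Fi23a.p6 (Fi23a.p5 (Fi23a.p4 (Fi23a.p3 (Fi23a.p2 (Fi23a.p1 (Fi23a.p8 (Fi23a.p6 (Fi23a.p5 (Fi23a.p4 (Fi23a.p3 (Fi23a.p2 (Fi23a.p1 (Fi23a.p8 (Fi23a.p6 (Fi23a.p5 (Fi23a.p4 (Fi23a.p3 (Fi23a.p2 (Fi23a.p1 (Fi23a.p8 (Fi23a.p6 (Fi23a.p5 (Fi23a.p4 (Fi23a.p3 (Fi23a.p2 (Fi23a.p1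 (Fi23a.p7 (Fi23a.p6 (Fi23a.p5 (Fi23a.p4 (Fi23a.p3 (Fi23a.p2 (Fi23a.p8 (Fi23a.p3 (Fi23a.p4 (Fi23a.p5 (Fi23a.p6 (Fi23a.p7 (Fi23a.p8 (Fi23a.p6 (Fi23a.p5 (Fi23a.p4 (Fi23a.p3 (Fi23a.p2 (Fi23a.p1 (Fi23a.p8 (Fi23a.p6 (Fi23a.p5 (Fi23a.p4 (Fi23a.p3 (Fi23a.p2 (Fi23a.p1 (Fi23a.p8 (Fi23a.p6 (Fi23a.p5 (Fi23a.p4 (Fi23a.p3 (Fi23a.p2 (Fi23a.p1 (Fi23a.p8 (Fi23a.p6 (Fi23a.p5 (Fi23a.p4 (Fi23a.p3 (Fi23a.p2 (Fi23a.p1 (Fi23a.p8 (Fi23a.p6 (Fi23a.p5 (Fi23a.p4 (Fi23a.p3 (Fi23a.p2 (Fi23a.p1 (Fi23a.p8 (Fi23a.p6 (Fi23a.p5 (Fi23a.p4 (Fi23a.p3 (Fi23a.p2 (Fi23a.p1 (Fi23a.p8 (Fi23a.p6 (Fi23a.p5 (Fi23a.p4 (Fi23a.p3 (Fi23a.p2 (Fi23a.p1 (Fi23a.p8 (Fi23a.p6 (Fi23a.p5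 (Fi23a.p4 (Fi23a.p3 (Fi23a.p2 (Fi23a.p1 (Fi23a.p8 (Fi23a.p6 (Fi23a.p5 (Fi23a.p4 (Fi23a.p3 (Fi23a.p2 (Fi23a.p1 i))))))))))))))))))))))))))))))))))))))))))))))))))))))))))))))))))))))))))))))))))))))))))))))))))))))))))))))))))))))))))))))))))))))))))))))))))))))))))))))))))))))))))))))))))))))))))))))))))))))))))))))))))))))))))))))))))))))))))))))))))))))))))))))))))))))))))))))))))))))))))))))))))))))))))))), fun _ => rfl⟩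
def wls : List (PLeaf Fi23a.pt) := [wl0, wl1, wl2, wl3]
noncomputable def fw (i : Nat) : Bool := fixAll wls i

end

end Cfsg.Agent.Lib.Helper35.Fi23Tr.X
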